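import Mathlib

/-!
# Abelian groups of automorphisms without invariant subgroups are cyclic
-/

set_option autoImplicit false

namespace Cfsg.Agent.RelMcKay

universe u v

/-- A group with commuting operators on a finite abelian group, whose kernel is exactly the kernel of
the action and which leaves no proper subgroup invariant, has cyclic image. -/
theorem isCyclic_of_irreducible {V : Type u} [CommGroup V] [Finite V] [Nontrivial V] {A : Type v}
    [Group A] (f : A →* MulAut V) (hcomm : ∀ a b : A, f a * f b = f b * f a)
    (hirr : ∀ U : Subgroup V, (∀ a : A, ∀ v ∈ U, f a v ∈ U) → U = ⊥ ∨ U = ⊤) :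
    IsCyclic f.range := by
  let τ : MulAut V →* AddMonoid.End (Additive V) :=
    { toFun := fun g => MonoidHom.toAdditive g.toMonoidHom
      map_one' := rfl
      map_mul' := fun _ _ => rfl }
  have hτi : Function.Injective τ := fun g g' h => MulEquiv.ext fun v =>
    congrArg Additive.toMul (congrFun (congrArg DFunLike.coe h) (Additive.ofMul v))
  set s : Set (AddMonoid.End (Additive V)) := Set.range fun a : A => τ (f a) with hs
  have hc : ∀ x ∈ s, ∀ y ∈ s, x * y = y * x := by
    rintro _ ⟨a, rfl⟩ _ ⟨b, rfl⟩
    show τ (f a) * τ (f b) = τ (f b) * τ (f a)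
    rw [← map_mul τ, hcomm, map_mul τ]
  letI : CommRing (Subring.closure s) := Subring.closureCommRingOfComm hc
  have hker : ∀ x : Subring.closure s, x ≠ 0 → ∀ v : Additive V,
      (x : AddMonoid.End (Additive V)) v = 0 → v = 0 := by
    intro x hx v hv
    let U : Subgroup V :=
      { carrier := {c | (x : AddMonoid.End (Additive V)) (Additive.ofMul c) = 0}
        one_mem' := map_zero _
        mul_mem' := fun {c d} hc hd => by
          show (x : AddMonoid.End (Additive V)) (Additive.ofMul c + Additive.ofMul d) = 0
          rw [map_add, hc, hd, add_zero]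
        inv_mem' := fun {c} hc => by
          show (x : AddMonoid.End (Additive V)) (-Additive.ofMul c) = 0
          rw [map_neg, hc, neg_zero] }
    rcases hirr U fun a c hc => by
      have e : x * ⟨τ (f a), Subring.subset_closure ⟨a, rfl⟩⟩ =
          (⟨τ (f a), Subring.subset_closure ⟨a, rfl⟩⟩ : Subring.closure s) * x := mul_comm _ _
      have e' := congrFun (congrArg DFunLike.coe (congrArg Subtype.val e)) (Additive.ofMul c)
      show (x : AddMonoid.End (Additive V)) (τ (f a) (Additive.ofMul c)) = 0
      refine e'.trans ?_
      show τ (f a) ((x : AddMonoid.End (Additive V)) (Additive.ofMul c)) = 0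
      rw [show (x : AddMonoid.End (Additive V)) (Additive.ofMul c) = 0 from hc, map_zero]
      with h | h
    · have hm : Additive.toMul v ∈ U := hv
      rw [h, Subgroup.mem_bot] at hm
      exact hm
    · exact absurd (Subtype.ext (AddMonoidHom.ext fun c => by
        have hm : Additive.toMul c ∈ U := h ▸ Subgroup.mem_top _
        exact hm)) hx
  haveI : Nontrivial (Subring.closure s) := by
    obtain ⟨v, hv⟩ := exists_ne (1 : V)
    refine ⟨0, 1, fun h => hv ?_⟩
    exact (congrArg Additive.toMul (congrFun (congrArg DFunLike.coe (congrArg Subtype.val h))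
      (Additive.ofMul v))).symm
  haveI : NoZeroDivisors (Subring.closure s) := ⟨fun {x y} hxy => by
    by_contra hne
    push Not at hne
    refine hne.2 (Subtype.ext (AddMonoidHom.ext fun v => hker x hne.1 _ ?_))
    exact congrFun (congrArg DFunLike.coe (congrArg Subtype.val hxy)) v⟩
  haveI : IsDomain (Subring.closure s) := NoZeroDivisors.to_isDomain _
  haveI : Finite (MulAut V) := Finite.of_injective (fun g => (g : V → V)) DFunLike.coe_injective
  let φ : f.range →* Subring.closure s :=
    { toFun := fun g => ⟨τ g, by
        obtain ⟨a, ha⟩ := g.2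
        exact ha ▸ Subring.subset_closure ⟨a, rfl⟩⟩
      map_one' := Subtype.ext (map_one τ)
      map_mul' := fun a b => Subtype.ext (map_mul τ _ _) }
  exact isCyclic_of_subgroup_isDomain φ fun a b h => Subtype.ext (hτi (congrArg Subtype.val h))

end Cfsg.Agent.RelMcKay
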