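import Cfsg.Agent.Lib.RelMcKay.Count
import Cfsg.Agent.Lib.Char.DegreeCenter
import Cfsg.Agent.Lib.Char.Gallagher
import Cfsg.Agent.Lib.PLocal.PSolvable

/-!
# Replacing an invariant character by a linear character of a central subgroup
-/

set_option autoImplicit false
set_option linter.style.haveILetI false
set_option linter.unusedSectionVars false

namespace Cfsg.Agent.RelMcKay

open Cfsg Cfsg.Agent Cfsg.Agent.Char Cfsg.Agent.CharExtend
open scoped ComplexConjugate

universe u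

section abstractTriple

/-- A central subgroup acts on an irreducible character by a linear character. -/
theorem exists_central_hom {X Z : Type u} [Group X] [Finite X] [Group Z] [Finite Z] (k : Z →* X)
    (hk : ∀ z, k z ∈ Subgroup.center X) {ξ : X → ℂ} (hξ : IsIrrCharacter X ξ) :
    ∃ ω : Z →* ℂˣ, ∀ z x, ξ (x * k z) = ω z * ξ x := by
  choose c hc1 hc2 _ using fun z => IsIrrCharacter.exists_central_scalar hξ (hk z)
  have h1 := IsIrrCharacter.one_ne_zero hξ
  have hval : ∀ z, c z = ξ (k z) / ξ 1 := fun z => by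
    rw [eq_div_iff h1, ← hc2, mul_one]
  have hne : ∀ z, c z ≠ 0 := fun z h => by simpa [h] using hc1 z
  refine ⟨MonoidHom.mk' (fun z => Units.mk0 (c z) (hne z)) fun z z' => Units.ext ?_, fun z x => ?_⟩
  · simp only [Units.val_mul, Units.val_mk0]
    rw [hval (z * z'), map_mul, hc2, hval z', mul_div_assoc]
  · rw [Subgroup.mem_center_iff.1 (hk z) x]
    exact (hc2 z x).trans rfl

theorem lies_central {X Z : Type u} [Group X] [Finite X] [Group Z] [Finite Z] {k : Z →* X}
    {ξ : X → ℂ} (hξ : IsIrrCharacter X ξ) {ω ε : Z →* ℂˣ} (hω : ∀ z x, ξ (x * k z) = ω z * ξ x) :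
    Lies k ξ (fun z => (ε z : ℂ)) ↔ ω = ε := by
  haveI := Fintype.ofFinite Z
  rw [lies_iff, show (fun z => ξ (k z)) = (ξ 1) • fun z => (ω z : ℂ) from funext fun z => by
    rw [Pi.smul_apply, smul_eq_mul, ← one_mul (k z), hω, mul_comm], classInner_smul_left,
    mul_ne_zero_iff, and_iff_right (IsIrrCharacter.one_ne_zero hξ)]
  refine ⟨fun h => ?_, fun h => ?_⟩
  · by_contra hne
    exact h (classInner_irr_of_ne (isIrrCharacter_linear ω) (isIrrCharacter_linear ε)
      fun e => hne (detHom_unique e))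
  · subst h
    rw [classInner_self_irr (isIrrCharacter_linear ω)]
    exact one_ne_zero

/-- A character constant on the kernel of a surjection factors through it. -/
theorem exists_factor {E X : Type u} [Group E] [Finite E] [Group X] {q : E →* X}
    (hq : Function.Surjective q) {β : E → ℂ} (hβ : IsIrrCharacter E β)
    (h : ∀ e, q e = 1 → β e = β 1) : ∃ ξ : IrrCharacter X, ∀ e, β e = (ξ : X → ℂ) (q e) := by
  obtain ⟨β', -, hval, hirr⟩ := IsCharacter.deflate (IsIrrCharacter.isCharacter hβ) q.ker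
    fun x hx => h x hx
  let e := QuotientGroup.quotientKerEquivOfSurjective q hq
  refine ⟨⟨fun x => β' (e.symm x), IsIrrCharacter.comp (hirr hβ) e.symm.toMonoidHom e.symm.surjective⟩,
    fun x => ?_⟩
  show β x = β' (e.symm (q x))
  rw [show q x = e (x : E ⧸ q.ker) from rfl, e.symm_apply_apply, hval]

/-- The correspondence of characters over `ν` with characters over a linear character of the
central kernel. -/
theorem cnt_triple {p : ℕ} [hp : Fact p.Prime] {L Y E X Z : Type u} [Group L] [Group Y] [Group E]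
    [Group X] [Group Z] [Finite L] [Finite E] [Finite Z] (j : L →* Y) (i : L →* E) (g : E →* Y)
    (q : E →* X) (k : Z →* E) (hg : Function.Surjective g) (hq : Function.Surjective q)
    (hgi : ∀ l, g (i l) = j l) (hi : Function.Injective i) (hqi : ∀ e, q e = 1 ↔ e ∈ i.range)
    (hker : ∀ e, g e = 1 ↔ e ∈ k.range) (hZc : ∀ z, k z ∈ Subgroup.center E)
    (ε : Z →* ℂˣ) (ψ : E → ℂ) (hψ : IsCharacter E ψ) {ν : L → ℂ} (hν : IsIrrCharacter L ν)
    (hψν : ∀ l, ψ (i l) = ν l) (hε : ∀ e z, ψ (e * k z) = ((ε z)⁻¹ : ℂˣ) * ψ e)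
    (hd : ¬ p ∣ charDegree ν) :
    cnt p j ν = cnt p (q.comp k) (fun z => (ε z : ℂ)) := by
  classical
  haveI : Finite Y := Finite.of_surjective g hg
  haveI : Finite X := Finite.of_surjective q hq
  haveI := Fintype.ofFinite E
  haveI := Fintype.ofFinite L
  set N := i.range with hN
  haveI := Fintype.ofFinite N
  haveI : N.Normal := by
    rw [show N = q.ker from Subgroup.ext fun e => (hqi e).symm]
    infer_instance
  let eN : L ≃* N := MonoidHom.ofInjective hi
  have hψN : IsIrrCharacter N (fun n : N => ψ n) := by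
    have e : (fun n : N => ψ n) = fun n => ν (eN.symm n) := funext fun n => by
      rw [← hψν]
      exact congrArg (fun x : N => ψ x) (eN.apply_symm_apply n).symm
    rw [e]
    exact IsIrrCharacter.comp hν eN.symm.toMonoidHom eN.symm.surjective
  obtain ⟨hG1, hG2, hG3⟩ := gallagher_one N hψ hψN
  have hνc := IsIrrCharacter.isCharacter hν
  have hν1 : ψ 1 = ν 1 := by rw [← hψν, map_one]
  have hν0 := IsIrrCharacter.one_ne_zero hν
  have hcent : ∀ z, (q.comp k) z ∈ Subgroup.center X := fun z => Subgroup.mem_center_iff.2 fun x => by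
    obtain ⟨e, rfl⟩ := hq x
    rw [MonoidHom.comp_apply, ← map_mul, ← map_mul, Subgroup.mem_center_iff.1 (hZc z) e]
  have hfwd : ∀ χ : IrrCharacter Y, Lies j (χ : Y → ℂ) ν → ∃ ξ : IrrCharacter X,
      Lies (q.comp k) (ξ : X → ℂ) (fun z => (ε z : ℂ)) ∧
      ∀ e, (χ : Y → ℂ) (g e) = (ξ : X → ℂ) (q e) * ψ e := by
    intro χ hl
    obtain ⟨β, hβ, heq⟩ := hG3 (fun e => (χ : Y → ℂ) (g e)) (IsIrrCharacter.comp χ.2 g hg) (by
      rw [lies_iff] at hl
      refine ne_of_eq_of_ne ?_ hl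
      rw [← RelGlauberman.classInner_comp_surj eN.toMonoidHom eN.surjective]
      exact congrArg₂ classInner (funext fun l => congrArg (χ : Y → ℂ) (hgi l)) (funext hψν))
    obtain ⟨ξ, hξ⟩ := exists_factor hq β.2 fun e he => hβ ⟨e, (hqi e).1 he⟩
    have hmul : ∀ e, (χ : Y → ℂ) (g e) = (ξ : X → ℂ) (q e) * ψ e := fun e => by
      rw [← hξ, ← congrFun heq e, Pi.mul_apply]
    refine ⟨ξ, ?_, hmul⟩
    obtain ⟨ω, hω⟩ := exists_central_hom (q.comp k) hcent ξ.2
    rw [lies_central ξ.2 hω]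
    refine MonoidHom.ext fun z => Units.ext ?_
    have e1 := hmul (k z)
    have hψz : ψ (k z) = ((ε z)⁻¹ : ℂˣ) * ψ 1 := by simpa using hε 1 z
    have hξz : (ξ : X → ℂ) (q (k z)) = ω z * (ξ : X → ℂ) 1 := by simpa using hω z 1
    rw [(hker _).2 ⟨z, rfl⟩, hψz, hξz, hν1] at e1
    have e2 := hmul 1
    rw [map_one, map_one, hν1] at e2
    rw [e2, Units.val_inv_eq_inv_val] at e1
    have h3 : (ξ : X → ℂ) 1 * ν 1 ≠ 0 := mul_ne_zero (IsIrrCharacter.one_ne_zero ξ.2) hν0
    have h4 : (ω z : ℂ) * ((ε z : ℂ))⁻¹ = 1 := mul_right_cancel₀ h3 (by linear_combination -e1)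
    exact (mul_inv_eq_one₀ (ε z).ne_zero).1 h4
  have hbwd : ∀ ξ : IrrCharacter X, Lies (q.comp k) (ξ : X → ℂ) (fun z => (ε z : ℂ)) →
      ∃ χ : IrrCharacter Y, Lies j (χ : Y → ℂ) ν ∧
      ∀ e, (χ : Y → ℂ) (g e) = (ξ : X → ℂ) (q e) * ψ e := by
    intro ξ hl
    obtain ⟨ω, hω⟩ := exists_central_hom (q.comp k) hcent ξ.2
    obtain rfl := (lies_central ξ.2 hω).1 hl
    let β : IrrCharacter E := ⟨fun e => (ξ : X → ℂ) (q e), IsIrrCharacter.comp ξ.2 q hq⟩
    have hirr := hG1 β fun n => by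
      show (ξ : X → ℂ) (q n) = (ξ : X → ℂ) (q 1)
      rw [(hqi _).2 n.2, map_one]
    obtain ⟨χ, hχ⟩ := exists_factor hg hirr fun e he => by
      obtain ⟨z, rfl⟩ := (hker e).1 he
      show (ξ : X → ℂ) (q (k z)) * ψ (k z) = (ξ : X → ℂ) (q 1) * ψ 1
      rw [← one_mul (k z), hε, map_mul, map_one, one_mul, show q (k z) = 1 * (q.comp k) z from
        (one_mul _).symm, hω, mul_mul_mul_comm, Units.val_inv_eq_inv_val,
        mul_inv_cancel₀ (ω z).ne_zero, one_mul]
    refine ⟨χ, ?_, fun e => (hχ e).symm⟩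
    rw [lies_iff, show (fun l => (χ : Y → ℂ) (j l)) = (ξ : X → ℂ) 1 • ν from funext fun l => by
      rw [← hgi, ← hχ]
      show (ξ : X → ℂ) (q (i l)) * ψ (i l) = _
      rw [(hqi _).2 ⟨l, rfl⟩, hψν]; rfl, classInner_smul_left, classInner_self_irr hν, mul_one]
    exact IsIrrCharacter.one_ne_zero ξ.2
  have hdeg : ∀ (χ : IrrCharacter Y) (ξ : IrrCharacter X),
      (∀ e, (χ : Y → ℂ) (g e) = (ξ : X → ℂ) (q e) * ψ e) →
      charDegree (χ : Y → ℂ) = charDegree (ξ : X → ℂ) * charDegree ν := by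
    intro χ ξ h
    have e := h 1
    rw [map_one, map_one, hν1, CharX.deg_spec hνc, CharX.irr_deg, CharX.irr_deg] at e
    exact_mod_cast e
  have hdiv : ∀ a : ℕ, ¬ p ∣ a * charDegree ν ↔ ¬ p ∣ a := fun a => by
    rw [hp.out.dvd_mul, not_or]
    exact and_iff_left hd
  choose Fw hFw1 hFw2 using fun x : {χ : IrrCharacter Y //
    ¬ p ∣ charDegree (χ : Y → ℂ) ∧ Lies j (χ : Y → ℂ) ν} => hfwd x.1 x.2.2
  refine Nat.card_eq_of_bijective (fun x => ⟨Fw x, (hdiv _).1 (hdeg _ _ (hFw2 x) ▸ x.2.1), hFw1 x⟩)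
    ⟨fun x y h => ?_, fun y => ?_⟩
  · refine Subtype.ext (Subtype.ext (funext fun v => ?_))
    obtain ⟨e, rfl⟩ := hg v
    rw [hFw2, hFw2, show Fw x = Fw y from congrArg Subtype.val h]
  · obtain ⟨χ, hl, hmul⟩ := hbwd y.1 y.2.2
    have hp' : ¬ p ∣ charDegree (χ : Y → ℂ) := by
      rw [hdeg _ _ hmul, hdiv]; exact y.2.1
    refine ⟨⟨χ, hp', hl⟩, Subtype.ext ?_⟩
    set ξ' := Fw ⟨χ, hp', hl⟩
    have h2 := hG2 ⟨fun e => (ξ' : X → ℂ) (q e), IsIrrCharacter.comp ξ'.2 q hq⟩
      ⟨fun e => (y.1 : X → ℂ) (q e), IsIrrCharacter.comp y.1.2 q hq⟩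
      (fun n => by show (ξ' : X → ℂ) (q n) = _; rw [(hqi _).2 n.2, ← map_one q])
      (fun n => by show (y.1 : X → ℂ) (q n) = _; rw [(hqi _).2 n.2, ← map_one q])
      (funext fun e => (hFw2 ⟨χ, hp', hl⟩ e).symm.trans (hmul e))
    refine Subtype.ext (funext fun v => ?_)
    obtain ⟨e, rfl⟩ := hq v
    exact congrFun (congrArg Subtype.val h2) e

end abstractTriple

section cover

variable {W : Type u} [Group W] [Finite W] {L H : Subgroup W} {d : ℕ}
  (σ : Representation ℂ L (Fin d → ℂ))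

theorem scalarUnit_injective' [hσ : σ.IsIrreducible] :
    Function.Injective (scalarUnit : ℂˣ →* (Module.End ℂ (Fin d → ℂ))ˣ) :=
  haveI := nontrivial_of_irreducible σ
  scalarUnit_injective

/-- Pairs of an element and an intertwiner of restricted determinantal order. -/
noncomputable def cover (Y : Subgroup W) (hn : Y ≤ Subgroup.normalizer (L : Set W)) :
    Subgroup (W × (Module.End ℂ (Fin d → ℂ))ˣ) where
  carrier := {e | e.1 ∈ Y ∧ Inter σ e.1 e.2 ∧ LinearMap.det (e.2 : Module.End ℂ (Fin d → ℂ)) ^ Nat.card L = 1}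
  one_mem' := ⟨one_mem Y, fun k k' hk => by
    rw [show k' = k from Subtype.ext (by simpa using hk)]; simp, by simp⟩
  mul_mem' := fun {a b} ha hb => ⟨mul_mem ha.1 hb.1, inter_mul σ (hn hb.1) ha.2.1 hb.2.1, by
    rw [Prod.snd_mul, Units.val_mul, map_mul, mul_pow, ha.2.2, hb.2.2, one_mul]⟩
  inv_mem' := fun {a} ha => ⟨inv_mem ha.1, inter_inv σ ha.2.1, by
    have h := congrArg (fun A : (Module.End ℂ (Fin d → ℂ))ˣ =>
      LinearMap.det (A : Module.End ℂ (Fin d → ℂ)) ^ Nat.card L) (mul_inv_cancel a.2)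
    simp only [Units.val_mul, map_mul, mul_pow, ha.2.2, one_mul, Units.val_one, map_one, one_pow] at h
    exact h⟩

theorem det_scalar (z : ℂˣ) :
    LinearMap.det ((scalarUnit z : (Module.End ℂ (Fin d → ℂ))ˣ) : Module.End ℂ (Fin d → ℂ)) =
      (z : ℂ) ^ d := by
  rw [scalarUnit_val, LinearMap.det_smul, LinearMap.det_id, mul_one, Module.finrank_fin_fun]

theorem det_sigma (l : L) : LinearMap.det (σ l) ^ Nat.card L = 1 := by
  rw [← map_pow, ← map_pow, pow_card_eq_one', map_one, map_one]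

variable [hσ : σ.IsIrreducible]

include σ hσ in
theorem degree_pos : 0 < d := by
  have := finrank_pos_of_irreducible σ
  simpa using this

theorem cover_surjective {Y : Subgroup W} (hn : Y ≤ Subgroup.normalizer (L : Set W))
    (hinv : ∀ y ∈ Y, InvBy L σ.character y) {y : W} (hy : y ∈ Y) :
    ∃ A, (y, A) ∈ cover σ Y hn := by
  obtain ⟨A, hA⟩ := exists_inter σ (hn hy) (hinv y hy)
  set D : ℂ := LinearMap.det (A : Module.End ℂ (Fin d → ℂ)) with hD
  have hD0 : D ≠ 0 := (A.isUnit.map LinearMap.det).ne_zero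
  obtain ⟨r, hr⟩ := IsAlgClosed.exists_pow_nat_eq D⁻¹ (degree_pos σ)
  have hr0 : r ≠ 0 := by
    rintro rfl
    rw [zero_pow (degree_pos σ).ne'] at hr
    exact inv_ne_zero hD0 hr.symm
  refine ⟨scalarUnit (Units.mk0 r hr0) * A, hy, fun k k' hk => ?_, ?_⟩
  · rw [mul_assoc, hA k k' hk, ← mul_assoc, ← mul_assoc, scalarUnit_comm]
  · rw [Units.val_mul, map_mul, det_scalar, Units.val_mk0, hr, ← hD, inv_mul_cancel₀ hD0, one_pow]

theorem cover_finite {Y : Subgroup W} (hn : Y ≤ Subgroup.normalizer (L : Set W)) :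
    Finite (cover σ Y hn) := by
  classical
  have hN : 0 < d * Nat.card L := Nat.mul_pos (degree_pos σ) Nat.card_pos
  haveI : NeZero (d * Nat.card L) := ⟨hN.ne'⟩
  by_cases hne : Nonempty (cover σ Y hn)
  swap
  · exact @Finite.of_subsingleton _ ⟨fun a => absurd ⟨a⟩ hne⟩
  let pr : cover σ Y hn →* W := (MonoidHom.fst _ _).comp (cover σ Y hn).subtype
  haveI : Finite pr.ker := by
    have key : ∀ e : pr.ker, ∃ z : rootsOfUnity (d * Nat.card L) ℂ,
        (scalarUnit (z : ℂˣ) : (Module.End ℂ (Fin d → ℂ))ˣ) = e.1.1.2 := by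
      rintro ⟨⟨⟨y, A⟩, hy, hA, hdet⟩, he⟩
      obtain rfl : y = 1 := he
      obtain ⟨z, hz⟩ := exists_scalar σ A fun n => congrArg Units.val (hA n n (by simp))
      refine ⟨⟨z, ?_⟩, hz⟩
      rw [mem_rootsOfUnity]
      refine Units.ext ?_
      rw [← hz, det_scalar, ← pow_mul] at hdet
      simpa using hdet
    choose f hf using key
    refine Finite.of_injective f fun a b h => Subtype.ext (Subtype.ext (Prod.ext ?_ ?_))
    · exact (MonoidHom.mem_ker.1 a.2).trans (MonoidHom.mem_ker.1 b.2).symm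
    · rw [← hf a, ← hf b, h]
  haveI : Finite pr.range := inferInstance
  haveI : Finite (cover σ Y hn ⧸ pr.ker) :=
    Finite.of_equiv _ (QuotientGroup.quotientKerEquivRange pr).symm.toEquiv
  exact Finite.of_equiv _ (Subgroup.groupEquivQuotientProdSubgroup (s := pr.ker)).symm

end cover

section reduce

variable {W : Type u} [Group W] [Finite W]

/-- An invariant character can be traded for a linear character of a central subgroup. -/
theorem reduce_central {p : ℕ} [hp : Fact p.Prime] {L H : Subgroup W} (hLH : L ≤ H)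
    (hn : H ≤ Subgroup.normalizer (L : Set W)) (hps : IsPSolvable p H) (S : Subgroup W) (hSH : S ≤ H)
    (hS : IsPGroup p S) (hSi : ¬ p ∣ S.relIndex H) (ν : IrrCharacter L)
    (hν : ∀ h ∈ H, InvBy L (ν : L → ℂ) h) (hd : ¬ p ∣ charDegree (ν : L → ℂ)) :
    ∃ (G : Type u) (_ : Group G) (_ : Finite G) (Z S' : Subgroup G) (ε : IrrCharacter Z),
      Z ≤ Subgroup.center G ∧ IsPSolvable p G ∧ IsPGroup p S' ∧ ¬ p ∣ S'.index ∧
      (ε : Z → ℂ) 1 = 1 ∧ Z.index = L.relIndex H ∧
      cntIn p hLH (ν : L → ℂ) = cntIn p (le_top : Z ≤ ⊤) (ε : Z → ℂ) ∧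
      cntIn p (le_inf hLH (le_sup_left.trans Subgroup.le_normalizer) :
          L ≤ H ⊓ Subgroup.normalizer ((L ⊔ S : Subgroup W) : Set W)) (ν : L → ℂ) =
        cntIn p (le_inf le_top (le_sup_left.trans Subgroup.le_normalizer) :
          Z ≤ ⊤ ⊓ Subgroup.normalizer ((Z ⊔ S' : Subgroup G) : Set G)) (ε : Z → ℂ) := by
  classical
  obtain ⟨νf, d, σ, hσ, rfl⟩ := ν
  haveI := hσ
  set E := cover σ H hn with hE
  haveI : Finite E := cover_finite σ hn
  let g : E →* H :=
    { toFun := fun e => ⟨e.1.1, e.2.1⟩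
      map_one' := rfl
      map_mul' := fun _ _ => rfl }
  have hg : Function.Surjective g := fun h => by
    obtain ⟨A, hA⟩ := cover_surjective σ hn hν h.2
    exact ⟨⟨_, hA⟩, rfl⟩
  let i : L →* E :=
    { toFun := fun l => ⟨((l : W), σ.toHomUnits l), hLH l.2, inter_mem σ l, det_sigma σ l⟩
      map_one' := Subtype.ext (Prod.ext rfl (map_one σ.toHomUnits))
      map_mul' := fun a b => Subtype.ext (Prod.ext rfl (map_mul σ.toHomUnits a b)) }
  haveI hNn : i.range.Normal := ⟨by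
    rintro _ ⟨l, rfl⟩ e
    refine ⟨cj (hn e.2.1) l, Subtype.ext (Prod.ext rfl ?_)⟩
    show σ.toHomUnits (cj (hn e.2.1) l) = e.1.2 * σ.toHomUnits l * e.1.2⁻¹
    rw [e.2.2.1 l (cj (hn e.2.1) l) rfl, mul_inv_cancel_right]⟩
  let q : E →* E ⧸ i.range := QuotientGroup.mk' _
  have hq : Function.Surjective q := QuotientGroup.mk'_surjective _
  have hqi : ∀ e, q e = 1 ↔ e ∈ i.range := fun e => QuotientGroup.eq_one_iff e
  -- the scalars
  have hb : (⊥ : Subgroup W) ≤ Subgroup.normalizer (L : Set W) := bot_le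
  set E₁ := cover σ ⊥ hb with hE₁
  haveI : Finite E₁ := cover_finite σ hb
  have hE₁E : E₁ ≤ E := fun e he => ⟨(Subgroup.mem_bot.1 he.1).symm ▸ one_mem H, he.2⟩
  choose zf hzf using fun e : E₁ => exists_scalar σ e.1.2 fun n => congrArg Units.val
    (e.2.2.1 n n (by rw [Subgroup.mem_bot.1 e.2.1]; simp))
  let ε₀ : E₁ →* ℂˣ := MonoidHom.mk' (fun e => (zf e)⁻¹) fun a b => by
    rw [← mul_inv, inv_inj]
    apply scalarUnit_injective' σ
    rw [map_mul, hzf, hzf, hzf]
    rfl
  let k₀ : E₁ →* E ⧸ i.range := q.comp (Subgroup.inclusion hE₁E)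
  have hk₀ : Function.Injective k₀ := (injective_iff_map_eq_one _).2 fun e he => by
    obtain ⟨l, hl⟩ := (hqi _).1 he
    have h1 : (l : W) = e.1.1 := congrArg (fun x : E => x.1.1) hl
    rw [Subgroup.mem_bot.1 e.2.1] at h1
    have h2 : l = 1 := Subtype.ext h1
    rw [h2, map_one] at hl
    exact Subtype.ext (congrArg (fun x : E => x.1) hl).symm
  have hcent : ∀ (e : E) (z : E₁), e * Subgroup.inclusion hE₁E z = Subgroup.inclusion hE₁E z * e := by
    intro e z
    refine Subtype.ext (Prod.ext ?_ ?_)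
    · show e.1.1 * z.1.1 = z.1.1 * e.1.1
      rw [Subgroup.mem_bot.1 z.2.1, mul_one, one_mul]
    · show e.1.2 * z.1.2 = z.1.2 * e.1.2
      rw [← hzf, scalarUnit_comm]
  set Z := k₀.range with hZ
  have hZc : Z ≤ Subgroup.center _ := by
    rintro _ ⟨z, rfl⟩
    refine Subgroup.mem_center_iff.2 fun x => ?_
    obtain ⟨e, rfl⟩ := hq x
    show q e * q (Subgroup.inclusion hE₁E z) = q (Subgroup.inclusion hE₁E z) * q e
    rw [← map_mul, hcent, map_mul]
  let eZ : E₁ ≃* Z := MonoidHom.ofInjective hk₀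
  let ε : IrrCharacter Z := ⟨fun z => (ε₀ (eZ.symm z) : ℂ),
    isIrrCharacter_linear (ε₀.comp eZ.symm.toMonoidHom)⟩
  -- the images of the intermediate groups
  let hat : Subgroup W → Subgroup (E ⧸ i.range) := fun Y => ((Y.subgroupOf H).comap g).map q
  have hqker : ∀ Y : Subgroup W, L ≤ Y → q.ker ≤ (Y.subgroupOf H).comap g := fun Y hLY e he => by
    obtain ⟨l, rfl⟩ := (hqi e).1 he
    exact hLY l.2
  have hidx : ∀ Y : Subgroup W, L ≤ Y → (hat Y).index = Y.relIndex H := fun Y hLY =>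
    (Subgroup.index_map_eq _ hq (hqker Y hLY)).trans (Subgroup.index_comap_of_surjective _ hg)
  have hZL : hat L = Z := by
    ext x
    constructor
    · rintro ⟨e, he, rfl⟩
      let l : L := ⟨e.1.1, he⟩
      set e' := (i l)⁻¹ * e with he'
      have h1 : e'.1.1 = 1 := inv_mul_cancel (e.1.1)
      refine ⟨⟨e'.1, Subgroup.mem_bot.2 h1, e'.2.2⟩, ?_⟩
      show q e' = q e
      rw [he', map_mul, map_inv, (hqi _).2 ⟨l, rfl⟩, inv_one, one_mul]
    · rintro ⟨z, rfl⟩
      refine ⟨Subgroup.inclusion hE₁E z, ?_, rfl⟩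
      show z.1.1 ∈ L
      rw [Subgroup.mem_bot.1 z.2.1]
      exact one_mem L
  have hZhat : ∀ Y : Subgroup W, L ≤ Y → Z ≤ hat Y := fun Y hLY =>
    hZL ▸ Subgroup.map_mono (Subgroup.comap_mono (Subgroup.comap_mono hLY))
  -- the counts
  have hcount : ∀ (Y : Subgroup W) (hLY : L ≤ Y) (hYH : Y ≤ H),
      cntIn p hLY σ.character = cntIn p (hZhat Y hLY) (ε : Z → ℂ) := by
    intro Y hLY hYH
    set EY := cover σ Y (hYH.trans hn) with hEY
    haveI : Finite EY := cover_finite σ _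
    let gY : EY →* Y :=
      { toFun := fun e => ⟨e.1.1, e.2.1⟩
        map_one' := rfl
        map_mul' := fun _ _ => rfl }
    let inc : EY →* E :=
      { toFun := fun e => ⟨e.1, hYH e.2.1, e.2.2⟩
        map_one' := rfl
        map_mul' := fun _ _ => rfl }
    let iY : L →* EY :=
      { toFun := fun l => ⟨((l : W), σ.toHomUnits l), hLY l.2, inter_mem σ l, det_sigma σ l⟩
        map_one' := Subtype.ext (Prod.ext rfl (map_one σ.toHomUnits))
        map_mul' := fun a b => Subtype.ext (Prod.ext rfl (map_mul σ.toHomUnits a b)) }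
    let qY : EY →* hat Y := (q.comp inc).codRestrict (hat Y) fun e => ⟨inc e, e.2.1, rfl⟩
    let kY : E₁ →* EY :=
      { toFun := fun e => ⟨e.1, (Subgroup.mem_bot.1 e.2.1).symm ▸ one_mem Y, e.2.2⟩
        map_one' := rfl
        map_mul' := fun _ _ => rfl }
    let ρ : Representation ℂ EY (Fin d → ℂ) :=
      (Units.coeHom _).comp ((MonoidHom.snd W _).comp EY.subtype)
    have h := cnt_triple (p := p) (Subgroup.inclusion hLY) iY gY qY kY (fun y => by
        obtain ⟨A, hA⟩ := cover_surjective σ (hYH.trans hn) (fun y hy => hν y (hYH hy)) y.2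
        exact ⟨⟨_, hA⟩, rfl⟩) (by
        rintro ⟨_, e, he, rfl⟩
        exact ⟨⟨e.1, he, e.2.2⟩, rfl⟩) (fun l => rfl)
      (fun a b hab => Subtype.ext (congrArg (fun x : EY => x.1.1) hab)) (fun e => by
        refine ⟨fun he => ?_, ?_⟩
        · obtain ⟨l, hl⟩ := (hqi _).1 (congrArg Subtype.val he)
          exact ⟨l, Subtype.ext (congrArg (fun x : E => x.1) hl)⟩
        · rintro ⟨l, rfl⟩
          exact Subtype.ext ((hqi _).2 ⟨l, rfl⟩)) (fun e => by
        refine ⟨fun he => ⟨⟨e.1, Subgroup.mem_bot.2 (congrArg Subtype.val he), e.2.2⟩, rfl⟩, ?_⟩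
        rintro ⟨z, rfl⟩
        exact Subtype.ext (Subgroup.mem_bot.1 z.2.1))
      (fun z => Subgroup.mem_center_iff.2 fun e => by
        have h := congrArg (fun x : E => x.1) (hcent (inc e) z)
        exact Subtype.ext h)
      ε₀ ρ.character (isCharacter_of_rep ρ) (isIrrCharacter_of_rep σ) (fun l => rfl) (fun e z => by
        show LinearMap.trace ℂ _ ((e.1.2 * z.1.2 : (Module.End ℂ (Fin d → ℂ))ˣ) :
          Module.End ℂ (Fin d → ℂ)) = ((((zf z)⁻¹)⁻¹ : ℂˣ) : ℂ) *
          LinearMap.trace ℂ _ (e.1.2 : Module.End ℂ (Fin d → ℂ))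
        rw [inv_inv, ← hzf, Units.val_mul, scalarUnit_val, ← Module.End.one_eq_id, mul_smul_comm,
          mul_one, map_smul, smul_eq_mul]) hd
    exact h.trans (cnt_congr (MulEquiv.refl _) eZ (fun z => rfl)
      (fun z => by show (ε₀ z : ℂ) = (ε₀ (eZ.symm (eZ z)) : ℂ); rw [eZ.symm_apply_apply]))
  -- a Sylow subgroup
  set P₀ := L ⊔ S with hP₀
  have hLP : L ≤ P₀ := le_sup_left
  have hPH : P₀ ≤ H := sup_le hLH hSH
  obtain ⟨T⟩ : Nonempty (Sylow p (hat P₀)) := inferInstance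
  set S' := (T : Subgroup (hat P₀)).map (hat P₀).subtype with hS'
  have hS'P : S' ≤ hat P₀ := Subgroup.map_subtype_le _
  have hTrel : ¬ p ∣ S'.relIndex (hat P₀) := by
    have e : S'.relIndex (hat P₀) = (T : Subgroup (hat P₀)).index := by
      rw [Subgroup.relIndex, hS', Subgroup.subgroupOf, Subgroup.comap_map_eq_self_of_injective Subtype.val_injective]
    rw [e]
    exact T.not_dvd_index
  have hZP : Z ⊔ S' = hat P₀ := by
    refine le_antisymm (sup_le (hZhat P₀ hLP) hS'P) (Subgroup.relIndex_eq_one.1 ?_)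
    have h1 : (Z ⊔ S').relIndex (hat P₀) ∣ Z.relIndex (hat P₀) :=
      Subgroup.relIndex_dvd_of_le_left _ le_sup_left
    have h2 : (Z ⊔ S').relIndex (hat P₀) ∣ S'.relIndex (hat P₀) :=
      Subgroup.relIndex_dvd_of_le_left _ le_sup_right
    have h3 : Z.relIndex (hat P₀) = L.relIndex P₀ := by
      have e1 := Subgroup.relIndex_mul_index (hZhat P₀ hLP)
      rw [hidx P₀ hLP, ← hZL, hidx L le_rfl, ← Subgroup.relIndex_mul_relIndex L P₀ H hLP hPH] at e1
      rw [← hZL]
      exact Nat.eq_of_mul_eq_mul_right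
        (Nat.pos_of_ne_zero (show (P₀.subgroupOf H).index ≠ 0 from Subgroup.index_ne_zero_of_finite)) e1
    obtain ⟨m, hm⟩ := IsPGroup.iff_card.1 hS
    have h4 : L.relIndex P₀ ∣ p ^ m := by
      have e2 := SolvBasic.card_sup_mul_card_inf (N := L) (hSH.trans hn)
      have e3 : Nat.card L * L.relIndex P₀ = Nat.card P₀ := by
        rw [← Subgroup.relIndex_bot_left, Subgroup.relIndex_mul_relIndex _ _ _ bot_le hLP,
          Subgroup.relIndex_bot_left]
      rw [← hP₀, ← e3, mul_assoc] at e2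
      exact hm ▸ Dvd.intro _ (Nat.eq_of_mul_eq_mul_left Nat.card_pos e2)
    obtain ⟨j, -, hj⟩ := (Nat.dvd_prime_pow hp.out).1 ((h1.trans (h3 ▸ dvd_rfl)).trans h4)
    rcases Nat.eq_zero_or_pos j with rfl | hj0
    · rw [hj, pow_zero]
    · exact absurd ((hj ▸ dvd_pow_self p hj0.ne').trans h2) hTrel
  have hS'i : ¬ p ∣ S'.index := by
    rw [← Subgroup.relIndex_mul_index hS'P, hidx P₀ hLP, hp.out.dvd_mul, not_or]
    exact ⟨hTrel, fun h => hSi (h.trans (Subgroup.relIndex_dvd_of_le_left H le_sup_right))⟩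
  have hZidx : Z.index = L.relIndex H := by rw [← hZL, hidx L le_rfl]
  haveI : Z.Normal := ⟨fun z hz x => by
    rw [Subgroup.mem_center_iff.1 (hZc hz) x, mul_inv_cancel_right]; exact hz⟩
  have hpsG : IsPSolvable p (E ⧸ i.range) := by
    letI : CommGroup Z := { (inferInstance : Group Z) with
      mul_comm := fun a b => Subtype.ext (Subgroup.mem_center_iff.1 (hZc b.2) a) }
    refine PSolvable.of_extension Z (PSolvable.of_solvable inferInstance) ?_
    let f : E →* (E ⧸ i.range) ⧸ Z := (QuotientGroup.mk' Z).comp q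
    have hf : g.ker ≤ f.ker := fun e he => by
      refine (QuotientGroup.eq_one_iff _).2 (hZL ▸ ⟨e, ?_, rfl⟩)
      show e.1.1 ∈ L
      rw [show e.1.1 = 1 from congrArg Subtype.val he]
      exact one_mem L
    refine PSolvable.of_surjective (g.liftOfSurjective hg ⟨f, hf⟩) (fun x => ?_) hps
    obtain ⟨e, rfl⟩ := ((QuotientGroup.mk'_surjective Z).comp hq) x
    exact ⟨g e, MonoidHom.liftOfRightInverse_comp_apply _ _ _ ⟨f, hf⟩ e⟩
  refine ⟨E ⧸ i.range, inferInstance, inferInstance, Z, S', ε, hZc, hpsG,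
    (T.isPGroup'.map _), hS'i, by simp [ε], hZidx,
    (hcount H hLH le_rfl).trans (cntIn_congr _ _ ?_ _),
    (hcount _ _ inf_le_left).trans (cntIn_congr _ _ ?_ _)⟩
  · show ((H.subgroupOf H).comap g).map q = ⊤
    rw [Subgroup.subgroupOf_self, Subgroup.comap_top, Subgroup.map_top_of_surjective q hq]
  · show (((H ⊓ Subgroup.normalizer ((P₀ : Subgroup W) : Set W)).subgroupOf H).comap g).map q = _
    rw [top_inf_eq, hZP, Subgroup.inf_subgroupOf_left,
      Subgroup.subgroupOf_normalizer_eq hPH, Subgroup.comap_normalizer_eq_of_surjective _ hg,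
      show (P₀.subgroupOf H).comap g = (hat P₀).comap q from
        (Subgroup.comap_map_eq_self (hqker P₀ hLP)).symm,
      ← Subgroup.comap_normalizer_eq_of_surjective _ hq, Subgroup.map_comap_eq_self_of_surjective hq]

end reduce

end Cfsg.Agent.RelMcKay
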