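import Cfsg.Agent.Lib.RelMcKay.Triple
import Cfsg.Agent.Lib.Char.Complete

/-!
# Counting the characters over an invariant one by the commutator pairing
-/

set_option autoImplicit false
set_option linter.style.haveILetI false
set_option linter.unusedSectionVars false

namespace Cfsg.Agent.RelMcKay

open Cfsg Cfsg.Agent Cfsg.Agent.Char Cfsg.Agent.CharExtend
open scoped ComplexConjugate

universe u

/-- The number of characters over a linear character of a central subgroup. -/
theorem central_count {p : ℕ} [hp : Fact p.Prime] {X Z : Type u} [Group X] [Finite X] [Group Z]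
    [Fintype Z] (k : Z →* X) (hk : ∀ z, k z ∈ Subgroup.center X) (hki : Function.Injective k)
    (hidx : ¬ p ∣ k.range.index) (ε : Z →* ℂˣ) {Q : Type u} [Fintype Q] (s : Q → X)
    (hs : ∀ x, ∃! q, (s q)⁻¹ * x ∈ k.range) [DecidableEq X] :
    (cnt p k (fun z => (ε z : ℂ)) : ℂ) * Fintype.card Q =
      ∑ q, ∑ r, ∑ z : Z, if s r * (s q * k z) * (s r)⁻¹ = s q then (ε z : ℂ) else 0 := by
  classical
  haveI := Fintype.ofFinite X
  choose ω hω using fun χ : IrrCharacter X => exists_central_hom k hk χ.2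
  have hall : cnt p k (fun z => (ε z : ℂ)) = (Finset.univ.filter fun χ => ω χ = ε).card := by
    rw [← Fintype.card_subtype, ← Nat.card_eq_fintype_card]
    refine Nat.card_congr (Equiv.subtypeEquivRight fun χ => ?_)
    rw [lies_central χ.2 (hω χ)]
    refine and_iff_right fun hd => hidx (hd.trans ?_)
    exact (degree_dvd_index_center χ.2 (CharX.irr_deg χ)).trans (Subgroup.index_dvd_of_le (by
      rintro _ ⟨z, rfl⟩; exact hk z))
  let c : X → X → ℂ := fun g x => ∑ z : Z, if x * (g * k z) * x⁻¹ = g then (ε z : ℂ) else 0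
  have hcl : ∀ g x (w w' : Z), c (g * k w) (x * k w') = c g x := by
    intro g x w w'
    refine Finset.sum_congr rfl fun z _ => ?_
    have h1 := Subgroup.mem_center_iff.1 (hk w')
    have h2 := Subgroup.mem_center_iff.1 (hk w)
    have e : x * k w' * (g * k w * k z) * (x * k w')⁻¹ = x * (g * k z) * x⁻¹ * k w := by
      calc x * k w' * (g * k w * k z) * (x * k w')⁻¹
          = x * (k w' * (g * k w * k z)) * (k w')⁻¹ * x⁻¹ := by group
        _ = x * (g * (k w * k z)) * x⁻¹ := by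
          rw [← h1 (g * k w * k z)]; group
        _ = x * (g * k z) * (k w * x⁻¹) := by rw [← h2 (k z)]; group
        _ = _ := by rw [← h2 x⁻¹]; group
    rw [e]
    simp only [mul_left_inj]
  let e : Q × Z → X := fun qz => s qz.1 * k qz.2
  have he : Function.Bijective e := by
    refine ⟨fun a b h => ?_, fun x => ?_⟩
    · obtain ⟨q0, -, hu⟩ := hs (e a)
      have ha : a.1 = b.1 := (hu _ ⟨a.2, by simp [e]⟩).trans (hu _ ⟨b.2, by simp [h, e]⟩).symm
      refine Prod.ext ha (hki ?_)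
      simp only [e, ha] at h
      exact mul_left_cancel h
    · obtain ⟨q, ⟨z, hz⟩, -⟩ := hs x
      exact ⟨(q, z), by simp [e, hz]⟩
  have hX : (Fintype.card X : ℂ) = Fintype.card Q * Fintype.card Z := by
    rw [← Fintype.card_of_bijective he, Fintype.card_prod, Nat.cast_mul]
  have key : ∀ g, ∑ χ : IrrCharacter X, (if ω χ = ε then (Fintype.card Z : ℂ) else 0) *
      ((χ : X → ℂ) g * conj ((χ : X → ℂ) g)) = ∑ x : X, c g x := by
    intro g
    have hin : ∀ χ : IrrCharacter X, (if ω χ = ε then (Fintype.card Z : ℂ) else 0) =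
        ∑ z : Z, (ε z : ℂ) * conj (ω χ z : ℂ) := by
      intro χ
      have h0 : (Nat.card Z : ℂ) ≠ 0 := Nat.cast_ne_zero.2 Nat.card_pos.ne'
      have h := classInner_irr (isIrrCharacter_linear ε) (isIrrCharacter_linear (ω χ))
      rw [classInner, inv_mul_eq_iff_eq_mul₀ h0] at h
      rw [h, ← Nat.card_eq_fintype_card]
      by_cases hq : ω χ = ε
      · rw [if_pos hq, if_pos (by rw [hq]), mul_one]
      · rw [if_neg hq, if_neg (fun e => hq (detHom_unique e).symm), mul_zero]
    calc _ = ∑ z : Z, (ε z : ℂ) *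
          ∑ χ : IrrCharacter X, (χ : X → ℂ) g * conj ((χ : X → ℂ) (g * k z)) := by
          simp only [hin, Finset.sum_mul, Finset.mul_sum, hω, map_mul]
          rw [Finset.sum_comm]
          exact Finset.sum_congr rfl fun z _ => Finset.sum_congr rfl fun χ _ => by ring
      _ = _ := by
          simp only [column_orth_count, Finset.natCast_card_filter, Finset.mul_sum, mul_ite, mul_one,
            mul_zero]
          exact Finset.sum_comm
  have hnorm : ∀ χ : IrrCharacter X, ∑ g : X, (χ : X → ℂ) g * conj ((χ : X → ℂ) g) =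
      (Fintype.card X : ℂ) := fun χ => by
    have h0 : (Nat.card X : ℂ) ≠ 0 := Nat.cast_ne_zero.2 Nat.card_pos.ne'
    have h := classInner_self_irr χ.2
    rw [classInner, inv_mul_eq_iff_eq_mul₀ h0, mul_one, Nat.card_eq_fintype_card] at h
    exact h
  have htot : (cnt p k (fun z => (ε z : ℂ)) : ℂ) * Fintype.card Z * Fintype.card X =
      ∑ g : X, ∑ x : X, c g x := by
    rw [← Finset.sum_congr rfl fun g _ => key g, Finset.sum_comm]
    simp only [← Finset.mul_sum, hnorm, hall]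
    rw [← Finset.sum_mul, ← Finset.sum_filter, Finset.sum_const, nsmul_eq_mul]
  have hsum : ∑ g : X, ∑ x : X, c g x =
      (Fintype.card Z : ℂ) * Fintype.card Z * ∑ q, ∑ r, c (s q) (s r) := by
    rw [← he.sum_comp]
    simp only [← he.sum_comp (fun x => c _ x), Fintype.sum_prod_type, e, hcl, Finset.sum_const,
      nsmul_eq_mul, Finset.card_univ, Finset.mul_sum, ← mul_assoc]
  have hZ0 : (Fintype.card Z : ℂ) ≠ 0 := Nat.cast_ne_zero.2 Fintype.card_ne_zero
  have h := htot.trans hsum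
  rw [hX] at h
  refine mul_left_cancel₀ (mul_ne_zero hZ0 hZ0) ?_
  linear_combination h

variable {W : Type u} [Group W] [Finite W]

open scoped Classical in
/-- The value of the pairing, zero where it is undefined. -/
noncomputable def pairVal (K : Subgroup W) (θ : K → ℂ) (x y : W) : ℂ :=
  if h : ∃ a : ℂˣ, Pair K θ x y a then (h.choose : ℂ) else 0

theorem pairVal_eq {K : Subgroup W} {θ : K → ℂ} (hθ : IsIrrCharacter K θ) {x y : W}
    (hx : x ∈ Subgroup.normalizer (K : Set W)) (hy : y ∈ Subgroup.normalizer (K : Set W)) {a : ℂˣ}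
    (ha : Pair K θ x y a) : pairVal K θ x y = a := by
  rw [pairVal, dif_pos ⟨a, ha⟩, pair_unique hθ hx hy (Exists.choose_spec (⟨a, ha⟩ : ∃ a, _)) ha]

theorem pairVal_eq_zero {K : Subgroup W} {θ : K → ℂ} {x y : W}
    (h : x * y * x⁻¹ * y⁻¹ ∉ K) : pairVal K θ x y = 0 := by
  rw [pairVal, dif_neg]
  rintro ⟨a, d, σ, -, -, A, B, -, -, hc, -⟩
  exact h hc

set_option maxHeartbeats 800000 in
/-- The count over an invariant character is a sum of pairing values. -/
theorem cnt_pair_sum {p : ℕ} [hp : Fact p.Prime] {L H : Subgroup W} (hLH : L ≤ H)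
    (hn : H ≤ Subgroup.normalizer (L : Set W)) (ν : IrrCharacter L)
    (hν : ∀ h ∈ H, InvBy L (ν : L → ℂ) h) (hd : ¬ p ∣ charDegree (ν : L → ℂ))
    (hQ : ¬ p ∣ L.relIndex H) {Q : Type u} [Fintype Q] (sec : Q → W) (hsec : ∀ q, sec q ∈ H)
    (hu : ∀ h ∈ H, ∃! q, (sec q)⁻¹ * h ∈ L) :
    (cntIn p hLH (ν : L → ℂ) : ℂ) * Fintype.card Q =
      ∑ q, ∑ r, pairVal L (ν : L → ℂ) (sec q) (sec r) := by
  classical
  obtain ⟨νf, d, σ, hσ, rfl⟩ := ν
  haveI := hσ
  set E := cover σ H hn with hE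
  haveI : Finite E := cover_finite σ hn
  let g : E →* H :=
    { toFun := fun e => ⟨e.1.1, e.2.1⟩
      map_one' := rfl
      map_mul' := fun _ _ => rfl }
  have hg : Function.Surjective g := fun h => by
    obtain ⟨A, hA⟩ := cover_surjective σ hn hν h.2
    exact ⟨⟨_, hA⟩, rfl⟩
  let i : L →* E :=
    { toFun := fun l => ⟨((l : W), σ.toHomUnits l), hLH l.2, inter_mem σ l, det_sigma σ l⟩
      map_one' := Subtype.ext (Prod.ext rfl (map_one σ.toHomUnits))
      map_mul' := fun a b => Subtype.ext (Prod.ext rfl (map_mul σ.toHomUnits a b)) }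
  haveI hNn : i.range.Normal := ⟨by
    rintro _ ⟨l, rfl⟩ e
    refine ⟨cj (hn e.2.1) l, Subtype.ext (Prod.ext rfl ?_)⟩
    show σ.toHomUnits (cj (hn e.2.1) l) = e.1.2 * σ.toHomUnits l * e.1.2⁻¹
    rw [e.2.2.1 l (cj (hn e.2.1) l) rfl, mul_inv_cancel_right]⟩
  let q : E →* E ⧸ i.range := QuotientGroup.mk' _
  have hq : Function.Surjective q := QuotientGroup.mk'_surjective _
  have hqi : ∀ e, q e = 1 ↔ e ∈ i.range := fun e => QuotientGroup.eq_one_iff e
  let k : g.ker →* E := g.ker.subtype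
  have hker1 : ∀ z : g.ker, (z : E).1.1 = 1 := fun z => congrArg Subtype.val (MonoidHom.mem_ker.1 z.2)
  choose zf hzf using fun z : g.ker => exists_scalar σ (z : E).1.2 fun n => congrArg Units.val
    ((z : E).2.2.1 n n (by rw [hker1]; simp))
  let ε : g.ker →* ℂˣ := MonoidHom.mk' (fun z => (zf z)⁻¹) fun a b => by
    rw [← mul_inv, inv_inj]
    apply scalarUnit_injective' σ
    rw [map_mul, hzf, hzf, hzf]
    rfl
  have hcent : ∀ z, k z ∈ Subgroup.center E := fun z => Subgroup.mem_center_iff.2 fun e => by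
    refine Subtype.ext (Prod.ext ?_ ?_)
    · show e.1.1 * (z : E).1.1 = (z : E).1.1 * e.1.1
      rw [hker1, mul_one, one_mul]
    · show e.1.2 * (z : E).1.2 = (z : E).1.2 * e.1.2
      rw [← hzf, scalarUnit_comm]
  have hki : Function.Injective (q.comp k) := (injective_iff_map_eq_one _).2 fun z hz => by
    obtain ⟨l, hl⟩ := (hqi _).1 hz
    have h1 : l = 1 := Subtype.ext ((congrArg (fun x : E => x.1.1) hl).trans (hker1 z))
    exact Subtype.ext (show k z = 1 by rw [← hl, h1, map_one])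
  have hcent' : ∀ z, (q.comp k) z ∈ Subgroup.center (E ⧸ i.range) := fun z =>
    Subgroup.mem_center_iff.2 fun x => by
      obtain ⟨e, rfl⟩ := hq x
      rw [MonoidHom.comp_apply, ← map_mul, ← map_mul, Subgroup.mem_center_iff.1 (hcent z) e]
  let ρ : Representation ℂ E (Fin d → ℂ) :=
    (Units.coeHom _).comp ((MonoidHom.snd W _).comp E.subtype)
  have htriple := cnt_triple (p := p) (Subgroup.inclusion hLH) i g q k hg hq (fun l => rfl)
    (fun a b hab => Subtype.ext (congrArg (fun x : E => x.1.1) hab)) hqi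
    (fun e => ⟨fun he => ⟨⟨e, he⟩, rfl⟩, fun ⟨z, hz⟩ => hz ▸ z.2⟩) hcent ε ρ.character
    (isCharacter_of_rep ρ) (isIrrCharacter_of_rep σ) (fun l => rfl) (fun e z => by
      show LinearMap.trace ℂ _ ((e.1.2 * (z : E).1.2 : (Module.End ℂ (Fin d → ℂ))ˣ) :
        Module.End ℂ (Fin d → ℂ)) = ((((zf z)⁻¹)⁻¹ : ℂˣ) : ℂ) *
        LinearMap.trace ℂ _ (e.1.2 : Module.End ℂ (Fin d → ℂ))
      rw [inv_inv, ← hzf, Units.val_mul, scalarUnit_val, ← Module.End.one_eq_id, mul_smul_comm,
        mul_one, map_smul, smul_eq_mul]) hd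
  choose lift hlift using fun j : Q => hg ⟨sec j, hsec j⟩
  have hlift' : ∀ j, (lift j).1.1 = sec j := fun j => congrArg Subtype.val (hlift j)
  have hmemZ : ∀ e : E, q e ∈ (q.comp k).range ↔ e.1.1 ∈ L := by
    intro e
    refine ⟨?_, fun he => ?_⟩
    · rintro ⟨z, hz⟩
      obtain ⟨l, hl⟩ := (hqi ((k z)⁻¹ * e)).1 (by
        rw [map_mul, map_inv, ← hz, MonoidHom.comp_apply, inv_mul_cancel])
      have h1 : (l : W) = ((z : E).1.1)⁻¹ * e.1.1 := congrArg (fun x : E => x.1.1) hl
      rw [hker1, inv_one, one_mul] at h1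
      exact h1 ▸ l.2
    · refine ⟨⟨(i ⟨e.1.1, he⟩)⁻¹ * e, MonoidHom.mem_ker.2 (Subtype.ext (inv_mul_cancel e.1.1))⟩, ?_⟩
      show q ((i ⟨e.1.1, he⟩)⁻¹ * e) = q e
      rw [map_mul, map_inv, (hqi _).2 ⟨_, rfl⟩, inv_one, one_mul]
  have hidx : (q.comp k).range.index = L.relIndex H := by
    have e : (q.comp k).range = ((L.subgroupOf H).comap g).map q := by
      ext x
      obtain ⟨e, rfl⟩ := hq x
      rw [hmemZ]
      refine ⟨fun he => ⟨e, he, rfl⟩, ?_⟩
      rintro ⟨e', he', heq⟩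
      obtain ⟨l, hl⟩ := (hqi (e'⁻¹ * e)).1 (by rw [map_mul, map_inv, heq, inv_mul_cancel])
      have h1 : (l : W) = e'.1.1⁻¹ * e.1.1 := congrArg (fun x : E => x.1.1) hl
      have h2 : e.1.1 = e'.1.1 * l := by rw [h1, mul_inv_cancel_left]
      exact h2 ▸ mul_mem (show e'.1.1 ∈ L from he') l.2
    rw [e, Subgroup.index_map_eq _ hq fun x hx => by
      obtain ⟨l, rfl⟩ := (hqi x).1 hx
      exact l.2, Subgroup.index_comap_of_surjective _ hg]
    rfl
  haveI := Fintype.ofFinite g.ker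
  refine (congrArg (fun n : ℕ => (n : ℂ) * Fintype.card Q) htriple).trans ?_
  rw [central_count (q.comp k) hcent' hki (hidx ▸ hQ) ε (fun j => q (lift j)) fun x => by
    obtain ⟨e, rfl⟩ := hq x
    refine (existsUnique_congr fun j => ?_).2 (hu _ e.2.1)
    rw [← map_inv, ← map_mul, hmemZ]
    show (lift j).1.1⁻¹ * e.1.1 ∈ L ↔ _
    rw [hlift']]
  conv_rhs => rw [Finset.sum_comm]
  refine Finset.sum_congr rfl fun a _ => Finset.sum_congr rfl fun b _ => ?_
  -- one pair of cosets
  set c : E := lift b * lift a * (lift b)⁻¹ * (lift a)⁻¹ with hc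
  have hc1 : c.1.1 = sec b * sec a * (sec b)⁻¹ * (sec a)⁻¹ := by
    simp [hc, hlift']
  have hiff : ∀ z : g.ker, q (lift b) * (q (lift a) * (q.comp k) z) * (q (lift b))⁻¹ = q (lift a) ↔
      (q.comp k) z⁻¹ = q c := by
    intro z
    rw [← mul_assoc (q (lift b)), mul_assoc _ ((q.comp k) z),
      ← Subgroup.mem_center_iff.1 (hcent' z) (q (lift b))⁻¹, ← mul_assoc,
      ← eq_mul_inv_iff_mul_eq, hc, map_inv, map_mul, map_mul, map_mul, map_inv, map_inv]
    constructor
    · intro h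
      rw [h, Subgroup.mem_center_iff.1 (inv_mem (hcent' z)) (q (lift a)), mul_inv_cancel_right]
    · intro h
      calc q (lift b) * q (lift a) * (q (lift b))⁻¹
          = q (lift b) * q (lift a) * (q (lift b))⁻¹ * (q (lift a))⁻¹ * q (lift a) := by group
        _ = ((q.comp k) z)⁻¹ * q (lift a) := by rw [← h]
        _ = _ := (Subgroup.mem_center_iff.1 (inv_mem (hcent' z)) _).symm
  by_cases hmem : c.1.1 ∈ L
  · obtain ⟨z₀, hz₀⟩ := (hmemZ c).2 hmem
    rw [Finset.sum_eq_single z₀⁻¹ (fun z _ hz => if_neg fun h => hz (by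
        rw [← hki (((hiff z).1 h).trans hz₀.symm), inv_inv]))
      (fun h => absurd (Finset.mem_univ _) h), if_pos ((hiff _).2 (by rw [inv_inv, hz₀]))]
    show (((zf z₀⁻¹)⁻¹ : ℂˣ) : ℂ) = _
    have hzi : (zf z₀⁻¹)⁻¹ = zf z₀ := (map_inv ε z₀).trans (inv_inv (zf z₀))
    rw [hzi]
    rw [hc1] at hmem
    obtain ⟨a', ha'⟩ := pair_exists (isIrrCharacter_of_rep σ) (hn (hsec b)) (hn (hsec a))
      (hν _ (hsec b)) (hν _ (hsec a)) hmem
    rw [pairVal_eq (isIrrCharacter_of_rep σ) (hn (hsec b)) (hn (hsec a)) ha']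
    congr 1
    obtain ⟨hcm, hspec⟩ := pair_spec σ rfl ha' (hn (hsec b)) (hn (hsec a))
      (show Inter σ (sec b) (lift b).1.2 from hlift' b ▸ (lift b).2.2.1)
      (show Inter σ (sec a) (lift a).1.2 from hlift' a ▸ (lift a).2.2.1)
    obtain ⟨l, hl⟩ := (hqi ((k z₀)⁻¹ * c)).1 (by
      rw [map_mul, map_inv, ← hz₀, MonoidHom.comp_apply, inv_mul_cancel])
    have hl1 : (l : W) = c.1.1 := by
      have := congrArg (fun x : E => x.1.1) hl
      simp only [k] at this
      refine this.trans ?_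
      show ((z₀ : E).1.1)⁻¹ * c.1.1 = c.1.1
      rw [hker1, inv_one, one_mul]
    have hl2 : c.1.2 = scalarUnit (zf z₀) * σ.toHomUnits l := by
      have := congrArg (fun x : E => x.1.2) hl
      rw [hzf]
      exact eq_mul_of_inv_mul_eq this.symm
    have hl3 : l = ⟨_, hcm⟩ := Subtype.ext (hl1.trans hc1)
    apply scalarUnit_injective' σ
    refine mul_right_cancel (b := σ.toHomUnits l) (hl2.symm.trans ?_)
    rw [hl3, ← hspec]
    rfl
  · rw [Finset.sum_eq_zero fun z _ => if_neg fun h => hmem ((hmemZ c).1 ⟨z⁻¹, (hiff z).1 h⟩),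
      pairVal_eq_zero (hc1 ▸ hmem)]

end Cfsg.Agent.RelMcKay
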