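import Cfsg.Agent.Lib.RelMcKay.Split
import Cfsg.Agent.Lib.RelMcKay.PairSum
import Mathlib.GroupTheory.SchurZassenhaus

/-!
# The correspondence between characters of `K S` and of `C_K(S) × S`
-/

set_option autoImplicit false
set_option linter.style.haveILetI false
set_option linter.unusedSectionVars false

namespace Cfsg.Agent.RelMcKay

open Cfsg Cfsg.Agent Cfsg.Agent.Char Cfsg.Agent.CharExtend
open scoped ComplexConjugate

universe u

variable {W : Type u} [Group W] [Finite W] {p : ℕ} [hp : Fact p.Prime]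

/-- `θ` on `K S` and `φ` on `C S` correspond. -/
def Rel (p : ℕ) {K S C : Subgroup W} [Fintype C] (hCK : C ≤ K)
    (θ : (K ⊔ S : Subgroup W) → ℂ) (φ : (C ⊔ S : Subgroup W) → ℂ) : Prop :=
  ∃ (θ₀ : IrrCharacter K) (φ₀ : IrrCharacter C),
    (∀ k : K, θ ⟨k, le_sup_left (α := Subgroup W) k.2⟩ = (θ₀ : K → ℂ) k) ∧
    (∀ c : C, φ ⟨c, le_sup_left (α := Subgroup W) c.2⟩ = (φ₀ : C → ℂ) c) ∧
    Over p hCK (θ₀ : K → ℂ) (φ₀ : C → ℂ) ∧
    ∀ s : S, detChar θ ⟨s, le_sup_right (α := Subgroup W) s.2⟩ =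
      (φ ⟨s, le_sup_right (α := Subgroup W) s.2⟩ / φ 1) ^ charDegree θ

theorem root_unique {a b : ℂˣ} {d m : ℕ} (h : a ^ d = b ^ d) (ha : a ^ m = 1) (hb : b ^ m = 1)
    (hcop : d.Coprime m) : a = b :=
  div_eq_one.1 (eq_one_of_pow_coprime (by rw [div_pow, h, div_self'])
    (by rw [div_pow, ha, hb, div_one]) hcop)

theorem hom_pow_card {X : Type u} [Group X] [Finite X] (f : X →* ℂˣ) (x : X) :
    f x ^ Nat.card X = 1 := by
  rw [← map_pow, pow_card_eq_one', map_one]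

theorem exists_root {X : Type u} [Group X] [Finite X] (f : X →* ℂˣ) {d : ℕ}
    (hcop : d.Coprime (Nat.card X)) : ∃ g : X →* ℂˣ, g ^ d = f := by
  have hf : f ^ Nat.card X = 1 := MonoidHom.ext fun x => hom_pow_card f x
  obtain ⟨k, hk⟩ := exists_pow_eq_self_of_coprime (x := f)
    (hcop.coprime_dvd_right (orderOf_dvd_of_pow_eq_one hf))
  refine ⟨f ^ k, MonoidHom.ext fun x => ?_⟩
  have h := DFunLike.congr_fun hk x
  simp only [MonoidHom.pow_apply] at h ⊢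
  rw [← pow_mul, Nat.mul_comm, pow_mul, h]

theorem pow_card_of_mem {S : Subgroup W} {w : W} (hw : w ∈ S) : w ^ Nat.card S = 1 := by
  have h := congrArg Subtype.val (pow_card_eq_one' (x := (⟨w, hw⟩ : S)))
  rwa [SubgroupClass.coe_pow, OneMemClass.coe_one] at h

theorem coprime_pgroup {S : Subgroup W} (hS : IsPGroup p S) {d : ℕ} (hd : ¬ p ∣ d) :
    d.Coprime (Nat.card S) := by
  obtain ⟨m, hm⟩ := IsPGroup.iff_card.1 hS
  rw [hm]
  exact ((hp.out.coprime_iff_not_dvd.2 hd).symm).pow_right m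

section bij

variable {K S C : Subgroup W} [Fintype C] (hK : ¬ p ∣ Nat.card K) (hS : IsPGroup p S)
  (hSK : S ≤ Subgroup.normalizer (K : Set W)) (hC : C = K ⊓ Subgroup.centralizer (S : Set W))
  (hCK : C ≤ K)

include hK hS hC

theorem cent_le : S ≤ Subgroup.centralizer (C : Set W) := fun s hs =>
  Subgroup.mem_centralizer_iff.2 fun c hc =>
    (Subgroup.mem_centralizer_iff.1 (hC ▸ hc : c ∈ K ⊓ _).2 s hs).symm

theorem cent_norm : S ≤ Subgroup.normalizer (C : Set W) := fun s hs =>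
  mem_normalizer_of_conj_mem fun c hc => by
    rw [← Subgroup.mem_centralizer_iff.1 (cent_le hK hS hC hs) c hc, mul_inv_cancel_right]
    exact hc

theorem cent_card : ¬ p ∣ Nat.card C := fun h =>
  hK (h.trans (Subgroup.card_dvd_of_le (hC ▸ inf_le_left : C ≤ K)))

/-- The extension trivial on the complement. -/
theorem cent_extend (φ₀ : IrrCharacter C) :
    ∃ φ : IrrCharacter (C ⊔ S : Subgroup W),
      (∀ c : C, (φ : (C ⊔ S : Subgroup W) → ℂ) ⟨c, le_sup_left (α := Subgroup W) c.2⟩ =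
        (φ₀ : C → ℂ) c) ∧
      ∀ s : S, (φ : (C ⊔ S : Subgroup W) → ℂ) ⟨s, le_sup_right (α := Subgroup W) s.2⟩ =
        (φ₀ : C → ℂ) 1 := by
  have hd := disjoint_pp' (cent_card hK hS hC) hS
  obtain ⟨r, hr1, hr2⟩ := exists_proj (cent_norm hK hS hC) hd
  let f : (C ⊔ S : Subgroup W) →* C :=
    MonoidHom.mk' (fun x => ⟨(x : W) * (r x : W)⁻¹, hr1 x⟩) fun x y => Subtype.ext (by
      have hc := Subgroup.mem_centralizer_iff.1 (cent_le hK hS hC (inv_mem (r x).2)) _ (hr1 y)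
      show (x : W) * y * (r (x * y) : W)⁻¹ = (x : W) * (r x : W)⁻¹ * ((y : W) * (r y : W)⁻¹)
      calc (x : W) * y * (r (x * y) : W)⁻¹
          = (x : W) * ((y : W) * (r y : W)⁻¹ * (r x : W)⁻¹) := by
            rw [map_mul, Subgroup.coe_mul]; group
        _ = (x : W) * ((r x : W)⁻¹ * ((y : W) * (r y : W)⁻¹)) := by rw [hc]
        _ = _ := by group)
  have hfc : ∀ c : C, f ⟨c, le_sup_left (α := Subgroup W) c.2⟩ = c := fun c => Subtype.ext (by
    have h1 : (r ⟨c, le_sup_left (α := Subgroup W) c.2⟩ : W) = 1 := hd _ (by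
      have := mul_mem (inv_mem (hr1 ⟨c, le_sup_left (α := Subgroup W) c.2⟩)) c.2
      simpa using this) (r _).2
    simp [f, h1])
  refine ⟨⟨fun x => (φ₀ : C → ℂ) (f x), IsIrrCharacter.comp φ₀.2 f fun c => ⟨_, hfc c⟩⟩,
    fun c => congrArg (φ₀ : C → ℂ) (hfc c), fun s => congrArg (φ₀ : C → ℂ) (Subtype.ext ?_)⟩
  simp [f, hr2 ⟨s, le_sup_right (α := Subgroup W) s.2⟩ s.2]

/-- A character of `C S` of degree prime to `p` is a character of `C` times a character of `S`. -/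
theorem cent_shape (φ : IrrCharacter (C ⊔ S : Subgroup W))
    (hφ : ¬ p ∣ charDegree (φ : (C ⊔ S : Subgroup W) → ℂ)) :
    ∃ (φ₀ : IrrCharacter C) (φ₁ : IrrCharacter (C ⊔ S : Subgroup W))
      (lam : (C ⊔ S : Subgroup W) →* ℂˣ),
      (∀ c : C, (φ : (C ⊔ S : Subgroup W) → ℂ) ⟨c, le_sup_left (α := Subgroup W) c.2⟩ =
        (φ₀ : C → ℂ) c) ∧
      (∀ x : (C ⊔ S : Subgroup W), (x : W) ∈ C → lam x = 1) ∧
      (∀ c : C, (φ₁ : (C ⊔ S : Subgroup W) → ℂ) ⟨c, le_sup_left (α := Subgroup W) c.2⟩ =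
        (φ₀ : C → ℂ) c) ∧
      (∀ x, (φ : (C ⊔ S : Subgroup W) → ℂ) x = lam x * (φ₁ : (C ⊔ S : Subgroup W) → ℂ) x) ∧
      ∀ s : S, (φ : (C ⊔ S : Subgroup W) → ℂ) ⟨s, le_sup_right (α := Subgroup W) s.2⟩ /
        (φ : (C ⊔ S : Subgroup W) → ℂ) 1 = lam ⟨s, le_sup_right (α := Subgroup W) s.2⟩ := by
  obtain ⟨φ₀, -, hφ₀⟩ := split_restrict (cent_card hK hS hC) hS (cent_norm hK hS hC) φ hφ
  obtain ⟨φ₁, h1, h1'⟩ := cent_extend hK hS hC φ₀
  obtain ⟨lam, hl, hlam⟩ := split_twist (cent_card hK hS hC) hS (cent_norm hK hS hC) φ₁.2 φ.2 φ₀.2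
    h1 hφ₀
  refine ⟨φ₀, φ₁, lam, hφ₀, hl, h1, hlam, fun s => ?_⟩
  rw [hlam, h1', show (φ : (C ⊔ S : Subgroup W) → ℂ) 1 = (φ₀ : C → ℂ) 1 from hφ₀ 1,
    mul_div_assoc, div_self (IsIrrCharacter.one_ne_zero φ₀.2), mul_one]

include hSK

theorem rel_fwd (θ : IrrCharacter (K ⊔ S : Subgroup W))
    (hθ : ¬ p ∣ charDegree (θ : (K ⊔ S : Subgroup W) → ℂ)) :
    ∃ φ : IrrCharacter (C ⊔ S : Subgroup W), ¬ p ∣ charDegree (φ : (C ⊔ S : Subgroup W) → ℂ) ∧
      Rel p hCK (θ : (K ⊔ S : Subgroup W) → ℂ) (φ : (C ⊔ S : Subgroup W) → ℂ) ∧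
      ∀ φ' : IrrCharacter (C ⊔ S : Subgroup W), ¬ p ∣ charDegree (φ' : (C ⊔ S : Subgroup W) → ℂ) →
        Rel p hCK (θ : (K ⊔ S : Subgroup W) → ℂ) (φ' : (C ⊔ S : Subgroup W) → ℂ) → φ' = φ := by
  obtain ⟨θ₀, hinv, hθ₀⟩ := split_restrict hK hS hSK θ hθ
  obtain ⟨φ₀, hov, huniq⟩ := glauber_fwd S K C hS hK hSK hC hCK θ₀ hinv
  obtain ⟨φ₁, h1, h1'⟩ := cent_extend hK hS hC φ₀
  obtain ⟨μ, hμ⟩ := exists_det_hom (IsIrrCharacter.isCharacter θ.2)
  obtain ⟨ω, hω⟩ := exists_root (μ.comp (Subgroup.inclusion (le_sup_right : S ≤ K ⊔ S)))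
    (coprime_pgroup hS hθ)
  obtain ⟨lam, hlC, hlS⟩ := split_linear (cent_card hK hS hC) hS (cent_norm hK hS hC) ω
  haveI := Fintype.ofFinite (C ⊔ S : Subgroup W)
  let φ : IrrCharacter (C ⊔ S : Subgroup W) :=
    ⟨fun x => (lam x : ℂ) * (φ₁ : (C ⊔ S : Subgroup W) → ℂ) x, isIrr_linear_mul φ₁.2 lam⟩
  have hres : ∀ c : C, (φ : (C ⊔ S : Subgroup W) → ℂ) ⟨c, le_sup_left (α := Subgroup W) c.2⟩ =
      (φ₀ : C → ℂ) c := fun c => by
    show (lam _ : ℂ) * (φ₁ : (C ⊔ S : Subgroup W) → ℂ) _ = _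
    rw [hlC _ c.2, Units.val_one, one_mul, h1]
  have hdiv : ∀ s : S, (φ : (C ⊔ S : Subgroup W) → ℂ) ⟨s, le_sup_right (α := Subgroup W) s.2⟩ /
      (φ : (C ⊔ S : Subgroup W) → ℂ) 1 = ω s := fun s => by
    rw [show (φ : (C ⊔ S : Subgroup W) → ℂ) 1 = (φ₀ : C → ℂ) 1 from hres 1]
    show (lam _ : ℂ) * (φ₁ : (C ⊔ S : Subgroup W) → ℂ) _ / _ = _
    rw [hlS, h1', mul_div_assoc, div_self (IsIrrCharacter.one_ne_zero φ₀.2), mul_one]
  obtain ⟨hde, hdp⟩ := charDegree_res (cent_card hK hS hC) hS (cent_norm hK hS hC) φ φ₀ hres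
  refine ⟨φ, hde ▸ hdp, ⟨θ₀, φ₀, hθ₀, hres, hov, fun s => ?_⟩, fun φ' hφ' hrel => ?_⟩
  · rw [hdiv, hμ, ← Units.val_pow_eq_pow_val, ← MonoidHom.pow_apply, hω]
    rfl
  · obtain ⟨θ₀', φ₀', hθ₀', hφ₀', hov', hdet⟩ := hrel
    obtain rfl : θ₀' = θ₀ := Subtype.ext (funext fun k => (hθ₀' k).symm.trans (hθ₀ k))
    obtain rfl := huniq φ₀' hov'
    obtain ⟨lam', hl', hlam'⟩ := split_twist (cent_card hK hS hC) hS (cent_norm hK hS hC) φ.2 φ'.2
      φ₀'.2 hres hφ₀'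
    have h : lam' = 1 := linear_ext_eq (cent_card hK hS hC) hS (cent_norm hK hS hC)
      (fun x hx => hl' x hx) fun x hx => by
        set s : S := ⟨(x : W), hx⟩ with hs
        have h2 := hdet s
        rw [hμ, hlam', show (φ' : (C ⊔ S : Subgroup W) → ℂ) 1 = (φ : (C ⊔ S : Subgroup W) → ℂ) 1
            from (hφ₀' 1).trans (hres 1).symm, mul_div_assoc, hdiv,
          ← Units.val_mul, ← Units.val_pow_eq_pow_val] at h2
        have h3 : (lam' x * ω s) ^ charDegree (θ : (K ⊔ S : Subgroup W) → ℂ) =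
            ω s ^ charDegree (θ : (K ⊔ S : Subgroup W) → ℂ) := by
          rw [← MonoidHom.pow_apply, hω]
          exact (Units.ext h2).symm
        have h4 : lam' x ^ Nat.card S = 1 := by
          rw [← map_pow, show x ^ Nat.card S = 1 from Subtype.ext (by
            rw [SubgroupClass.coe_pow]; exact pow_card_of_mem hx), map_one]
        rw [MonoidHom.one_apply]
        refine mul_right_cancel (b := ω s) ((root_unique h3 ?_ (hom_pow_card ω s)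
          (coprime_pgroup hS hθ)).trans (one_mul _).symm)
        rw [mul_pow, h4, one_mul, hom_pow_card]
    exact Subtype.ext (funext fun x => by rw [hlam', h]; simp)

theorem rel_bwd (φ : IrrCharacter (C ⊔ S : Subgroup W))
    (hφ : ¬ p ∣ charDegree (φ : (C ⊔ S : Subgroup W) → ℂ)) :
    ∃ θ : IrrCharacter (K ⊔ S : Subgroup W), ¬ p ∣ charDegree (θ : (K ⊔ S : Subgroup W) → ℂ) ∧
      Rel p hCK (θ : (K ⊔ S : Subgroup W) → ℂ) (φ : (C ⊔ S : Subgroup W) → ℂ) ∧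
      ∀ θ' : IrrCharacter (K ⊔ S : Subgroup W), ¬ p ∣ charDegree (θ' : (K ⊔ S : Subgroup W) → ℂ) →
        Rel p hCK (θ' : (K ⊔ S : Subgroup W) → ℂ) (φ : (C ⊔ S : Subgroup W) → ℂ) → θ' = θ := by
  obtain ⟨φ₀, φ₁, nu, hφ₀, -, -, -, hdiv⟩ := cent_shape hK hS hC φ hφ
  obtain ⟨θ₀, hinv, hov, huniq⟩ := glauber_bwd S K C hS hK hSK hC hCK φ₀
  obtain ⟨χ, hχ⟩ := split_extend hK hS hSK θ₀ hinv
  obtain ⟨hχd, hχp⟩ := charDegree_res hK hS hSK χ θ₀ hχ
  set d := charDegree (θ₀ : K → ℂ)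
  obtain ⟨μ, hμ⟩ := exists_det_hom (IsIrrCharacter.isCharacter χ.2)
  let ιS : S →* (K ⊔ S : Subgroup W) := Subgroup.inclusion le_sup_right
  let ωS : S →* ℂˣ := nu.comp (Subgroup.inclusion (le_sup_right : S ≤ C ⊔ S))
  obtain ⟨τ, hτ⟩ := exists_root (ωS ^ d / μ.comp ιS) (coprime_pgroup hS hχp)
  obtain ⟨lam, hlK, hlS⟩ := split_linear hK hS hSK τ
  haveI := Fintype.ofFinite (K ⊔ S : Subgroup W)
  let θ : IrrCharacter (K ⊔ S : Subgroup W) :=
    ⟨fun x => (lam x : ℂ) * (χ : (K ⊔ S : Subgroup W) → ℂ) x, isIrr_linear_mul χ.2 lam⟩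
  have hres : ∀ k : K, (θ : (K ⊔ S : Subgroup W) → ℂ) ⟨k, le_sup_left (α := Subgroup W) k.2⟩ =
      (θ₀ : K → ℂ) k := fun k => by
    show (lam _ : ℂ) * (χ : (K ⊔ S : Subgroup W) → ℂ) _ = _
    rw [hlK _ k.2, Units.val_one, one_mul, hχ]
  obtain ⟨hθd, -⟩ := charDegree_res hK hS hSK θ θ₀ hres
  have hdet : ∀ s : S, detChar (θ : (K ⊔ S : Subgroup W) → ℂ)
      ⟨s, le_sup_right (α := Subgroup W) s.2⟩ = ((ωS s ^ d : ℂˣ) : ℂ) := fun s => by
    show detChar (fun x => (lam x : ℂ) * (χ : (K ⊔ S : Subgroup W) → ℂ) x) _ = _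
    rw [detChar_twist (IsIrrCharacter.isCharacter χ.2), hlS, hμ, hχd, ← Units.val_pow_eq_pow_val,
      ← MonoidHom.pow_apply, hτ, ← Units.val_mul]
    exact congrArg Units.val (div_mul_cancel _ _)
  refine ⟨θ, hθd ▸ hχp, ⟨θ₀, φ₀, hres, hφ₀, hov, fun s => ?_⟩, fun θ' hθ' hrel => ?_⟩
  · rw [hdet, hθd, hdiv, Units.val_pow_eq_pow_val]
    rfl
  · obtain ⟨θ₀', φ₀', hθ₀', hφ₀', hov', hdet'⟩ := hrel
    obtain rfl : φ₀' = φ₀ := Subtype.ext (funext fun c => (hφ₀' c).symm.trans (hφ₀ c))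
    obtain ⟨θ₀'', hinv'', hres''⟩ := split_restrict hK hS hSK θ' hθ'
    obtain rfl : θ₀'' = θ₀' := Subtype.ext (funext fun k => (hres'' k).symm.trans (hθ₀' k))
    obtain rfl := huniq θ₀'' hinv'' hov'
    obtain ⟨lam', hl', hlam'⟩ := split_twist hK hS hSK θ.2 θ'.2 θ₀''.2 hres hres''
    obtain ⟨hθ'd, -⟩ := charDegree_res hK hS hSK θ' θ₀'' hres''
    have h : lam' = 1 := linear_ext_eq hK hS hSK (fun x hx => hl' x hx) fun x hx => by
      set s : S := ⟨(x : W), hx⟩ with hs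
      have h2 := hdet' s
      rw [show (θ' : (K ⊔ S : Subgroup W) → ℂ) =
          fun y => (lam' y : ℂ) * (θ : (K ⊔ S : Subgroup W) → ℂ) y from funext hlam',
        detChar_twist (IsIrrCharacter.isCharacter θ.2), hdet, hdiv,
        show (fun y => (lam' y : ℂ) * (θ : (K ⊔ S : Subgroup W) → ℂ) y) =
          (θ' : (K ⊔ S : Subgroup W) → ℂ) from (funext hlam').symm, hθd, hθ'd,
        ← Units.val_pow_eq_pow_val, ← Units.val_pow_eq_pow_val, ← Units.val_mul] at h2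
      have h3 : lam' x ^ d * ωS s ^ d = ωS s ^ d := Units.ext h2
      rw [MonoidHom.one_apply]
      refine eq_one_of_pow_coprime (mul_eq_right.1 h3) ?_ (coprime_pgroup hS hχp)
      rw [← map_pow, show x ^ Nat.card S = 1 from Subtype.ext (by
        rw [SubgroupClass.coe_pow]; exact pow_card_of_mem hx), map_one]
    exact Subtype.ext (funext fun x => by rw [hlam', h]; simp)

theorem rel_conj {θ : IrrCharacter (K ⊔ S : Subgroup W)} {φ : IrrCharacter (C ⊔ S : Subgroup W)}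
    (h : Rel p hCK (θ : (K ⊔ S : Subgroup W) → ℂ) (φ : (C ⊔ S : Subgroup W) → ℂ)) {g : W}
    (hgK : g ∈ Subgroup.normalizer (K : Set W)) (hgS : g ∈ Subgroup.normalizer (S : Set W))
    (hgU : g ∈ Subgroup.normalizer ((K ⊔ S : Subgroup W) : Set W))
    (hgV : g ∈ Subgroup.normalizer ((C ⊔ S : Subgroup W) : Set W)) :
    Rel p hCK (cjOf hgU θ : (K ⊔ S : Subgroup W) → ℂ) (cjOf hgV φ : (C ⊔ S : Subgroup W) → ℂ) := by
  obtain ⟨θ₀, φ₀, h1, h2, hov, hdet⟩ := h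
  have hgC : g ∈ Subgroup.normalizer (C : Set W) :=
    hC ▸ mem_normalizer_inf hgK (mem_normalizer_centralizer hgS)
  refine ⟨cjOf hgK θ₀, cjOf hgC φ₀, fun k => h1 (cj hgK k), fun c => h2 (cj hgC c),
    over_cjOf hCK hgK hgC hov, fun s => ?_⟩
  show detChar (fun x => (θ : (K ⊔ S : Subgroup W) → ℂ) (cj hgU x)) _ = _
  rw [detChar_comp (cj hgU) (IsIrrCharacter.isCharacter θ.2)]
  rw [show (cjOf hgV φ : (C ⊔ S : Subgroup W) → ℂ) 1 = (φ : (C ⊔ S : Subgroup W) → ℂ) 1 from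
    congrArg (φ : (C ⊔ S : Subgroup W) → ℂ) (map_one _),
    show charDegree (cjOf hgU θ : (K ⊔ S : Subgroup W) → ℂ) =
      charDegree (θ : (K ⊔ S : Subgroup W) → ℂ) by simp [charDegree, cjOf]]
  exact hdet ⟨g * s * g⁻¹, conj_mem hgS s.2⟩

theorem rel_central {θ : IrrCharacter (K ⊔ S : Subgroup W)} {φ : IrrCharacter (C ⊔ S : Subgroup W)}
    (hθ : ¬ p ∣ charDegree (θ : (K ⊔ S : Subgroup W) → ℂ))
    (h : Rel p hCK (θ : (K ⊔ S : Subgroup W) → ℂ) (φ : (C ⊔ S : Subgroup W) → ℂ))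
    {Z : Subgroup W} (hZV : Z ≤ C ⊔ S) (hZU : Z ≤ K ⊔ S)
    (hZc : Z ≤ Subgroup.centralizer ((K ⊔ S : Subgroup W) : Set W)) (ν : Z →* ℂˣ) :
    Lies (Subgroup.inclusion hZU) (θ : (K ⊔ S : Subgroup W) → ℂ) (fun z => (ν z : ℂ)) ↔
      Lies (Subgroup.inclusion hZV) (φ : (C ⊔ S : Subgroup W) → ℂ) (fun z => (ν z : ℂ)) := by
  obtain ⟨θ₀, φ₀, h1, h2, hov, hdet⟩ := h
  have hVU : C ⊔ S ≤ K ⊔ S := sup_le_sup_right hCK S
  have hcU : ∀ z : Z, Subgroup.inclusion hZU z ∈ Subgroup.center (K ⊔ S : Subgroup W) := fun z =>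
    Subgroup.mem_center_iff.2 fun x => Subtype.ext (Subgroup.mem_centralizer_iff.1 (hZc z.2) x x.2)
  have hcV : ∀ z : Z, Subgroup.inclusion hZV z ∈ Subgroup.center (C ⊔ S : Subgroup W) := fun z =>
    Subgroup.mem_center_iff.2 fun x => Subtype.ext
      (Subgroup.mem_centralizer_iff.1 (hZc z.2) x (hVU x.2))
  obtain ⟨a, ha⟩ := exists_central_hom _ hcU θ.2
  obtain ⟨b, hb⟩ := exists_central_hom _ hcV φ.2
  rw [lies_central θ.2 ha, lies_central φ.2 hb]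
  suffices hab : a = b by rw [hab]
  refine MonoidHom.ext fun z => ?_
  obtain ⟨hzC, hzS⟩ := pow_card_mem (cent_card hK hS hC) hS (cent_le hK hS hC) ⟨(z : W), hZV z.2⟩
  have e1 : a (z ^ Nat.card S) = b (z ^ Nat.card S) := by
    set w := z ^ Nat.card S with hw
    have hwC : (w : W) ∈ C := hzC
    obtain ⟨m, hm, hpm⟩ := hov
    have hm0 : (m : ℂ) ≠ 0 := Nat.cast_ne_zero.2 fun h => hpm (h ▸ dvd_zero p)
    let f : C → ℂ := fun c => (θ₀ : K → ℂ) ⟨(c : W), hCK c.2⟩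
    have hf : ∀ c : C, f (c * ⟨w, hwC⟩) = a w * f c := fun c =>
      ((h1 _).symm.trans (ha w ⟨c, le_sup_left (α := Subgroup W) (hCK c.2)⟩)).trans
        (congrArg _ (h1 ⟨(c : W), hCK c.2⟩))
    have hg : ∀ c : C, (φ₀ : C → ℂ) (c * ⟨w, hwC⟩) = b w * (φ₀ : C → ℂ) c := fun c =>
      ((h2 _).symm.trans (hb w ⟨c, le_sup_left (α := Subgroup W) c.2⟩)).trans (congrArg _ (h2 c))
    have key : classInner f (φ₀ : C → ℂ) =
        ((a w : ℂ) * conj (b w : ℂ)) * classInner f (φ₀ : C → ℂ) := by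
      conv_lhs => rw [classInner, ← Equiv.sum_comp (Equiv.mulRight (⟨w, hwC⟩ : C))]
      simp only [Equiv.coe_mulRight, hf, hg, map_mul, classInner, Finset.mul_sum]
      exact Finset.sum_congr rfl fun c _ => by ring
    rw [show classInner f (φ₀ : C → ℂ) = (m : ℂ) from hm] at key
    have h3 : (a w : ℂ) * conj (b w : ℂ) = 1 := mul_right_cancel₀ hm0 (key.symm.trans (one_mul _).symm)
    have h4 : conj (b w : ℂ) = ((b w : ℂ))⁻¹ :=
      (Complex.inv_eq_conj (norm_eq_one_of_pow (Nat.card_pos (α := Z)).ne'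
        (by rw [← Units.val_pow_eq_pow_val, hom_pow_card, Units.val_one]))).symm
    rw [h4, mul_inv_eq_one₀ (b w).ne_zero] at h3
    exact Units.ext h3
  have e2 : a (z ^ Nat.card C) = b (z ^ Nat.card C) := by
    set w := z ^ Nat.card C with hw
    have hwS : (w : W) ∈ S := hzS
    have hax : (θ : (K ⊔ S : Subgroup W) → ℂ) (Subgroup.inclusion hZU w) =
        a w * (θ : (K ⊔ S : Subgroup W) → ℂ) 1 := by simpa using ha w 1
    have hbx : (φ : (C ⊔ S : Subgroup W) → ℂ) (Subgroup.inclusion hZV w) =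
        b w * (φ : (C ⊔ S : Subgroup W) → ℂ) 1 := by simpa using hb w 1
    have hd := hdet ⟨(w : W), hwS⟩
    rw [show detChar (θ : (K ⊔ S : Subgroup W) → ℂ)
        ⟨(w : W), le_sup_right (α := Subgroup W) hwS⟩ =
        detChar (θ : (K ⊔ S : Subgroup W) → ℂ) (Subgroup.inclusion hZU w) from rfl,
      detChar_central θ.2 (hcU w) hax,
      show (φ : (C ⊔ S : Subgroup W) → ℂ) ⟨(w : W), le_sup_right (α := Subgroup W) hwS⟩ =
        (φ : (C ⊔ S : Subgroup W) → ℂ) (Subgroup.inclusion hZV w) from rfl, hbx,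
      mul_div_assoc, div_self (IsIrrCharacter.one_ne_zero φ.2), mul_one] at hd
    have hd' : a w ^ charDegree (θ : (K ⊔ S : Subgroup W) → ℂ) =
        b w ^ charDegree (θ : (K ⊔ S : Subgroup W) → ℂ) := Units.ext hd
    have hwpow : ∀ f : Z →* ℂˣ, f w ^ Nat.card S = 1 := fun f => by
      rw [← map_pow, show w ^ Nat.card S = 1 from Subtype.ext (by
        rw [SubgroupClass.coe_pow]; exact pow_card_of_mem hwS), map_one]
    exact root_unique hd' (hwpow a) (hwpow b) (coprime_pgroup hS hθ)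
  rw [map_pow, map_pow] at e1 e2
  refine div_eq_one.1 (eq_one_of_pow_coprime (a := Nat.card S) (b := Nat.card C)
    (by rw [div_pow, e1, div_self']) (by rw [div_pow, e2, div_self'])
    (coprime_pgroup hS (cent_card hK hS hC)).symm)

end bij

end Cfsg.Agent.RelMcKay
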