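import Cfsg.Agent.Lib.RelMcKay.PairingTransfer
import Cfsg.Agent.Lib.Char.RealOrbit
import Cfsg.Prelude.Def_Blocks

/-!
# Counting characters of degree prime to `p` over a character of a subgroup
-/

set_option autoImplicit false
set_option linter.style.haveILetI false
set_option linter.unusedSectionVars false

namespace Cfsg.Agent.RelMcKay

open Cfsg Cfsg.Agent Cfsg.Agent.Char Cfsg.Agent.CharX Cfsg.Agent.Blocks
open scoped ComplexConjugate

universe u

/-- The pullback of `χ` along `ι` contains `ν`. -/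
def Lies {X L : Type u} [Group X] [Group L] [Finite L] (ι : L →* X) (χ : X → ℂ) (ν : L → ℂ) : Prop :=
  haveI := Fintype.ofFinite L
  classInner (fun l => χ (ι l)) ν ≠ 0

theorem lies_iff {X L : Type u} [Group X] [Group L] [Finite L] [inst : Fintype L] {ι : L →* X}
    {χ : X → ℂ} {ν : L → ℂ} : Lies ι χ ν ↔ classInner (fun l => χ (ι l)) ν ≠ 0 := by
  cases Subsingleton.elim inst (Fintype.ofFinite L)
  rfl

theorem lies_iff_finsum {X L : Type u} [Group X] [Group L] [Finite L] {ι : L →* X}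
    {χ : X → ℂ} {ν : L → ℂ} : Lies ι χ ν ↔ (∑ᶠ l : L, χ (ι l) * conj (ν l)) ≠ 0 := by
  haveI := Fintype.ofFinite L
  rw [lies_iff, finsum_eq_sum_of_fintype, classInner, mul_ne_zero_iff]
  exact and_iff_right (inv_ne_zero (Nat.cast_ne_zero.2 Nat.card_pos.ne'))

/-- The number of irreducible characters of degree prime to `p` whose pullback contains `ν`. -/
noncomputable def cnt (p : ℕ) {X L : Type u} [Group X] [Group L] [Finite L] (ι : L →* X)
    (ν : L → ℂ) : ℕ :=
  Nat.card {χ : IrrCharacter X // ¬ p ∣ charDegree (χ : X → ℂ) ∧ Lies ι (χ : X → ℂ) ν}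

/-- Transport of irreducible characters along an isomorphism. -/
def irrCongr {X X' : Type u} [Group X] [Group X'] (e : X ≃* X') : IrrCharacter X' ≃ IrrCharacter X where
  toFun χ := ⟨fun x => (χ : X' → ℂ) (e x), IsIrrCharacter.comp χ.2 e.toMonoidHom e.surjective⟩
  invFun χ := ⟨fun x => (χ : X → ℂ) (e.symm x),
    IsIrrCharacter.comp χ.2 e.symm.toMonoidHom e.symm.surjective⟩
  left_inv χ := Subtype.ext (funext fun x => congrArg (χ : X' → ℂ) (e.apply_symm_apply x))
  right_inv χ := Subtype.ext (funext fun x => congrArg (χ : X → ℂ) (e.symm_apply_apply x))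

theorem cnt_congr {p : ℕ} {X X' L L' : Type u} [Group X] [Group X'] [Group L] [Group L'] [Finite L]
    [Finite L'] {ι : L →* X} {ι' : L' →* X'} {ν : L → ℂ} {ν' : L' → ℂ} (e : X ≃* X') (eL : L ≃* L')
    (hc : ∀ l, e (ι l) = ι' (eL l)) (hν : ∀ l, ν l = ν' (eL l)) :
    cnt p ι ν = cnt p ι' ν' := by
  haveI := Fintype.ofFinite L
  haveI := Fintype.ofFinite L'
  refine (Nat.card_congr (Equiv.subtypeEquiv (irrCongr e) fun χ => and_congr ?_ ?_)).symm
  · rw [show charDegree ((irrCongr e χ : IrrCharacter X) : X → ℂ) = charDegree (χ : X' → ℂ) by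
      simp [charDegree, irrCongr]]
  · rw [lies_iff, lies_iff]
    refine not_congr (Iff.of_eq (congrArg (· = 0) ?_))
    have h := RelGlauberman.classInner_comp_surj eL.toMonoidHom eL.surjective
      (fun l => (χ : X' → ℂ) (ι' l)) ν'
    rw [← h]
    exact congrArg₂ classInner (funext fun l => (congrArg (χ : X' → ℂ) (hc l)).symm)
      (funext fun l => (hν l).symm)

/-- Multiplicities in two steps. -/
theorem exists_mult_sum {X M L : Type u} [Group X] [Group M] [Group L] [Fintype M] [Fintype L]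
    (j : M →* X) (ι : L →* M) {χ : X → ℂ} (hχ : IsCharacter X χ) {ν : L → ℂ}
    (hν : IsCharacter L ν) :
    ∃ a b : IrrCharacter M → ℕ, (∀ η : IrrCharacter M, classInner (fun m => χ (j m)) (η : M → ℂ) = a η) ∧
      (∀ η : IrrCharacter M, classInner (fun l => (η : M → ℂ) (ι l)) ν = b η) ∧
      classInner (fun l => χ (j (ι l))) ν = ((∑ η : IrrCharacter M, a η * b η : ℕ) : ℂ) := by
  classical
  have hf : IsCharacter M (fun m => χ (j m)) := IsCharacter.comp hχ j
  choose a ha using fun η : IrrCharacter M =>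
    IsCharacter.exists_classInner_nat hf (IsIrrCharacter.isCharacter η.2)
  choose b hb using fun η : IrrCharacter M => IsCharacter.exists_classInner_nat
    (IsCharacter.comp (IsIrrCharacter.isCharacter η.2) ι) hν
  refine ⟨a, b, ha, hb, ?_⟩
  rw [show (fun l => χ (j (ι l))) = ∑ η : IrrCharacter M,
      classInner (fun m => χ (j m)) (η : M → ℂ) • (fun l => (η : M → ℂ) (ι l)) from funext fun l => by
    have e := congrFun (IsCharacter.eq_sum hf) (ι l)
    simp only [Finset.sum_apply, Pi.smul_apply] at e ⊢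
    exact e, classInner_sum_left, Nat.cast_sum]
  exact Finset.sum_congr rfl fun η _ => by rw [classInner_smul_left, ha η, hb η, Nat.cast_mul]

theorem lies_trans {X M L : Type u} [Group X] [Group M] [Group L] [Finite M] [Finite L]
    {j : M →* X} {ι : L →* M} {χ : X → ℂ} (hχ : IsCharacter X χ) {ν : L → ℂ} (hν : IsCharacter L ν)
    {η : IrrCharacter M} (h1 : Lies j χ (η : M → ℂ)) (h2 : Lies ι (η : M → ℂ) ν) :
    Lies (j.comp ι) χ ν := by
  haveI := Fintype.ofFinite M
  haveI := Fintype.ofFinite L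
  obtain ⟨a, b, ha, hb, hs⟩ := exists_mult_sum j ι hχ hν
  rw [lies_iff] at h1 h2 ⊢
  rw [ha, Nat.cast_ne_zero] at h1
  rw [hb, Nat.cast_ne_zero] at h2
  refine ne_of_eq_of_ne hs (Nat.cast_ne_zero.2 fun h0 => ?_)
  exact mul_ne_zero h1 h2 (Finset.sum_eq_zero_iff.1 h0 η (Finset.mem_univ _))

theorem lies_split {X M L : Type u} [Group X] [Group M] [Group L] [Finite M] [Finite L]
    {j : M →* X} {ι : L →* M} {χ : X → ℂ} (hχ : IsCharacter X χ) {ν : L → ℂ} (hν : IsCharacter L ν)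
    (h : Lies (j.comp ι) χ ν) :
    ∃ η : IrrCharacter M, Lies j χ (η : M → ℂ) ∧ Lies ι (η : M → ℂ) ν := by
  haveI := Fintype.ofFinite M
  haveI := Fintype.ofFinite L
  obtain ⟨a, b, ha, hb, hs⟩ := exists_mult_sum j ι hχ hν
  rw [lies_iff] at h
  obtain ⟨η, -, hη⟩ := Finset.exists_ne_zero_of_sum_ne_zero
    (Nat.cast_ne_zero.1 (ne_of_eq_of_ne hs.symm h))
  rw [mul_ne_zero_iff] at hη
  exact ⟨η, lies_iff.2 (by rw [ha, Nat.cast_ne_zero]; exact hη.1),
    lies_iff.2 (by rw [hb, Nat.cast_ne_zero]; exact hη.2)⟩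

variable {W : Type u} [Group W] [Finite W] {p : ℕ}

/-- The count for a pair of subgroups. -/
noncomputable def cntIn (p : ℕ) {L H : Subgroup W} (h : L ≤ H) (ν : L → ℂ) : ℕ :=
  cnt p (Subgroup.inclusion h) ν

theorem cntIn_congr {L H H' : Subgroup W} (h : L ≤ H) (h' : L ≤ H') (e : H = H') (ν : L → ℂ) :
    cntIn p h ν = cntIn p h' ν := by
  subst e; rfl

theorem subgroupOf_eqv_apply {L H : Subgroup W} (h : L ≤ H) (x : L.subgroupOf H) :
    ((Subgroup.subgroupOfEquivOfLe h x : L) : W) = ((x : H) : W) := rfl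

set_option maxHeartbeats 1000000 in
/-- Restriction to the inertia group. -/
theorem cnt_inertia [hp : Fact p.Prime] {L H : Subgroup W} (h : L ≤ H)
    (hn : H ≤ Subgroup.normalizer (L : Set W)) (ν : IrrCharacter L)
    (hT : L ≤ H ⊓ invSubgroup L (ν : L → ℂ))
    (hidx : ¬ p ∣ (H ⊓ invSubgroup L (ν : L → ℂ)).relIndex H) :
    cntIn p h (ν : L → ℂ) = cntIn p hT (ν : L → ℂ) := by
  classical
  haveI := Fintype.ofFinite H
  haveI : (L.subgroupOf H).Normal := (Subgroup.normal_subgroupOf_iff_le_normalizer h).2 hn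
  haveI := Fintype.ofFinite (L.subgroupOf H)
  set K := L.subgroupOf H
  let e : K ≃* L := Subgroup.subgroupOfEquivOfLe h
  set ν' : K → ℂ := fun x => (ν : L → ℂ) (e x) with hν'
  have hν'i : IsIrrCharacter K ν' := IsIrrCharacter.comp ν.2 e.toMonoidHom e.surjective
  set T := inertia K ν' with hTdef
  haveI := Fintype.ofFinite T
  have hTeq : T = (H ⊓ invSubgroup L (ν : L → ℂ)).subgroupOf H := by
    refine Subgroup.ext fun x => ⟨fun hx => ⟨x.2, hn x.2, fun k k' hk => ?_⟩, fun hx => ?_⟩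
    · have := congrFun ((mem_inertia K).1 hx) (e.symm k)
      simp only [conjChar, hν', MulEquiv.apply_symm_apply] at this
      refine Eq.trans (congrArg (ν : L → ℂ) (Subtype.ext ?_)) this
      rw [hk]; rfl
    · refine (mem_inertia K).2 (funext fun k => ?_)
      exact (Subgroup.mem_inf.1 (Subgroup.mem_subgroupOf.1 hx)).2.2 (e k) _ rfl
  have hidx' : ¬ p ∣ T.index := by rw [hTeq]; exact hidx
  have hKT : K ≤ T := le_inertia K (IsCharacter.isClassFunction (IsIrrCharacter.isCharacter hν'i))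
  have h1 : cntIn p h (ν : L → ℂ) = cnt p K.subtype ν' :=
    (cnt_congr (MulEquiv.refl H) e (fun x => rfl) (fun x => rfl)).symm
  have h2 : cntIn p hT (ν : L → ℂ) = cnt p (Subgroup.inclusion hKT) ν' :=
    (cnt_congr ((MulEquiv.subgroupCongr hTeq).trans (Subgroup.subgroupOfEquivOfLe inf_le_left)) e
      (fun x => rfl) (fun x => rfl)).symm
  rw [h1, h2]
  have hdeg : ∀ ψ : T → ℂ, IsCharacter T ψ →
      charDegree (indFun T ψ) = T.index * charDegree ψ := by
    intro ψ hψ
    apply Nat.cast_injective (R := ℂ)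
    rw [← deg_spec (isCharacter_indFun T hψ), indFun_one_apply, deg_spec hψ, Nat.cast_mul]
  have hirr : ∀ (ψ : IrrCharacter T), Lies (Subgroup.inclusion hKT) (ψ : T → ℂ) ν' →
      IsIrrCharacter H (indFun T (ψ : T → ℂ)) ∧
        Lies K.subtype (indFun T (ψ : T → ℂ)) ν' := by
    intro ψ hl
    rw [lies_iff] at hl
    obtain ⟨h1, h2⟩ := clifford_correspondence (T := T) K (θ := ν') hν'i hTdef hKT (ψ := (ψ : T → ℂ))
      ψ.2 hl
    refine ⟨h1, ?_⟩
    rw [lies_iff]
    simp only [Subgroup.coe_subtype]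
    exact ne_of_eq_of_ne h2 hl
  let F : {ψ : IrrCharacter T // ¬ p ∣ charDegree (ψ : T → ℂ) ∧
        Lies (Subgroup.inclusion hKT) (ψ : T → ℂ) ν'} →
      {χ : IrrCharacter H // ¬ p ∣ charDegree (χ : H → ℂ) ∧ Lies K.subtype (χ : H → ℂ) ν'} :=
    fun ψ => ⟨⟨indFun T (ψ.1 : T → ℂ), (hirr ψ.1 ψ.2.2).1⟩,
      (by
        show ¬ p ∣ charDegree (indFun T (ψ.1 : T → ℂ))
        rw [hdeg _ (IsIrrCharacter.isCharacter ψ.1.2), hp.out.dvd_mul]
        exact not_or.2 ⟨hidx', ψ.2.1⟩),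
      (hirr ψ.1 ψ.2.2).2⟩
  have hL : ∀ ψ : T → ℂ, Lies (Subgroup.inclusion hKT) ψ ν' ↔
      classInner (fun k : K => ψ ⟨(k : H), hKT k.2⟩) ν' ≠ 0 := fun ψ => by
    rw [lies_iff]; exact Iff.rfl
  have hL' : ∀ χ : H → ℂ, Lies K.subtype χ ν' ↔ classInner (fun k : K => χ (k : H)) ν' ≠ 0 :=
    fun χ => by rw [lies_iff]; exact Iff.rfl
  refine (Nat.card_eq_of_bijective F ⟨?_, ?_⟩).symm
  · intro ψ ψ' heq
    have heq' : indFun T (ψ.1 : T → ℂ) = indFun T (ψ'.1 : T → ℂ) :=
      congrArg (fun x => (x.1 : H → ℂ)) heq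
    exact Subtype.ext (Subtype.ext (clifford_correspondence_injective K hν'i hTdef hKT ψ.1.2 ψ'.1.2
      ((hL _).1 ψ.2.2) ((hL _).1 ψ'.2.2) heq'))
  · rintro ⟨χ, hpd, hl⟩
    obtain ⟨ψ, hψ, hind, hm⟩ :=
      clifford_correspondence_surjective K hν'i hTdef hKT χ.2 ((hL' _).1 hl)
    refine ⟨⟨⟨ψ, hψ⟩, fun hd => hpd ?_, (hL _).2 (ne_of_eq_of_ne hm ((hL' _).1 hl))⟩,
      Subtype.ext (Subtype.ext hind)⟩
    rw [← hind, hdeg _ (IsIrrCharacter.isCharacter hψ)]
    exact Dvd.dvd.mul_left hd _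

/-- Nothing of degree prime to `p` lies over a character of degree divisible by `p`. -/
theorem cnt_eq_zero {L H : Subgroup W} (h : L ≤ H) (hn : H ≤ Subgroup.normalizer (L : Set W))
    (ν : IrrCharacter L) (hν : p ∣ charDegree (ν : L → ℂ)) : cntIn p h (ν : L → ℂ) = 0 := by
  classical
  haveI := Fintype.ofFinite H
  haveI : (L.subgroupOf H).Normal := (Subgroup.normal_subgroupOf_iff_le_normalizer h).2 hn
  haveI := Fintype.ofFinite (L.subgroupOf H)
  haveI := Fintype.ofFinite L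
  set K := L.subgroupOf H
  let e : K ≃* L := Subgroup.subgroupOfEquivOfLe h
  refine Nat.card_eq_zero.2 (Or.inl ⟨fun ⟨χ, hχ, hl⟩ => hχ ?_⟩)
  have hi : IsIrrCharacter K (fun x => (ν : L → ℂ) (e x)) :=
    IsIrrCharacter.comp ν.2 e.toMonoidHom e.surjective
  have hne : classInner (fun x : K => (χ : H → ℂ) x) (fun x => (ν : L → ℂ) (e x)) ≠ 0 := by
    have := RelGlauberman.classInner_comp_surj e.toMonoidHom e.surjective
      (fun l => (χ : H → ℂ) (Subgroup.inclusion h l)) (ν : L → ℂ)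
    exact ne_of_eq_of_ne this (lies_iff.1 hl)
  obtain ⟨m, hm⟩ := IsCharacter.exists_classInner_nat
    (IsCharacter.restrict (IsIrrCharacter.isCharacter χ.2) K) (IsIrrCharacter.isCharacter hi)
  have := clifford_degree K χ.2 hi hne
  rw [hm, irr_deg] at this
  simp only [map_one, irr_deg] at this
  rw [show charDegree (χ : H → ℂ) = m * (inertia K (fun x => (ν : L → ℂ) (e x))).index *
    charDegree (ν : L → ℂ) by exact_mod_cast this]
  exact Dvd.dvd.mul_left hν _

/-- The invariant characters of degree prime to `p` over `ν`. -/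
abbrev Theta (p : ℕ) {L M : Subgroup W} (hLM : L ≤ M) (S : Subgroup W) (ν : L → ℂ) : Type u :=
  {θ : IrrCharacter M // ¬ p ∣ charDegree (θ : M → ℂ) ∧ Lies (Subgroup.inclusion hLM) (θ : M → ℂ) ν ∧
    ∀ s ∈ S, InvBy M (θ : M → ℂ) s}

/-- `θ'` is the conjugate of `θ` by `g`. -/
def ConjBy {M : Subgroup W} (θ θ' : M → ℂ) (g : W) : Prop :=
  ∀ k k' : M, (k' : W) = g * k * g⁻¹ → θ' k = θ k'

/-- The length of an orbit. -/
noncomputable def orbCard {L M : Subgroup W} {hLM : L ≤ M} {S : Subgroup W} {ν : L → ℂ}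
    (D : Subgroup W) (θ : Theta p hLM S ν) : ℕ :=
  Nat.card {θ' : Theta p hLM S ν // ∃ g ∈ D, ConjBy (θ.1 : M → ℂ) (θ'.1 : M → ℂ) g}

set_option maxHeartbeats 1000000 in
/-- The count splits along the invariant characters of an intermediate normal subgroup. -/
theorem cnt_partition [hp : Fact p.Prime] {L M Y : Subgroup W} (hLM : L ≤ M) (hMY : M ≤ Y)
    (hYL : Y ≤ Subgroup.normalizer (L : Set W)) (hYM : Y ≤ Subgroup.normalizer (M : Set W))
    (S : Subgroup W) (hSY : S ≤ Y) (hS : IsPGroup p S) (hSi : ¬ p ∣ S.relIndex Y)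
    (ν : IrrCharacter L) (hν : ∀ y ∈ Y, InvBy L (ν : L → ℂ) y) :
    (cntIn p (hLM.trans hMY) (ν : L → ℂ) : ℚ) = ∑ᶠ θ : Theta p hLM S (ν : L → ℂ),
      (cntIn p hMY (θ.1 : M → ℂ) : ℚ) /
        orbCard (Y ⊓ Subgroup.normalizer ((M ⊔ S : Subgroup W) : Set W)) θ := by
  classical
  haveI := Fintype.ofFinite Y
  haveI : (M.subgroupOf Y).Normal := (Subgroup.normal_subgroupOf_iff_le_normalizer hMY).2 hYM
  haveI := Fintype.ofFinite (M.subgroupOf Y)
  haveI := Fintype.ofFinite M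
  haveI := Fintype.ofFinite L
  set K := M.subgroupOf Y with hK
  let e : K ≃* M := Subgroup.subgroupOfEquivOfLe hMY
  set D := Y ⊓ Subgroup.normalizer ((M ⊔ S : Subgroup W) : Set W) with hD
  haveI : Fintype (Theta p hLM S (ν : L → ℂ)) := Fintype.ofFinite _
  let A := {χ : IrrCharacter Y // ¬ p ∣ charDegree (χ : Y → ℂ) ∧
    Lies (Subgroup.inclusion (hLM.trans hMY)) (χ : Y → ℂ) (ν : L → ℂ)}
  haveI : Fintype A := Fintype.ofFinite _
  have hcomp : (Subgroup.inclusion hMY).comp (Subgroup.inclusion hLM) =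
      Subgroup.inclusion (hLM.trans hMY) := rfl
  have hcnt : ∀ θ : Theta p hLM S (ν : L → ℂ), cntIn p hMY (θ.1 : M → ℂ) =
      (Finset.univ.filter fun χ : A =>
        Lies (Subgroup.inclusion hMY) (χ.1 : Y → ℂ) (θ.1 : M → ℂ)).card := by
    intro θ
    rw [← Fintype.card_subtype, ← Nat.card_eq_fintype_card]
    exact Nat.card_congr
      { toFun := fun x => ⟨⟨x.1, x.2.1, hcomp ▸ lies_trans (IsIrrCharacter.isCharacter x.1.2)
          (IsIrrCharacter.isCharacter ν.2) x.2.2 θ.2.2.1⟩, x.2.2⟩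
        invFun := fun x => ⟨x.1.1, x.1.2.1, x.2⟩
        left_inv := fun x => rfl
        right_inv := fun x => rfl }
  -- characters of `K` and of `M`
  let up : IrrCharacter M → IrrCharacter K := fun θ =>
    ⟨fun x => (θ : M → ℂ) (e x), IsIrrCharacter.comp θ.2 e.toMonoidHom e.surjective⟩
  let down : IrrCharacter K → IrrCharacter M := fun θ =>
    ⟨fun x => (θ : K → ℂ) (e.symm x), IsIrrCharacter.comp θ.2 e.symm.toMonoidHom e.symm.surjective⟩
  have hup : ∀ θ, up (down θ) = θ := fun θ =>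
    Subtype.ext (funext fun x => congrArg (θ : K → ℂ) (e.symm_apply_apply x))
  have hover : ∀ (χ : IrrCharacter Y) (θ : IrrCharacter M),
      Lies (Subgroup.inclusion hMY) (χ : Y → ℂ) (θ : M → ℂ) ↔
        classInner (fun x : K => (χ : Y → ℂ) x) (up θ : K → ℂ) ≠ 0 := by
    intro χ θ
    rw [lies_iff, ← RelGlauberman.classInner_comp_surj e.toMonoidHom e.surjective]
    exact Iff.rfl
  have hcj : ∀ (g : Y) (θ θ' : IrrCharacter M), cjIrr K g (up θ) = up θ' ↔
      ConjBy (θ : M → ℂ) (θ' : M → ℂ) (g : W) := by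
    intro g θ θ'
    refine ⟨fun h k k' hk => ?_, fun h => Subtype.ext (funext fun x => ?_)⟩
    · have := congrFun (congrArg Subtype.val h) (e.symm k)
      simp only [cjIrr_apply, conjChar, up, MulEquiv.apply_symm_apply] at this
      rw [← this]
      refine congrArg (θ : M → ℂ) (Subtype.ext ?_)
      rw [hk]; rfl
    · exact (h (e x) _ rfl).symm
  let P : Sylow p Y := (hS.comap_of_injective Y.subtype Subtype.val_injective).toSylow (show
    ¬ p ∣ (S.subgroupOf Y).index from hSi)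
  have hPmem : ∀ x : Y, x ∈ (P : Subgroup Y) ↔ (x : W) ∈ S := fun x => Iff.rfl
  have hfix : ∀ θ : IrrCharacter M, (∀ x ∈ (P : Subgroup Y), cjIrr K x (up θ) = up θ) ↔
      ∀ s ∈ S, InvBy M (θ : M → ℂ) s := by
    intro θ
    refine ⟨fun h s hs k k' hk => ((hcj ⟨s, hSY hs⟩ θ θ).1 (h _ hs) k k' hk).symm,
      fun h x hx => (hcj x θ θ).2 fun k k' hk => (h x hx k k' hk).symm⟩
  -- the characters below a given one form one orbit
  have hone : ∀ χ : A, ∑ θ ∈ (Finset.univ.filter fun θ : Theta p hLM S (ν : L → ℂ) =>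
      Lies (Subgroup.inclusion hMY) (χ.1 : Y → ℂ) (θ.1 : M → ℂ)), ((orbCard D θ : ℚ))⁻¹ = 1 := by
    rintro ⟨χ, hpd, hl⟩
    set F := Finset.univ.filter fun θ : Theta p hLM S (ν : L → ℂ) =>
      Lies (Subgroup.inclusion hMY) (χ : Y → ℂ) (θ.1 : M → ℂ) with hF
    have horb : ∀ θ ∈ F, orbCard D θ = F.card := by
      intro θ hθ
      rw [hF, Finset.mem_filter] at hθ
      rw [orbCard, Nat.card_eq_fintype_card, Fintype.card_subtype]
      congr 1
      ext θ'
      simp only [hF, Finset.mem_filter, Finset.mem_univ, true_and]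
      refine ⟨fun ⟨g, hg, hc⟩ => (hover χ θ'.1).2 ?_, fun hθ' => ?_⟩
      · rw [← (hcj ⟨g, hg.1⟩ θ.1 θ'.1).2 hc]
        exact RealOrbit.over_cjIrr K χ _ _ ((hover χ θ.1).1 hθ.2)
      · obtain ⟨g, hg⟩ := restrict_constituent_conj K χ.2 (up θ.1).2 (up θ'.1).2
          ((hover χ θ.1).1 hθ.2) ((hover χ θ'.1).1 hθ') |> (mem_conjOrbit K).1
        have hg' : cjIrr K g (up θ.1) = up θ'.1 := Subtype.ext hg.symm
        obtain ⟨n, hn, hnθ⟩ := RealOrbit.exists_normalizer_conj K P (up θ.1) g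
          ((hfix θ.1).2 θ.2.2.2) (by rw [hg']; exact (hfix θ'.1).2 θ'.2.2.2)
        refine ⟨n, ⟨n.2, Subgroup.normalizer_inf_normalizer_le_normalizer_sup M S
          ⟨hYM n.2, mem_normalizer_of_conj_mem fun s hs => ?_⟩⟩, (hcj n θ.1 θ'.1).1 (hnθ.trans hg')⟩
        exact (hPmem _).1 ((Subgroup.mem_normalizer_iff.1 hn ⟨s, hSY hs⟩).1 hs)
    have hne : F.Nonempty := by
      rw [← hcomp] at hl
      obtain ⟨η, hη1, hη2⟩ :=
        lies_split (IsIrrCharacter.isCharacter χ.2) (IsIrrCharacter.isCharacter ν.2) hl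
      have h1 := (hover χ η).1 hη1
      obtain ⟨m, hm⟩ := IsCharacter.exists_classInner_nat
        (IsCharacter.restrict (IsIrrCharacter.isCharacter χ.2) K) (IsIrrCharacter.isCharacter (up η).2)
      have hd := clifford_degree K χ.2 (up η).2 h1
      rw [hm, irr_deg, show (up η : K → ℂ) 1 = (charDegree (η : M → ℂ) : ℂ) by
        simp [up, irr_deg]] at hd
      have hd' : charDegree (χ : Y → ℂ) =
          m * (inertia K (up η : K → ℂ)).index * charDegree (η : M → ℂ) := by exact_mod_cast hd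
      rw [hd'] at hpd
      obtain ⟨g, hg⟩ := RealOrbit.exists_conj_inv K P (up η)
        fun h => hpd (Dvd.dvd.mul_right (Dvd.dvd.mul_left h _) _)
      set θ₀ := down (cjIrr K g (up η)) with hθ₀
      have hup₀ : up θ₀ = cjIrr K g (up η) := hup _
      have hcb : ConjBy (η : M → ℂ) (θ₀ : M → ℂ) (g : W) := (hcj g η θ₀).1 hup₀.symm
      have hdeg : charDegree (θ₀ : M → ℂ) = charDegree (η : M → ℂ) := by
        simp only [charDegree]
        rw [hcb 1 1 (by simp)]
      have hlies : Lies (Subgroup.inclusion hLM) (θ₀ : M → ℂ) (ν : L → ℂ) := by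
        rw [lies_iff] at hη2 ⊢
        have hgL := hYL g.2
        refine ne_of_eq_of_ne (Eq.trans ?_ (RelGlauberman.classInner_comp_surj (cj hgL)
          (cj_surjective hgL) (fun l => (η : M → ℂ) (Subgroup.inclusion hLM l)) (ν : L → ℂ))) hη2
        exact congrArg₂ classInner (funext fun l => hcb (Subgroup.inclusion hLM l) _ rfl)
          (funext fun l => (hν g g.2 l _ rfl).symm)
      refine ⟨⟨θ₀, hdeg ▸ fun h => hpd (Dvd.dvd.mul_left h _), hlies,
        (hfix θ₀).1 fun x hx => by rw [hup₀]; exact hg x hx⟩,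
        Finset.mem_filter.2 ⟨Finset.mem_univ _, (hover χ θ₀).2 ?_⟩⟩
      rw [hup₀]
      exact RealOrbit.over_cjIrr K χ _ _ h1
    rw [Finset.sum_congr rfl fun θ hθ => by rw [horb θ hθ], Finset.sum_const, nsmul_eq_mul,
      mul_inv_cancel₀ (Nat.cast_ne_zero.2 (Finset.card_pos.2 hne).ne')]
  rw [finsum_eq_sum_of_fintype, show cntIn p (hLM.trans hMY) (ν : L → ℂ) = Fintype.card A from
    Nat.card_eq_fintype_card]
  calc ((Fintype.card A : ℕ) : ℚ)
      = ∑ χ : A, ∑ θ ∈ (Finset.univ.filter fun θ : Theta p hLM S (ν : L → ℂ) =>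
          Lies (Subgroup.inclusion hMY) (χ.1 : Y → ℂ) (θ.1 : M → ℂ)), ((orbCard D θ : ℚ))⁻¹ := by
        simp [hone]
    _ = _ := by
      simp only [Finset.sum_filter]
      rw [Finset.sum_comm]
      refine Finset.sum_congr rfl fun θ _ => ?_
      rw [← Finset.sum_filter, Finset.sum_const, nsmul_eq_mul, hcnt θ, div_eq_mul_inv]

end Cfsg.Agent.RelMcKay
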