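import Cfsg.Agent.Lib.RelMcKay.Bijection

/-!
# The central case with a normal `p`-nilpotent subgroup containing a Sylow subgroup
-/

set_option autoImplicit false
set_option linter.style.haveILetI false
set_option linter.unusedSectionVars false

namespace Cfsg.Agent.RelMcKay

open Cfsg Cfsg.Agent Cfsg.Agent.Char Cfsg.Agent.CharExtend
open scoped ComplexConjugate

universe u

variable {W : Type u} [Group W] [Finite W]

theorem pair_mem_left {K : Subgroup W} {θ : K → ℂ} (hθ : IsIrrCharacter K θ) {k y : W} (hk : k ∈ K)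
    (hy : y ∈ Subgroup.normalizer (K : Set W)) (hyi : InvBy K θ y) : Pair K θ k y 1 := by
  obtain ⟨d, σ, hσ, rfl⟩ := hθ
  haveI := hσ
  obtain ⟨B, hB⟩ := exists_inter σ hy hyi
  set k' : K := cj hy (⟨k, hk⟩ : K)⁻¹ with hk'
  have hc : k * y * k⁻¹ * y⁻¹ ∈ K := by
    have := mul_mem hk k'.2
    simpa [hk', cj, mul_assoc] using this
  refine ⟨d, σ, hσ, rfl, σ.toHomUnits ⟨k, hk⟩, B, inter_mem σ ⟨k, hk⟩, hB, hc, ?_⟩
  rw [map_one, one_mul, show (⟨_, hc⟩ : K) = ⟨k, hk⟩ * k' from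
    Subtype.ext (by simp [hk', cj, mul_assoc]), map_mul, ← map_inv, mul_assoc, mul_assoc,
    ← mul_assoc B, hB _ k' rfl, mul_inv_cancel_right]

theorem pair_restrict {K U : Subgroup W} (hKU : K ≤ U) {θ : K → ℂ} {η : U → ℂ}
    (hη : IsIrrCharacter U η) (hθ : IsIrrCharacter K θ)
    (hres : ∀ k : K, η ⟨k, hKU k.2⟩ = θ k) {x y : W}
    (hxK : x ∈ Subgroup.normalizer (K : Set W)) (hyK : y ∈ Subgroup.normalizer (K : Set W))
    (hxU : x ∈ Subgroup.normalizer (U : Set W)) (hyU : y ∈ Subgroup.normalizer (U : Set W))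
    (hxi : InvBy U η x) (hyi : InvBy U η y)
    (hc : x * y * x⁻¹ * y⁻¹ ∈ K) {a : ℂˣ} (hp : Pair U η x y a) : Pair K θ x y a := by
  obtain ⟨d, σ, hσ, rfl⟩ := hη
  haveI := hσ
  haveI := Fintype.ofFinite K
  obtain ⟨A, hA⟩ := exists_inter σ hxU hxi
  obtain ⟨B, hB⟩ := exists_inter σ hyU hyi
  obtain ⟨hc', heq⟩ := pair_spec σ rfl hp hxU hyU hA hB
  let σ' : Representation ℂ K (Fin d → ℂ) := σ.comp (Subgroup.inclusion hKU)
  have hch : σ'.character = θ := funext hres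
  have hirr : σ'.IsIrreducible :=
    isIrreducible_of_norm_one σ' (by rw [hch]; exact classInner_self_irr hθ)
  exact ⟨d, σ', hirr, hch, A, B, fun k k' hk => hA (Subgroup.inclusion hKU k)
    (Subgroup.inclusion hKU k') hk, fun k k' hk => hB (Subgroup.inclusion hKU k)
    (Subgroup.inclusion hKU k') hk, hc, heq⟩

variable {p : ℕ} [hp : Fact p.Prime]

/-- Both correspondents have the same pairing. -/
theorem endgame_pair {K S C : Subgroup W} [Fintype C] (hK : ¬ p ∣ Nat.card K) (hS : IsPGroup p S)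
    (hSK : S ≤ Subgroup.normalizer (K : Set W)) (hC : C = K ⊓ Subgroup.centralizer (S : Set W))
    (hCK : C ≤ K) (θ : IrrCharacter (K ⊔ S : Subgroup W)) (φ : IrrCharacter (C ⊔ S : Subgroup W))
    (hθ : ¬ p ∣ charDegree (θ : (K ⊔ S : Subgroup W) → ℂ))
    (hrel : Rel p hCK (θ : (K ⊔ S : Subgroup W) → ℂ) (φ : (C ⊔ S : Subgroup W) → ℂ))
    (T : Subgroup W) (hVT : C ⊔ S ≤ T) (hTK : T ≤ Subgroup.normalizer (K : Set W))
    (hTS : T ≤ Subgroup.normalizer (S : Set W)) (hTi : ¬ p ∣ S.relIndex T)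
    (hθi : ∀ t ∈ T, InvBy (K ⊔ S) (θ : (K ⊔ S : Subgroup W) → ℂ) t)
    (hφi : ∀ t ∈ T, InvBy (C ⊔ S) (φ : (C ⊔ S : Subgroup W) → ℂ) t)
    {x y : W} (hx : x ∈ T) (hy : y ∈ T) (hxy : x * y * x⁻¹ * y⁻¹ ∈ C ⊔ S) :
    pairVal (K ⊔ S) (θ : (K ⊔ S : Subgroup W) → ℂ) x y =
      pairVal (C ⊔ S) (φ : (C ⊔ S : Subgroup W) → ℂ) x y := by
  classical
  obtain ⟨θ₀, φ₀, hθ₀, hφ₀, hov, -⟩ := hrel
  have hθ₀S : ∀ s ∈ S, InvBy K (θ₀ : K → ℂ) s := by
    obtain ⟨θ₁, hinv, h1⟩ := split_restrict hK hS hSK θ hθ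
    obtain rfl : θ₁ = θ₀ := Subtype.ext (funext fun k => (h1 k).symm.trans (hθ₀ k))
    exact hinv
  have hVU : C ⊔ S ≤ K ⊔ S := sup_le_sup_right hCK S
  have hnC : ∀ t ∈ T, t ∈ Subgroup.normalizer (C : Set W) := fun t ht =>
    hC ▸ mem_normalizer_inf (hTK ht) (mem_normalizer_centralizer (hTS ht))
  have hnU : ∀ t ∈ T, t ∈ Subgroup.normalizer ((K ⊔ S : Subgroup W) : Set W) := fun t ht =>
    Subgroup.normalizer_inf_normalizer_le_normalizer_sup K S ⟨hTK ht, hTS ht⟩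
  have hnV : ∀ t ∈ T, t ∈ Subgroup.normalizer ((C ⊔ S : Subgroup W) : Set W) := fun t ht =>
    Subgroup.normalizer_inf_normalizer_le_normalizer_sup C S ⟨hnC t ht, hTS ht⟩
  -- a group containing `x` and `y` which is abelian modulo `C S`
  set V' := (C ⊔ S).subgroupOf T with hV'
  haveI : V'.Normal := (Subgroup.normal_subgroupOf_iff_le_normalizer hVT).2 hnV
  set D := Subgroup.closure ({(QuotientGroup.mk ⟨x, hx⟩ : T ⧸ V'), QuotientGroup.mk ⟨y, hy⟩} :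
    Set (T ⧸ V')) with hD
  have hcomm : Commute (QuotientGroup.mk ⟨x, hx⟩ : T ⧸ V') (QuotientGroup.mk ⟨y, hy⟩) := by
    show (QuotientGroup.mk (⟨x, hx⟩ * ⟨y, hy⟩) : T ⧸ V') = QuotientGroup.mk (⟨y, hy⟩ * ⟨x, hx⟩)
    rw [QuotientGroup.eq_iff_div_mem, Subgroup.mem_subgroupOf]
    simpa [div_eq_mul_inv, mul_assoc] using hxy
  have hDc : ∀ a ∈ D, ∀ b ∈ D, a * b = b * a := by
    haveI : IsMulCommutative D := Subgroup.isMulCommutative_closure (by
      rintro a (rfl | rfl) b (rfl | rfl)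
      exacts [rfl, hcomm.eq, hcomm.eq.symm, rfl])
    exact fun a ha b hb => congrArg Subtype.val (mul_comm' (⟨a, ha⟩ : D) ⟨b, hb⟩)
  set X := (D.comap (QuotientGroup.mk' V')).map T.subtype with hX
  have hXT : X ≤ T := Subgroup.map_subtype_le _
  have hxX : x ∈ X := ⟨⟨x, hx⟩, Subgroup.subset_closure (Or.inl rfl), rfl⟩
  have hyX : y ∈ X := ⟨⟨y, hy⟩, Subgroup.subset_closure (Or.inr rfl), rfl⟩
  have hVX : C ⊔ S ≤ X := fun v hv => ⟨⟨v, hVT hv⟩, by
    show (QuotientGroup.mk ⟨v, hVT hv⟩ : T ⧸ V') ∈ D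
    rw [(QuotientGroup.eq_one_iff (⟨v, hVT hv⟩ : T)).2 (Subgroup.mem_subgroupOf.2 hv)]
    exact one_mem D, rfl⟩
  have hXc : ∀ a ∈ X, ∀ b ∈ X, a * b * a⁻¹ * b⁻¹ ∈ C ⊔ S := by
    rintro _ ⟨a, ha, rfl⟩ _ ⟨b, hb, rfl⟩
    have h := hDc _ ha _ hb
    rw [QuotientGroup.mk'_apply, QuotientGroup.mk'_apply, ← QuotientGroup.mk_mul,
      ← QuotientGroup.mk_mul, QuotientGroup.eq_iff_div_mem, Subgroup.mem_subgroupOf] at h
    simpa [div_eq_mul_inv, mul_assoc] using h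
  have hSX : S ≤ X := le_sup_right.trans hVX
  haveI : (S.subgroupOf X).Normal :=
    (Subgroup.normal_subgroupOf_iff_le_normalizer hSX).2 (hXT.trans hTS)
  have hidxX : ¬ p ∣ (S.subgroupOf X).index := fun h => hTi
    (h.trans (Subgroup.relIndex_mul_relIndex S X T hSX hXT ▸ Dvd.intro _ rfl))
  obtain ⟨m, hm⟩ := IsPGroup.iff_card.1 hS
  have hcardS : Nat.card (S.subgroupOf X) = p ^ m :=
    (Nat.card_congr (Subgroup.subgroupOfEquivOfLe hSX).toEquiv).trans hm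
  obtain ⟨A', hA'⟩ := Subgroup.exists_right_complement'_of_coprime (N := S.subgroupOf X) (by
    rw [hcardS]; exact (hp.out.coprime_iff_not_dvd.2 hidxX).pow_left m)
  set A := A'.map X.subtype with hAdef
  have hAX : A ≤ X := Subgroup.map_subtype_le _
  have hAp : ¬ p ∣ Nat.card A := by
    rw [hAdef, Subgroup.card_map_of_injective Subtype.val_injective, ← hA'.symm.index_eq_card]
    exact hidxX
  have hAC : ∀ a ∈ A, ∀ b ∈ A, a * b * a⁻¹ * b⁻¹ ∈ C := by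
    intro a ha b hb
    have hv := hXc a (hAX ha) b (hAX hb)
    have hvA : a * b * a⁻¹ * b⁻¹ ∈ A := mul_mem (mul_mem (mul_mem ha hb) (inv_mem ha)) (inv_mem hb)
    obtain ⟨r, hr1, -⟩ := exists_proj (cent_norm hK hS hC) (disjoint_pp' (cent_card hK hS hC) hS)
    set v : (C ⊔ S : Subgroup W) := ⟨_, hv⟩ with hvdef
    set c := (v : W) * (r v : W)⁻¹ with hcdef
    have hcr : Commute c (r v : W) := Subgroup.mem_centralizer_iff.1
      (cent_le hK hS hC (r v).2) c (hr1 v)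
    have h1 : ((v : W) ^ Nat.card C) ^ Nat.card A = 1 := by
      rw [← pow_mul, mul_comm, pow_mul, show (v : W) ^ Nat.card A = 1 from pow_card_of_mem hvA, one_pow]
    have h2 : (v : W) ^ Nat.card C = (r v : W) ^ Nat.card C := by
      conv_lhs => rw [show (v : W) = c * (r v : W) by rw [hcdef, inv_mul_cancel_right]]
      rw [hcr.mul_pow, show c ^ Nat.card C = 1 from pow_card_of_mem (hr1 v), one_mul]
    rw [h2, ← pow_mul] at h1
    have h3 : (r v : W) = 1 := eq_one_of_pow_coprime h1 (pow_card_of_mem (r v).2)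
      (coprime_pgroup hS fun hd => (hp.out.dvd_mul.1 hd).elim (cent_card hK hS hC) hAp)
    have h4 := hr1 v
    rw [h3, inv_one, mul_one] at h4
    exact h4
  have hdec : ∀ z ∈ X, ∃ s ∈ S, ∃ a ∈ A, z = s * a := fun z hz => by
    obtain ⟨⟨s, a⟩, h⟩ := hA'.2 (⟨z, hz⟩ : X)
    exact ⟨_, s.2, _, ⟨a, a.2, rfl⟩, (congrArg Subtype.val h).symm⟩
  obtain ⟨s₁, hs₁, x₁, hx₁, rfl⟩ := hdec x hxX
  obtain ⟨s₂, hs₂, y₁, hy₁, rfl⟩ := hdec y hyX
  have hAT : A ≤ T := hAX.trans hXT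
  have hST : S ≤ T := le_sup_right.trans hVT
  have hθ₀A : ∀ a ∈ A, InvBy K (θ₀ : K → ℂ) a := fun a ha k k' hk => by
    rw [← hθ₀, ← hθ₀]
    exact hθi a (hAT ha) ⟨k, le_sup_left (α := Subgroup W) k.2⟩
      ⟨k', le_sup_left (α := Subgroup W) k'.2⟩ hk
  -- moving to the complement
  have hmove : ∀ (U : Subgroup W) (η : U → ℂ), IsIrrCharacter U η → S ≤ U → C ≤ U →
      (∀ t ∈ T, t ∈ Subgroup.normalizer (U : Set W)) → (∀ t ∈ T, InvBy U η t) →
      pairVal U η (s₁ * x₁) (s₂ * y₁) = pairVal U η x₁ y₁ ∧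
        ∃ a : ℂˣ, Pair U η x₁ y₁ a ∧ pairVal U η x₁ y₁ = a := by
    intro U η hη hSU hCU hnT hiT
    have hx₁T := hAT hx₁
    have hy₁T := hAT hy₁
    obtain ⟨a, ha⟩ := pair_exists hη (hnT _ hx₁T) (hnT _ hy₁T) (hiT _ hx₁T) (hiT _ hy₁T)
      (hCU (hAC _ hx₁ _ hy₁))
    have h1 : Pair U η (s₂ * y₁) x₁ (1 * a⁻¹) := pair_mul_left hη (hnT _ (hST hs₂)) (hnT _ hy₁T)
      (hnT _ hx₁T) (pair_mem_left hη (hSU hs₂) (hnT _ hx₁T) (hiT _ hx₁T)) (pair_swap ha)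
    have h2 := pair_swap h1
    rw [one_mul, inv_inv] at h2
    have hyT := mul_mem (hST hs₂) hy₁T
    have h3 : Pair U η (s₁ * x₁) (s₂ * y₁) (1 * a) := pair_mul_left hη (hnT _ (hST hs₁))
      (hnT _ hx₁T) (hnT _ hyT) (pair_mem_left hη (hSU hs₁) (hnT _ hyT) (hiT _ hyT)) h2
    rw [one_mul] at h3
    exact ⟨(pairVal_eq hη (hnT _ (mul_mem (hST hs₁) hx₁T)) (hnT _ hyT) h3).trans
      (pairVal_eq hη (hnT _ hx₁T) (hnT _ hy₁T) ha).symm,
      a, ha, pairVal_eq hη (hnT _ hx₁T) (hnT _ hy₁T) ha⟩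
  obtain ⟨e1, a, ha, hva⟩ := hmove _ _ θ.2 le_sup_right (hCK.trans le_sup_left) hnU hθi
  obtain ⟨e2, b, hb, hvb⟩ := hmove _ _ φ.2 le_sup_right le_sup_left hnV hφi
  rw [e1, e2, hva, hvb]
  have hx₁T := hAT hx₁
  have hy₁T := hAT hy₁
  have hc₁ := hAC _ hx₁ _ hy₁
  have h1 := pair_restrict le_sup_left θ.2 θ₀.2 hθ₀ (hTK hx₁T) (hTK hy₁T) (hnU _ hx₁T)
    (hnU _ hy₁T) (hθi _ hx₁T) (hθi _ hy₁T) (hCK hc₁) ha
  have h2 := pairing_transfer S A K C hS hAp hK (hAT.trans hTS) hSK (hAT.trans hTK) hC hCK hAC θ₀ φ₀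
    hθ₀S hθ₀A hov hx₁ hy₁ h1
  have h3 := pair_restrict le_sup_left φ.2 φ₀.2 hφ₀ (hnC _ hx₁T) (hnC _ hy₁T) (hnV _ hx₁T)
    (hnV _ hy₁T) (hφi _ hx₁T) (hφi _ hy₁T) hc₁ hb
  exact congrArg Units.val (pair_unique φ₀.2 (hnC _ hx₁T) (hnC _ hy₁T) h2 h3)

theorem conjBy_iff {M : Subgroup W} (θ θ' : IrrCharacter M) {g : W}
    (hg : g ∈ Subgroup.normalizer (M : Set W)) :
    ConjBy (θ : M → ℂ) (θ' : M → ℂ) g ↔ θ' = cjOf hg θ :=
  ⟨fun h => Subtype.ext (funext fun k => h k _ rfl), fun h k k' hk => by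
    rw [h, cjOf_apply, show k' = cj hg k from Subtype.ext hk]⟩

set_option maxHeartbeats 1000000 in
/-- The central case when a normal subgroup `K S` contains the central subgroup. -/
theorem endgame {Z H K S : Subgroup W} (hZH : Z ≤ H)
    (hZc : Z ≤ Subgroup.centralizer (H : Set W)) (hKH : K ≤ H)
    (hHK : H ≤ Subgroup.normalizer (K : Set W)) (hK : ¬ p ∣ Nat.card K) (hSH : S ≤ H)
    (hS : IsPGroup p S) (hSi : ¬ p ∣ S.relIndex H)
    (hHU : H ≤ Subgroup.normalizer ((K ⊔ S : Subgroup W) : Set W)) (hZU : Z ≤ K ⊔ S)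
    (ν : IrrCharacter Z) (hν : (ν : Z → ℂ) 1 = 1) :
    cntIn p hZH (ν : Z → ℂ) =
      cntIn p (le_inf hZH (le_sup_left.trans Subgroup.le_normalizer) :
        Z ≤ H ⊓ Subgroup.normalizer ((Z ⊔ S : Subgroup W) : Set W)) (ν : Z → ℂ) := by
  classical
  obtain ⟨νh, hνh⟩ := exists_hom_of_degree_one (IsIrrCharacter.isCharacter ν.2) hν
  set C := K ⊓ Subgroup.centralizer (S : Set W) with hC
  haveI : Fintype C := Fintype.ofFinite _
  have hCK : C ≤ K := inf_le_left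
  have hSK : S ≤ Subgroup.normalizer (K : Set W) := hSH.trans hHK
  set U := K ⊔ S with hU
  set V := C ⊔ S with hV
  have hVU : V ≤ U := sup_le_sup_right hCK S
  have hUH : U ≤ H := sup_le hKH hSH
  set N := H ⊓ Subgroup.normalizer (S : Set W) with hNdef
  have hNH : N ≤ H := inf_le_left
  have hnNC : ∀ n ∈ N, n ∈ Subgroup.normalizer (C : Set W) := fun n hn =>
    mem_normalizer_inf (hHK hn.1) (mem_normalizer_centralizer hn.2)
  have hnNV : ∀ n ∈ N, n ∈ Subgroup.normalizer (V : Set W) := fun n hn =>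
    Subgroup.normalizer_inf_normalizer_le_normalizer_sup C S ⟨hnNC n hn, hn.2⟩
  have hVN : V ≤ N := sup_le (fun c hc => ⟨hKH hc.1, mem_normalizer_of_conj_mem fun s hs => by
    rw [← Subgroup.mem_centralizer_iff.1 hc.2 s hs, mul_inv_cancel_right]; exact hs⟩)
    (fun s hs => ⟨hSH hs, Subgroup.le_normalizer hs⟩)
  have hUN : ∀ u ∈ U, u ∈ Subgroup.normalizer (S : Set W) → u ∈ V := by
    intro u hu hun
    rw [← SetLike.mem_coe, hU, Subgroup.coe_mul_of_right_le_normalizer_left _ _ hSK] at hu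
    obtain ⟨k, hk, s, hs, rfl⟩ := hu
    refine mul_mem (Subgroup.mem_sup_left ⟨hk, Subgroup.mem_centralizer_iff.2 fun t ht => ?_⟩)
      (Subgroup.mem_sup_right hs)
    have hkn : k ∈ Subgroup.normalizer (S : Set W) := by
      simpa using mul_mem hun (inv_mem (Subgroup.le_normalizer hs : s ∈ Subgroup.normalizer (S : Set W)))
    have h1 : k * t * k⁻¹ * t⁻¹ ∈ S := mul_mem (conj_mem hkn ht) (inv_mem ht)
    have h2 : k * t * k⁻¹ * t⁻¹ ∈ K := by
      rw [mul_assoc, mul_assoc, ← mul_assoc t]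
      exact mul_mem hk (conj_mem (hSK ht) (inv_mem hk))
    exact (mul_inv_eq_iff_eq_mul.1 (mul_inv_eq_one.1 (disjoint_pp' hK hS _ h2 h1))).symm
  have hZV : Z ≤ V := fun z hz => hUN z (hZU hz) (mem_normalizer_of_conj_mem fun s hs => by
    rw [← Subgroup.mem_centralizer_iff.1 (hZc hz) s (hSH hs), mul_inv_cancel_right]; exact hs)
  have hN_eq : H ⊓ Subgroup.normalizer ((Z ⊔ S : Subgroup W) : Set W) = N := by
    refine le_antisymm ?_ ?_ <;> intro n hn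
    · refine ⟨hn.1, mem_normalizer_of_conj_mem fun s hs => ?_⟩
      have hw := conj_mem hn.2 (Subgroup.mem_sup_right hs)
      have hwV : n * s * n⁻¹ ∈ V := sup_le hZV le_sup_right hw
      set w := n * s * n⁻¹ with hwdef
      have h1 : w ^ Nat.card C ∈ S :=
        (pow_card_mem (cent_card hK hS hC) hS (cent_le hK hS hC) ⟨w, hwV⟩).2
      have h2 : w ^ Nat.card S = 1 := by
        rw [hwdef, conj_pow, pow_card_of_mem hs, mul_one, mul_inv_cancel]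
      obtain ⟨j, hj⟩ := exists_pow_eq_self_of_coprime (x := w)
        ((coprime_pgroup hS (cent_card hK hS hC)).coprime_dvd_right (orderOf_dvd_of_pow_eq_one h2))
      exact hj ▸ pow_mem h1 j
    · exact ⟨hn.1, Subgroup.normalizer_inf_normalizer_le_normalizer_sup Z S
        ⟨mem_normalizer_of_conj_mem fun z hz => by
          rw [Subgroup.mem_centralizer_iff.1 (hZc hz) n hn.1, mul_inv_cancel_right]; exact hz, hn.2⟩⟩
  have hfrat : ∀ h ∈ H, ∃ u ∈ U, ∃ n ∈ N, h = u * n := by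
    intro h hh
    haveI : (U.subgroupOf H).Normal := (Subgroup.normal_subgroupOf_iff_le_normalizer hUH).2 hHU
    let P : Sylow p H := (hS.comap_of_injective H.subtype Subtype.val_injective).toSylow
      (show ¬ p ∣ (S.subgroupOf H).index from hSi)
    have hP : (P : Subgroup H) ≤ U.subgroupOf H := fun x hx => Subgroup.mem_sup_right hx
    have hmem : (⟨h, hh⟩ : H) ∈ U.subgroupOf H ⊔ Subgroup.normalizer ((P : Subgroup H) : Set H) := by
      have e : Subgroup.normalizer ((P : Subgroup H) : Set H) ⊔ U.subgroupOf H = ⊤ :=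
        Sylow.normalizer_sup_eq_top' P hP
      rw [sup_comm, e]; exact Subgroup.mem_top _
    rw [← SetLike.mem_coe, Subgroup.normal_mul] at hmem
    obtain ⟨u, hu, n, hn, hun⟩ := hmem
    refine ⟨(u : W), hu, n, ⟨n.2, mem_normalizer_of_conj_mem fun s hs => ?_⟩,
      (congrArg Subtype.val hun).symm⟩
    exact (Subgroup.mem_normalizer_iff.1 hn ⟨s, hSH hs⟩).1 hs
  have hνinv : ∀ y ∈ H, InvBy Z (ν : Z → ℂ) y := fun y hy k k' e => by
    rw [show k' = k from Subtype.ext (by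
      rw [e, Subgroup.mem_centralizer_iff.1 (hZc k.2) y hy, mul_inv_cancel_right])]
  have hHZ : H ≤ Subgroup.normalizer (Z : Set W) := fun y hy => mem_normalizer_of_conj_mem fun z hz => by
    rw [Subgroup.mem_centralizer_iff.1 (hZc hz) y hy, mul_inv_cancel_right]; exact hz
  have hp1 := cnt_partition hZU hUH hHZ hHU S hSH hS hSi ν hνinv
  have hSN : S ≤ N := le_sup_right.trans hVN
  have hSiN : ¬ p ∣ S.relIndex N := fun h => hSi
    (h.trans (Subgroup.relIndex_mul_relIndex S N H hSN hNH ▸ Dvd.intro _ rfl))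
  have hp2 := cnt_partition hZV hVN (hNH.trans hHZ) hnNV S hSN hS hSiN ν
    (fun y hy => hνinv y hy.1)
  rw [cntIn_congr _ (hZV.trans hVN) hN_eq]
  -- the bijection
  have hSinvU : ∀ θ : IrrCharacter U, ∀ s ∈ S, InvBy U (θ : U → ℂ) s := fun θ s hs =>
    invBy_of_mem θ.2 (Subgroup.mem_sup_right hs)
  have hSinvV : ∀ φ : IrrCharacter V, ∀ s ∈ S, InvBy V (φ : V → ℂ) s := fun φ s hs =>
    invBy_of_mem φ.2 (Subgroup.mem_sup_right hs)
  have hlies : ∀ (θ : IrrCharacter U) (φ : IrrCharacter V), ¬ p ∣ charDegree (θ : U → ℂ) →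
      Rel p hCK (θ : U → ℂ) (φ : V → ℂ) →
      (Lies (Subgroup.inclusion hZU) (θ : U → ℂ) (ν : Z → ℂ) ↔
        Lies (Subgroup.inclusion hZV) (φ : V → ℂ) (ν : Z → ℂ)) := fun θ φ hθ h => by
    rw [hνh]
    exact rel_central hK hS hSK hC hCK hθ h hZV hZU
      (hZc.trans (Subgroup.centralizer_le (show (U : Set W) ⊆ H from hUH))) νh
  let F : Theta p hZU S (ν : Z → ℂ) → Theta p hZV S (ν : Z → ℂ) := fun θ =>
    ⟨(rel_fwd hK hS hSK hC hCK θ.1 θ.2.1).choose,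
      (rel_fwd hK hS hSK hC hCK θ.1 θ.2.1).choose_spec.1,
      (hlies _ _ θ.2.1 (rel_fwd hK hS hSK hC hCK θ.1 θ.2.1).choose_spec.2.1).1 θ.2.2.1,
      hSinvV _⟩
  have hF : ∀ θ, Rel p hCK (θ.1 : U → ℂ) ((F θ).1 : V → ℂ) := fun θ =>
    (rel_fwd hK hS hSK hC hCK θ.1 θ.2.1).choose_spec.2.1
  have hFu : ∀ θ (φ : IrrCharacter V), ¬ p ∣ charDegree (φ : V → ℂ) →
      Rel p hCK (θ.1 : U → ℂ) (φ : V → ℂ) → φ = (F θ).1 := fun θ =>
    (rel_fwd hK hS hSK hC hCK θ.1 θ.2.1).choose_spec.2.2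
  have hbij : Function.Bijective F := by
    refine ⟨fun θ θ' h => ?_, fun φ => ?_⟩
    · obtain ⟨t, -, -, hu⟩ := rel_bwd hK hS hSK hC hCK (F θ).1 (F θ).2.1
      exact Subtype.ext ((hu θ.1 θ.2.1 (hF θ)).trans (hu θ'.1 θ'.2.1 (h ▸ hF θ')).symm)
    · obtain ⟨t, ht, hrel, -⟩ := rel_bwd hK hS hSK hC hCK φ.1 φ.2.1
      refine ⟨⟨t, ht, (hlies t φ.1 ht hrel).2 φ.2.2.1, hSinvU t⟩, ?_⟩
      exact (Subtype.ext (hFu ⟨t, ht, (hlies t φ.1 ht hrel).2 φ.2.2.1, hSinvU t⟩ φ.1 φ.2.1 hrel)).symm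
  have hdegcj : ∀ {M : Subgroup W} {g : W} (hg : g ∈ Subgroup.normalizer (M : Set W))
      (θ : IrrCharacter M), charDegree (cjOf hg θ : M → ℂ) = charDegree (θ : M → ℂ) :=
    fun hg θ => by simp [charDegree, cjOf]
  have hequiv : ∀ n ∈ N, ∀ θ θ' : Theta p hZU S (ν : Z → ℂ),
      ConjBy (θ.1 : U → ℂ) (θ'.1 : U → ℂ) n ↔ ConjBy ((F θ).1 : V → ℂ) ((F θ').1 : V → ℂ) n := by
    intro n hn θ θ'
    have hnU := hHU hn.1
    rw [conjBy_iff _ _ hnU, conjBy_iff _ _ (hnNV n hn)]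
    have hr := rel_conj hK hS hSK hC hCK (hF θ) (hHK hn.1) hn.2 hnU (hnNV n hn)
    refine ⟨fun h => ?_, fun h => ?_⟩
    · refine (hFu θ' _ ?_ (h ▸ hr)).symm
      rw [hdegcj]; exact (F θ).2.1
    · obtain ⟨t, -, -, hu⟩ := rel_bwd hK hS hSK hC hCK (F θ').1 (F θ').2.1
      refine (hu θ'.1 θ'.2.1 (hF θ')).trans (hu _ ?_ (h ▸ hr)).symm
      rw [hdegcj]; exact θ.2.1
  have horb : ∀ θ, orbCard (H ⊓ Subgroup.normalizer ((U ⊔ S : Subgroup W) : Set W)) θ =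
      orbCard (N ⊓ Subgroup.normalizer ((V ⊔ S : Subgroup W) : Set W)) (F θ) := by
    intro θ
    rw [sup_eq_left.2 (le_sup_right : S ≤ U), sup_eq_left.2 (le_sup_right : S ≤ V)]
    refine Nat.card_congr (Equiv.subtypeEquiv (Equiv.ofBijective F hbij) fun θ' => ?_)
    refine ⟨fun ⟨g, hg, hc⟩ => ?_, fun ⟨n, hn, hc⟩ =>
      ⟨n, ⟨hn.1.1, hHU hn.1.1⟩, (hequiv n hn.1 θ θ').2 hc⟩⟩
    obtain ⟨u, hu, n, hn, rfl⟩ := hfrat g hg.1
    refine ⟨n, ⟨hn, hnNV n hn⟩, (hequiv n hn θ θ').1 fun k k' hk => ?_⟩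
    refine (hc k ⟨u * (k' : W) * u⁻¹, mul_mem (mul_mem hu k'.2) (inv_mem hu)⟩ ?_).trans ?_
    · show u * (k' : W) * u⁻¹ = _
      rw [hk]; group
    · exact invBy_of_mem θ.1.2 hu k' _ rfl
  have hcnt : ∀ θ, cntIn p hUH (θ.1 : U → ℂ) = cntIn p hVN ((F θ).1 : V → ℂ) := by
    intro θ
    set φ := (F θ).1 with hφ
    have hinv : ∀ n ∈ N, InvBy U (θ.1 : U → ℂ) n ↔ InvBy V (φ : V → ℂ) n := fun n hn => by
      have h := hequiv n hn θ θ
      exact ⟨fun hi k k' e => ((h.1 fun a b e' => (hi a b e').symm) k k' e).symm,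
        fun hi k k' e => ((h.2 fun a b e' => (hi a b e').symm) k k' e).symm⟩
    set T := H ⊓ invSubgroup U (θ.1 : U → ℂ) with hT
    set T' := N ⊓ invSubgroup V (φ : V → ℂ) with hT'
    have hUT : U ≤ T := fun u hu => ⟨hUH hu, Subgroup.le_normalizer hu, invBy_of_mem θ.1.2 hu⟩
    have hVT' : V ≤ T' := fun v hv => ⟨hVN hv, Subgroup.le_normalizer hv, invBy_of_mem φ.2 hv⟩
    have hT'T : T' ≤ T := fun t ht => ⟨ht.1.1, hHU ht.1.1, (hinv t ht.1).2 ht.2.2⟩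
    have hdvdT : ¬ p ∣ T.relIndex H := fun h => hSi (h.trans
      (Subgroup.relIndex_dvd_of_le_left H (le_sup_right.trans hUT)))
    have hdvdT' : ¬ p ∣ T'.relIndex N := fun h => hSiN (h.trans
      (Subgroup.relIndex_dvd_of_le_left N (le_sup_right.trans hVT')))
    rw [cnt_inertia hUH hHU θ.1 hUT hdvdT, cnt_inertia hVN hnNV φ hVT' hdvdT']
    have hST' : S ≤ T' := le_sup_right.trans hVT'
    have hST'i : ¬ p ∣ S.relIndex T' := fun h => hSi
      (h.trans (Subgroup.relIndex_mul_relIndex S T' H hST' (inf_le_left.trans hNH) ▸ Dvd.intro _ rfl))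
    haveI : (V.subgroupOf T').Normal :=
      (Subgroup.normal_subgroupOf_iff_le_normalizer hVT').2 fun t ht => hnNV t ht.1
    haveI : Fintype (T' ⧸ V.subgroupOf T') := Fintype.ofFinite _
    let sec : T' ⧸ V.subgroupOf T' → W := fun q => ((q.out : T') : W)
    have hsec : ∀ q, sec q ∈ T' := fun q => q.out.2
    have hkey : ∀ (t : T') q, (sec q)⁻¹ * (t : W) ∈ V ↔ (t : T' ⧸ V.subgroupOf T') = q := by
      intro t q
      conv_rhs => rw [← QuotientGroup.out_eq' q, eq_comm, QuotientGroup.eq]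
      rfl
    have hu' : ∀ h ∈ T', ∃! q, (sec q)⁻¹ * h ∈ V := fun h hh =>
      ⟨_, (hkey ⟨h, hh⟩ _).2 rfl, fun q hq => ((hkey ⟨h, hh⟩ q).1 hq).symm⟩
    have hu : ∀ h ∈ T, ∃! q, (sec q)⁻¹ * h ∈ U := by
      intro h hh
      obtain ⟨u, hu, n, hn, rfl⟩ := hfrat h hh.1
      have hnT : n ∈ T := by
        have := mul_mem (inv_mem (hUT hu)) hh
        simpa using this
      have hnT' : n ∈ T' := ⟨hn, hnNV n hn, (hinv n hn).1 hnT.2.2⟩
      obtain ⟨q, hq, hqu⟩ := hu' n hnT'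
      refine ⟨q, ?_, fun q' hq' => hqu q' (hUN _ ?_ ?_)⟩
      · have h1 := mul_mem (hVU hq) (conj_mem (inv_mem (hHU hn.1)) hu)
        simpa [mul_assoc] using h1
      · have h1 := mul_mem hq' (inv_mem (conj_mem (inv_mem (hHU hn.1)) hu))
        simpa [mul_assoc] using h1
      · exact mul_mem (inv_mem (hsec q').1.2) hn.2
    have hnV : ¬ p ∣ charDegree (φ : V → ℂ) := (F θ).2.1
    have h1 := cnt_pair_sum (p := p) hUT (fun t ht => hHU ht.1) θ.1 (fun t ht => ht.2.2) θ.2.1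
      (fun h => hSi ((h.trans (Subgroup.relIndex_mul_relIndex U T H hUT inf_le_left ▸
        Dvd.intro _ rfl)).trans (Subgroup.relIndex_dvd_of_le_left H le_sup_right)))
      sec (fun q => hT'T (hsec q)) hu
    have h2 := cnt_pair_sum (p := p) hVT' (fun t ht => hnNV t ht.1) φ (fun t ht => ht.2.2) hnV
      (fun h => hST'i (h.trans (Subgroup.relIndex_dvd_of_le_left T' le_sup_right)))
      sec hsec hu'
    have h3 : ∀ q r, pairVal U (θ.1 : U → ℂ) (sec q) (sec r) = pairVal V (φ : V → ℂ) (sec q) (sec r) := by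
      intro q r
      by_cases hm : sec q * sec r * (sec q)⁻¹ * (sec r)⁻¹ ∈ V
      · exact endgame_pair hK hS hSK hC hCK θ.1 φ θ.2.1 (hF θ) T' hVT'
          (fun t ht => hHK ht.1.1) (fun t ht => ht.1.2) hST'i
          (fun t ht => (hT'T ht).2.2) (fun t ht => ht.2.2) (hsec q) (hsec r) hm
      · rw [pairVal_eq_zero hm, pairVal_eq_zero fun hm' => hm (hUN _ hm'
          (mul_mem (mul_mem (mul_mem (hsec q).1.2 (hsec r).1.2) (inv_mem (hsec q).1.2))
            (inv_mem (hsec r).1.2)))]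
    rw [Finset.sum_congr rfl fun q _ => Finset.sum_congr rfl fun r _ => h3 q r, ← h2] at h1
    exact_mod_cast mul_right_cancel₀ (Nat.cast_ne_zero.2 Fintype.card_ne_zero) h1
  have : ((cntIn p hZH (ν : Z → ℂ) : ℕ) : ℚ) = cntIn p (hZV.trans hVN) (ν : Z → ℂ) := by
    rw [show cntIn p hZH (ν : Z → ℂ) = cntIn p (hZU.trans hUH) (ν : Z → ℂ) from rfl, hp1, hp2]
    refine finsum_eq_of_bijective F hbij fun θ => ?_
    rw [hcnt θ, horb θ]
  exact_mod_cast this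

end Cfsg.Agent.RelMcKay
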