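import Cfsg.Agent.Lib.RelMcKay.Pairing
import Cfsg.Agent.Lib.Char.GlaubermanMod
import Cfsg.Agent.Lib.Char.CoprimeConstituent

/-!
# The correspondence for a `p`-subgroup acting on a `p'`-subgroup, for subgroups of one group
-/

set_option autoImplicit false
set_option linter.style.haveILetI false
set_option linter.unusedSectionVars false

namespace Cfsg.Agent.RelMcKay

open Cfsg Cfsg.Agent Cfsg.Agent.Char
open scoped ComplexConjugate

universe u

variable {W : Type u} [Group W] [Finite W]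

/-- `γ` occurs in the restriction of `χ` to `D` with multiplicity prime to `p`. -/
def Over (p : ℕ) {X D : Subgroup W} (hDX : D ≤ X) [Fintype D] (χ : X → ℂ) (γ : D → ℂ) : Prop :=
  ∃ m : ℕ, classInner (fun c : D => χ ⟨(c : W), hDX c.2⟩) γ = m ∧ ¬ p ∣ m

/-- The character conjugated by an element of the normaliser. -/
noncomputable def cjOf {X : Subgroup W} {g : W} (hg : g ∈ Subgroup.normalizer (X : Set W))
    (χ : IrrCharacter X) : IrrCharacter X :=
  ⟨fun x => (χ : X → ℂ) (cj hg x), IsIrrCharacter.comp χ.2 (cj hg) (cj_surjective hg)⟩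

theorem cjOf_apply {X : Subgroup W} {g : W} (hg : g ∈ Subgroup.normalizer (X : Set W))
    (χ : IrrCharacter X) (x : X) : (cjOf hg χ : X → ℂ) x = (χ : X → ℂ) (cj hg x) := rfl

theorem invBy_iff_cjOf {X : Subgroup W} {g : W} (hg : g ∈ Subgroup.normalizer (X : Set W))
    (χ : IrrCharacter X) : InvBy X (χ : X → ℂ) g ↔ cjOf hg χ = χ := by
  refine ⟨fun h => Subtype.ext (funext fun x => h x _ rfl), fun h k k' hk => ?_⟩
  rw [show k' = cj hg k from Subtype.ext hk]
  exact congrFun (congrArg Subtype.val h) k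

theorem classInner_cj {X D : Subgroup W} (hDX : D ≤ X) [Fintype D] {g : W}
    (hgX : g ∈ Subgroup.normalizer (X : Set W)) (hgD : g ∈ Subgroup.normalizer (D : Set W))
    (χ : IrrCharacter X) (γ : IrrCharacter D) :
    classInner (fun c : D => (cjOf hgX χ : X → ℂ) ⟨(c : W), hDX c.2⟩) (cjOf hgD γ : D → ℂ) =
      classInner (fun c : D => (χ : X → ℂ) ⟨(c : W), hDX c.2⟩) (γ : D → ℂ) :=
  RelGlauberman.classInner_comp_surj (cj hgD) (cj_surjective hgD)
    (fun c : D => (χ : X → ℂ) ⟨(c : W), hDX c.2⟩) (γ : D → ℂ)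

theorem over_cjOf {p : ℕ} {X D : Subgroup W} (hDX : D ≤ X) [Fintype D] {g : W}
    (hgX : g ∈ Subgroup.normalizer (X : Set W)) (hgD : g ∈ Subgroup.normalizer (D : Set W))
    {χ : IrrCharacter X} {γ : IrrCharacter D} (h : Over p hDX (χ : X → ℂ) (γ : D → ℂ)) :
    Over p hDX (cjOf hgX χ : X → ℂ) (cjOf hgD γ : D → ℂ) := by
  obtain ⟨m, hm, hp⟩ := h
  exact ⟨m, (classInner_cj hDX hgX hgD χ γ).trans hm, hp⟩

section corr

variable {p : ℕ} [hp : Fact p.Prime] (E X D : Subgroup W) [Fintype D]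
  (hE : IsPGroup p E) (hX : ¬ p ∣ Nat.card X) (hEX : E ≤ Subgroup.normalizer (X : Set W))
  (hD : D = X ⊓ Subgroup.centralizer (E : Set W)) (hDX : D ≤ X)

include hE hX hEX hD

theorem glauber_fwd (χ : IrrCharacter X) (hχ : ∀ e ∈ E, InvBy X (χ : X → ℂ) e) :
    ∃ γ : IrrCharacter D, Over p hDX (χ : X → ℂ) (γ : D → ℂ) ∧
      ∀ γ' : IrrCharacter D, Over p hDX (χ : X → ℂ) (γ' : D → ℂ) → γ' = γ := by
  classical
  haveI := Fintype.ofFinite X
  have hnorm : ∀ e ∈ E, ∀ x ∈ X, e * x * e⁻¹ ∈ X := fun e he x hx => conj_mem (hEX he) hx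
  set φ := CoprimeConst.actConj X E hnorm
  haveI := Fintype.ofFinite (GlaubermanMod.fixedSub φ)
  have hmem : ∀ x : X, x ∈ GlaubermanMod.fixedSub φ ↔ (x : W) ∈ D := by
    intro x
    rw [GlaubermanMod.mem_fixedSub, hD, Subgroup.mem_inf, Subgroup.mem_centralizer_iff]
    refine ⟨fun h => ⟨x.2, fun e he => ?_⟩, fun h u => Subtype.ext ?_⟩
    · have h1 := congrArg (Subtype.val) (h ⟨e, he⟩)
      rw [CoprimeConst.actConj_coe] at h1
      exact mul_inv_eq_iff_eq_mul.1 h1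
    · rw [CoprimeConst.actConj_coe, h.2 u u.2, mul_inv_cancel_right]
  let e : D ≃* GlaubermanMod.fixedSub φ :=
    { toFun := fun c => ⟨⟨(c : W), hDX c.2⟩, (hmem _).2 c.2⟩
      invFun := fun c => ⟨((c : X) : W), (hmem _).1 c.2⟩
      left_inv := fun c => rfl
      right_inv := fun c => rfl
      map_mul' := fun a b => rfl }
  have hinv : GlaubermanMod.IsInv φ (χ : X → ℂ) :=
    (CoprimeConst.isInv_conj_iff X E hnorm _).2 fun s hs g g' hg => hχ s hs g g' hg
  obtain ⟨γ, hγ, huniq⟩ := GlaubermanMod.exists_unique_constituent φ hE hX χ hinv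
  let toF : IrrCharacter D → IrrCharacter (GlaubermanMod.fixedSub φ) := fun δ =>
    ⟨fun c => (δ : D → ℂ) (e.symm c), IsIrrCharacter.comp δ.2 e.symm.toMonoidHom e.symm.surjective⟩
  let ofF : IrrCharacter (GlaubermanMod.fixedSub φ) → IrrCharacter D := fun δ =>
    ⟨fun c => (δ : GlaubermanMod.fixedSub φ → ℂ) (e c),
      IsIrrCharacter.comp δ.2 e.toMonoidHom e.surjective⟩
  have hinner : ∀ δ : IrrCharacter (GlaubermanMod.fixedSub φ),
      classInner (fun c : D => (χ : X → ℂ) ⟨(c : W), hDX c.2⟩) (ofF δ : D → ℂ) =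
        (GlaubermanMod.mult φ χ δ : ℂ) := fun δ =>
    (RelGlauberman.classInner_comp_surj e.toMonoidHom e.surjective
      (GlaubermanMod.resC φ (χ : X → ℂ)) (δ : GlaubermanMod.fixedSub φ → ℂ)).trans
      (GlaubermanMod.classInner_resC φ χ δ)
  refine ⟨ofF γ, ⟨_, hinner γ, fun hd => ?_⟩, fun γ' ⟨m, hm, hpm⟩ => ?_⟩
  · rw [← CharP.cast_eq_zero_iff (ZMod p) p] at hd
    rcases hγ with h | h <;> rw [hd] at h
    · exact zero_ne_one h
    · exact zero_ne_one (neg_injective (neg_zero.trans h))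
  · have hof : ofF (toF γ') = γ' := Subtype.ext (funext fun c => congrArg (γ' : D → ℂ) (e.symm_apply_apply c))
    by_contra hne
    refine hpm ?_
    have := huniq (toF γ') fun h => hne (by rw [← h, hof])
    have h2 := hinner (toF γ')
    rw [hof, hm, Nat.cast_inj] at h2
    rwa [h2]

theorem glauber_bwd (γ : IrrCharacter D) :
    ∃ χ : IrrCharacter X, (∀ e ∈ E, InvBy X (χ : X → ℂ) e) ∧ Over p hDX (χ : X → ℂ) (γ : D → ℂ) ∧
      ∀ χ' : IrrCharacter X, (∀ e ∈ E, InvBy X (χ' : X → ℂ) e) →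
        Over p hDX (χ' : X → ℂ) (γ : D → ℂ) → χ' = χ := by
  classical
  haveI := Fintype.ofFinite X
  have hnorm : ∀ e ∈ E, ∀ x ∈ X, e * x * e⁻¹ ∈ X := fun e he x hx => conj_mem (hEX he) hx
  set φ := CoprimeConst.actConj X E hnorm
  haveI := Fintype.ofFinite (GlaubermanMod.fixedSub φ)
  have hmem : ∀ x : X, x ∈ GlaubermanMod.fixedSub φ ↔ (x : W) ∈ D := by
    intro x
    rw [GlaubermanMod.mem_fixedSub, hD, Subgroup.mem_inf, Subgroup.mem_centralizer_iff]
    refine ⟨fun h => ⟨x.2, fun e he => ?_⟩, fun h u => Subtype.ext ?_⟩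
    · have h1 := congrArg (Subtype.val) (h ⟨e, he⟩)
      rw [CoprimeConst.actConj_coe] at h1
      exact mul_inv_eq_iff_eq_mul.1 h1
    · rw [CoprimeConst.actConj_coe, h.2 u u.2, mul_inv_cancel_right]
  let e : D ≃* GlaubermanMod.fixedSub φ :=
    { toFun := fun c => ⟨⟨(c : W), hDX c.2⟩, (hmem _).2 c.2⟩
      invFun := fun c => ⟨((c : X) : W), (hmem _).1 c.2⟩
      left_inv := fun c => rfl
      right_inv := fun c => rfl
      map_mul' := fun a b => rfl }
  let γ₀ : IrrCharacter (GlaubermanMod.fixedSub φ) :=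
    ⟨fun c => (γ : D → ℂ) (e.symm c), IsIrrCharacter.comp γ.2 e.symm.toMonoidHom e.symm.surjective⟩
  have hinner : ∀ χ : IrrCharacter X,
      classInner (fun c : D => (χ : X → ℂ) ⟨(c : W), hDX c.2⟩) (γ : D → ℂ) =
        (GlaubermanMod.mult φ χ γ₀ : ℂ) := fun χ =>
    (RelGlauberman.classInner_comp_surj e.toMonoidHom e.surjective
      (GlaubermanMod.resC φ (χ : X → ℂ)) (γ₀ : GlaubermanMod.fixedSub φ → ℂ)).trans
      (GlaubermanMod.classInner_resC φ χ γ₀)
  have hiff : ∀ χ : IrrCharacter X, GlaubermanMod.IsInv φ (χ : X → ℂ) ↔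
      ∀ e ∈ E, InvBy X (χ : X → ℂ) e := fun χ =>
    (CoprimeConst.isInv_conj_iff X E hnorm _).trans
      ⟨fun h e he k k' hk => h e he k k' hk, fun h s hs g g' hg => h s hs g g' hg⟩
  obtain ⟨χ, hχ, hm⟩ := GlaubermanMod.exists_over φ hE hX γ₀
  refine ⟨χ, (hiff χ).1 hχ, ⟨_, hinner χ, hm⟩, fun χ' hχ' ⟨m, hm', hpm⟩ => ?_⟩
  rw [hinner χ', Nat.cast_inj] at hm'
  exact GlaubermanMod.eq_of_common φ hE hX ((hiff χ').2 hχ') hχ (hm' ▸ hpm) hm

end corr

/-- The correspondent inherits the symmetries. -/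
theorem glauber_invBy {p : ℕ} [Fact p.Prime] (E X D : Subgroup W) [Fintype D] (hE : IsPGroup p E)
    (hX : ¬ p ∣ Nat.card X) (hEX : E ≤ Subgroup.normalizer (X : Set W))
    (hD : D = X ⊓ Subgroup.centralizer (E : Set W)) (hDX : D ≤ X) {χ : IrrCharacter X}
    (hχ : ∀ e ∈ E, InvBy X (χ : X → ℂ) e) {γ : IrrCharacter D}
    (h : Over p hDX (χ : X → ℂ) (γ : D → ℂ)) {g : W} (hgX : g ∈ Subgroup.normalizer (X : Set W))
    (hgD : g ∈ Subgroup.normalizer (D : Set W)) (hg : InvBy X (χ : X → ℂ) g) :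
    InvBy D (γ : D → ℂ) g := by
  rw [invBy_iff_cjOf hgD]
  obtain ⟨γ₀, -, huniq⟩ := glauber_fwd E X D hE hX hEX hD hDX χ hχ
  have h' := over_cjOf hDX hgX hgD h
  rw [(invBy_iff_cjOf hgX χ).1 hg] at h'
  rw [huniq _ h', huniq _ h]

end Cfsg.Agent.RelMcKay
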