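import Cfsg.Agent.Lib.RelMcKay.Endgame

/-!
# The count over an invariant character is local
-/

set_option autoImplicit false
set_option linter.style.haveILetI false
set_option linter.unusedSectionVars false

namespace Cfsg.Agent.RelMcKay

open Cfsg Cfsg.Agent Cfsg.Agent.Char Cfsg.Agent.CharExtend
open scoped ComplexConjugate

universe u

/-- The statement for normal subgroups of relative index `n`. -/
def Holds (p : ℕ) (n : ℕ) : Prop :=
  ∀ (W : Type u) [Group W] [Finite W] (H L S : Subgroup W) (hLH : L ≤ H),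
    H ≤ Subgroup.normalizer (L : Set W) → IsPSolvable p H → S ≤ H → IsPGroup p S →
    ¬ p ∣ S.relIndex H → L.relIndex H = n → ∀ ν : IrrCharacter L,
    (∀ s ∈ S, InvBy L (ν : L → ℂ) s) →
    cntIn p hLH (ν : L → ℂ) =
      cntIn p (le_inf hLH (le_sup_left.trans Subgroup.le_normalizer) :
        L ≤ H ⊓ Subgroup.normalizer ((L ⊔ S : Subgroup W) : Set W)) (ν : L → ℂ)

theorem exists_normal_cases {p : ℕ} [Fact p.Prime] {Q : Type u} [Group Q] [Finite Q] [Nontrivial Q]
    (h : IsPSolvable p Q) :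
    ∃ N : Subgroup Q, N.Normal ∧ N ≠ ⊥ ∧ ((∃ m, Nat.card N = p ^ m) ∨ (Nat.card N).Coprime p) := by
  obtain ⟨n, K, h0, hlast, -, hnorm, hfac⟩ := h
  by_contra hcon
  push Not at hcon
  have hall : ∀ i, K i = ⊥ := by
    intro i
    induction i using Fin.induction with
    | zero => exact h0
    | succ i ih =>
      have hi := hfac i
      rw [ih, Subgroup.relIndex_bot_left] at hi
      by_contra hne
      obtain ⟨h1, h2⟩ := hcon _ (hnorm _) hne
      rcases hi with ⟨m, hm⟩ | hc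
      exacts [h1 m hm, h2 hc]
  exact top_ne_bot (α := Subgroup Q) (hlast ▸ hall _)

theorem relIndex_lt_of_lt {W : Type u} [Group W] [Finite W] {L T H : Subgroup W} (hLT : L ≤ T)
    (hTH : T < H) : L.relIndex T < L.relIndex H := by
  rw [← Subgroup.relIndex_mul_relIndex L T H hLT hTH.le]
  refine lt_mul_of_one_lt_right (Nat.pos_of_ne_zero Subgroup.index_ne_zero_of_finite) ?_
  refine lt_of_le_of_ne (Nat.pos_of_ne_zero Subgroup.index_ne_zero_of_finite) fun h => hTH.not_ge ?_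
  exact Subgroup.relIndex_eq_one.1 h.symm

theorem not_dvd_relIndex {W : Type u} [Group W] [Finite W] {p : ℕ} {S T H : Subgroup W} (hST : S ≤ T)
    (hTH : T ≤ H) (h : ¬ p ∣ S.relIndex H) : ¬ p ∣ S.relIndex T := fun hd =>
  h (hd.trans (Subgroup.relIndex_mul_relIndex S T H hST hTH ▸ Dvd.intro _ rfl))

set_option maxHeartbeats 800000 in
/-- The central case. -/
theorem holds_central {p : ℕ} [hp : Fact p.Prime] {n : ℕ} (ih : ∀ m < n, Holds.{u} p m)
    {G : Type u} [Group G] [Finite G] (Z S : Subgroup G) (hZ : Z ≤ Subgroup.center G)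
    (hps : IsPSolvable p G) (hS : IsPGroup p S) (hSi : ¬ p ∣ S.index) (hn : Z.index = n)
    (ν : IrrCharacter Z) (hν : (ν : Z → ℂ) 1 = 1) :
    cntIn p (le_top : Z ≤ ⊤) (ν : Z → ℂ) =
      cntIn p (le_inf le_top (le_sup_left.trans Subgroup.le_normalizer) :
        Z ≤ ⊤ ⊓ Subgroup.normalizer ((Z ⊔ S : Subgroup G) : Set G)) (ν : Z → ℂ) := by
  classical
  set NN := Subgroup.normalizer ((Z ⊔ S : Subgroup G) : Set G) with hNN
  by_cases htop : NN = ⊤
  · exact cntIn_congr _ _ (by rw [← hNN, htop, inf_idem]) _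
  haveI hZn : Z.Normal := ⟨fun z hz x => by
    rw [Subgroup.mem_center_iff.1 (hZ hz) x, mul_inv_cancel_right]; exact hz⟩
  haveI : Nontrivial (G ⧸ Z) := by
    rw [QuotientGroup.nontrivial_iff]
    rintro rfl
    exact htop (eq_top_iff.2 fun x _ => Subgroup.le_normalizer (Subgroup.mem_sup_left (Subgroup.mem_top x)))
  obtain ⟨M₀, hM₀n, hM₀ne, hM₀⟩ := exists_normal_cases (PSolvable.quotient Z hps)
  set M := M₀.comap (QuotientGroup.mk' Z) with hM
  haveI hMn : M.Normal := hM₀n.comap _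
  have hZM : Z ≤ M := fun z hz => by
    show (QuotientGroup.mk z : G ⧸ Z) ∈ M₀
    rw [(QuotientGroup.eq_one_iff z).2 hz]; exact one_mem _
  have hrel : Z.relIndex M = Nat.card M₀ := by
    have h := Subgroup.relIndex_comap (⊥ : Subgroup (G ⧸ Z)) (QuotientGroup.mk' Z) M
    rw [MonoidHom.comap_bot, QuotientGroup.ker_mk', hM,
      Subgroup.map_comap_eq_self_of_surjective (QuotientGroup.mk'_surjective Z),
      Subgroup.relIndex_bot_left] at h
    exact h
  have hZMlt : M.index < n := by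
    rw [← hn, ← Subgroup.relIndex_mul_index hZM]
    refine lt_mul_of_one_lt_left (Nat.pos_of_ne_zero Subgroup.index_ne_zero_of_finite) ?_
    rw [hrel]
    exact Subgroup.one_lt_card_iff_ne_bot _ |>.2 hM₀ne
  have hMnorm : (⊤ : Subgroup G) ≤ Subgroup.normalizer (M : Set G) :=
    (Subgroup.normalizer_eq_top_iff.2 hMn).ge
  have hZnorm : (⊤ : Subgroup G) ≤ Subgroup.normalizer (Z : Set G) :=
    (Subgroup.normalizer_eq_top_iff.2 hZn).ge
  have hνinv : ∀ y : G, InvBy Z (ν : Z → ℂ) y := fun y k k' e => by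
    rw [show k' = k from Subtype.ext (by
      rw [e, Subgroup.mem_center_iff.1 (hZ k.2) y, mul_inv_cancel_right])]
  have htopS : ¬ p ∣ S.relIndex ⊤ := by rwa [Subgroup.relIndex_top_right]
  set H2 := (⊤ : Subgroup G) ⊓ Subgroup.normalizer ((M ⊔ S : Subgroup G) : Set G) with hH2
  have hMH2 : M ≤ H2 := le_inf le_top (le_sup_left.trans Subgroup.le_normalizer)
  have hSH2 : S ≤ H2 := le_inf le_top (le_sup_right.trans Subgroup.le_normalizer)
  -- reduction to `H2`
  have h12 : cntIn p (le_top : Z ≤ ⊤) (ν : Z → ℂ) = cntIn p (hZM.trans hMH2) (ν : Z → ℂ) := by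
    have e1 := cnt_partition hZM (le_top : M ≤ ⊤) hZnorm hMnorm S le_top hS htopS ν fun y _ => hνinv y
    have e2 := cnt_partition hZM hMH2 (le_top.trans hZnorm) (le_top.trans hMnorm) S hSH2 hS
      (not_dvd_relIndex hSH2 le_top htopS) ν fun y _ => hνinv y
    have e3 : (cntIn p (hZM.trans (le_top : M ≤ ⊤)) (ν : Z → ℂ) : ℚ) =
        cntIn p (hZM.trans hMH2) (ν : Z → ℂ) := by
      rw [e1, e2]
      refine finsum_congr fun θ => ?_
      rw [ih M.index hZMlt G ⊤ M S le_top hMnorm ((PSolvable.congr Subgroup.topEquiv).2 hps) le_top hS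
        htopS (Subgroup.relIndex_top_right M) θ.1 θ.2.2.2, inf_assoc, inf_idem]
    exact_mod_cast e3
  have hle : NN ≤ Subgroup.normalizer ((M ⊔ S : Subgroup G) : Set G) := by
    intro g hg
    rw [show M ⊔ S = M ⊔ (Z ⊔ S) by rw [← sup_assoc, sup_eq_left.2 hZM]]
    exact Subgroup.normalizer_inf_normalizer_le_normalizer_sup M (Z ⊔ S)
      ⟨hMnorm (Subgroup.mem_top g), hg⟩
  by_cases hH2top : H2 = ⊤
  swap
  · rw [h12]
    have hlt : Z.relIndex H2 < n := by
      rw [← hn, ← Subgroup.relIndex_top_right Z]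
      exact relIndex_lt_of_lt (hZM.trans hMH2) (lt_top_iff_ne_top.2 hH2top)
    rw [ih _ hlt G H2 Z S (hZM.trans hMH2) (le_top.trans hZnorm) (PSolvable.subgroup H2 hps) hSH2 hS
      (not_dvd_relIndex hSH2 le_top htopS) rfl ν fun s _ => hνinv s]
    exact cntIn_congr _ _ (by rw [hH2, ← hNN, inf_assoc, inf_eq_right.2 hle]) _
  -- `M S` is normal
  have hMSn : (⊤ : Subgroup G) ≤ Subgroup.normalizer ((M ⊔ S : Subgroup G) : Set G) :=
    hH2top ▸ inf_le_right
  rcases hM₀ with ⟨m, hm⟩ | hcop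
  · -- a `p`-group modulo `Z`
    refine absurd ?_ htop
    have hP : M ⊔ S = Z ⊔ S := by
      refine le_antisymm ?_ (sup_le_sup_right hZM S)
      rw [← Subgroup.relIndex_eq_one]
      set P := Z ⊔ S
      have hcard := SolvBasic.card_sup_mul_card_inf (N := M) (H := P) (le_top.trans hMnorm)
      have hMP : M ⊔ P = M ⊔ S := by rw [← sup_assoc, sup_eq_left.2 hZM]
      rw [hMP] at hcard
      have c1 : ∀ {A B : Subgroup G}, A ≤ B → Nat.card A * A.relIndex B = Nat.card B := fun h => by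
        rw [← Subgroup.relIndex_bot_left, Subgroup.relIndex_mul_relIndex _ _ _ bot_le h,
          Subgroup.relIndex_bot_left]
      have hPM : P ≤ M ⊔ S := sup_le_sup_right hZM S
      have h1 : P.relIndex (M ⊔ S) * Nat.card (M ⊓ P : Subgroup G) = Nat.card M := by
        rw [← c1 hPM, mul_assoc] at hcard
        exact Nat.eq_of_mul_eq_mul_left Nat.card_pos (hcard.trans (mul_comm _ _))
      have h2 : P.relIndex (M ⊔ S) ∣ p ^ m := by
        rw [← c1 (le_inf hZM le_sup_left : Z ≤ M ⊓ P), ← c1 hZM, hrel, hm, mul_left_comm] at h1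
        exact Dvd.intro _ (Nat.eq_of_mul_eq_mul_left Nat.card_pos h1)
      have h3 : P.relIndex (M ⊔ S) ∣ S.index := by
        refine (Subgroup.relIndex_dvd_of_le_left (M ⊔ S) (le_sup_right : S ≤ P)).trans ?_
        rw [← Subgroup.relIndex_mul_index (le_sup_right : S ≤ M ⊔ S)]
        exact Dvd.intro _ rfl
      obtain ⟨j, -, hj⟩ := (Nat.dvd_prime_pow hp.out).1 h2
      rcases Nat.eq_zero_or_pos j with rfl | hj0
      · rw [hj, pow_zero]
      · exact absurd ((hj ▸ dvd_pow_self p hj0.ne').trans h3) hSi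
    rw [hNN, ← hP]
    exact eq_top_iff.2 hMSn
  · -- a `p'`-group modulo `Z`
    obtain ⟨T⟩ : Nonempty (Sylow p Z) := inferInstance
    set Zp := (T : Subgroup Z).map Z.subtype with hZp
    have hZpZ : Zp ≤ Z := Subgroup.map_subtype_le _
    haveI hZpn : Zp.Normal := ⟨fun z hz x => by
      rw [Subgroup.mem_center_iff.1 (hZ (hZpZ hz)) x, mul_inv_cancel_right]; exact hz⟩
    have hZpp : IsPGroup p Zp := T.isPGroup'.map _
    have hZpS : Zp ≤ S := by
      have h1 : IsPGroup p (Zp ⊔ S : Subgroup G) := IsPGroup.to_sup_of_normal_left hZpp hS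
      obtain ⟨a, ha⟩ := IsPGroup.iff_card.1 h1
      have h2 : S.relIndex (Zp ⊔ S) ∣ p ^ a :=
        ha ▸ ((Subgroup.relIndex_mul_relIndex ⊥ S (Zp ⊔ S) bot_le le_sup_right).trans
          (Subgroup.relIndex_bot_left _)) ▸ Dvd.intro_left _ rfl
      obtain ⟨j, -, hj⟩ := (Nat.dvd_prime_pow hp.out).1 h2
      rcases Nat.eq_zero_or_pos j with rfl | hj0
      · exact le_sup_left.trans (Subgroup.relIndex_eq_one.1 (by rw [hj, pow_zero]))
      · exact absurd (hj ▸ dvd_pow_self p hj0.ne')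
          (not_dvd_relIndex (le_sup_right : S ≤ Zp ⊔ S) le_top htopS)
    have hZpM : Zp ≤ M := hZpZ.trans hZM
    have hidx : ¬ p ∣ (Zp.subgroupOf M).index := by
      show ¬ p ∣ Zp.relIndex M
      rw [← Subgroup.relIndex_mul_relIndex Zp Z M hZpZ hZM, hrel, hp.out.dvd_mul, not_or]
      refine ⟨?_, fun h => hp.out.coprime_iff_not_dvd.1 hcop.symm h⟩
      rw [Subgroup.relIndex, hZp, Subgroup.subgroupOf,
        Subgroup.comap_map_eq_self_of_injective Subtype.val_injective]
      exact T.not_dvd_index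
    haveI : (Zp.subgroupOf M).Normal := hZpn.subgroupOf M
    obtain ⟨e, he⟩ := IsPGroup.iff_card.1 hZpp
    have hcardZ : Nat.card (Zp.subgroupOf M) = p ^ e :=
      (Nat.card_congr (Subgroup.subgroupOfEquivOfLe hZpM).toEquiv).trans he
    obtain ⟨K', hK'⟩ := Subgroup.exists_right_complement'_of_coprime (N := Zp.subgroupOf M) (by
      rw [hcardZ]; exact (hp.out.coprime_iff_not_dvd.2 hidx).pow_left e)
    set K := K'.map M.subtype with hKdef
    have hKM : K ≤ M := Subgroup.map_subtype_le _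
    have hKp : ¬ p ∣ Nat.card K := by
      rw [hKdef, Subgroup.card_map_of_injective Subtype.val_injective, ← hK'.symm.index_eq_card]
      exact hidx
    have hdec : ∀ z ∈ M, ∃ a ∈ Zp, ∃ k ∈ K, z = a * k := fun z hz => by
      obtain ⟨⟨a, k⟩, h⟩ := hK'.2 (⟨z, hz⟩ : M)
      exact ⟨_, a.2, _, ⟨k, k.2, rfl⟩, (congrArg Subtype.val h).symm⟩
    have hchar : ∀ z ∈ M, z ^ Nat.card K = 1 → z ∈ K := by
      intro z hz hzp
      obtain ⟨a, ha, k, hk, rfl⟩ := hdec z hz
      have hc : Commute a k := (Subgroup.mem_center_iff.1 (hZ (hZpZ ha)) k).symm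
      rw [hc.mul_pow, pow_card_of_mem hk, mul_one] at hzp
      rw [eq_one_of_pow_coprime hzp (pow_card_of_mem ha) (coprime_pgroup hZpp hKp), one_mul]
      exact hk
    have hKn : ∀ g : G, g ∈ Subgroup.normalizer (K : Set G) := fun g =>
      mem_normalizer_of_conj_mem fun k hk => hchar _ (hMn.conj_mem k (hKM hk) g) (by
        rw [conj_pow, pow_card_of_mem hk, mul_one, mul_inv_cancel])
    have hMS : K ⊔ S = M ⊔ S := by
      refine le_antisymm (sup_le_sup_right hKM S) (sup_le (fun z hz => ?_) le_sup_right)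
      obtain ⟨a, ha, k, hk, rfl⟩ := hdec z hz
      exact mul_mem (Subgroup.mem_sup_right (hZpS ha)) (Subgroup.mem_sup_left hk)
    exact endgame (le_top : Z ≤ ⊤) (fun z hz => Subgroup.mem_centralizer_iff.2 fun x _ =>
      Subgroup.mem_center_iff.1 (hZ hz) x) (le_top : K ≤ ⊤) (fun g _ => hKn g) hKp le_top hS htopS
      (hMS ▸ hMSn) (hMS ▸ hZM.trans le_sup_left) ν hν

theorem holds {p : ℕ} [hp : Fact p.Prime] (n : ℕ) : Holds.{u} p n := by
  induction n using Nat.strongRecOn with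
  | _ n ih =>
  intro W _ _ H L S hLH hnL hps hSH hS hSi hn ν hν
  classical
  set N₀ := H ⊓ Subgroup.normalizer ((L ⊔ S : Subgroup W) : Set W) with hN₀
  have hLN₀ : L ≤ N₀ := le_inf hLH (le_sup_left.trans Subgroup.le_normalizer)
  have hSN₀ : S ≤ N₀ := le_inf hSH (le_sup_right.trans Subgroup.le_normalizer)
  set I := invSubgroup L (ν : L → ℂ)
  have hLI : L ≤ I := fun l hl => ⟨Subgroup.le_normalizer hl, invBy_of_mem ν.2 hl⟩
  have hSI : S ≤ I := fun s hs => ⟨hnL (hSH hs), hν s hs⟩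
  by_cases hT : H ⊓ I = H
  swap
  · have hlt : L.relIndex (H ⊓ I) < n :=
      hn ▸ relIndex_lt_of_lt (le_inf hLH hLI) (lt_of_le_of_ne inf_le_left hT)
    have hidx : ¬ p ∣ (H ⊓ I).relIndex H := fun h =>
      hSi (h.trans (Subgroup.relIndex_dvd_of_le_left H (le_inf hSH hSI)))
    have hidxN : ¬ p ∣ (N₀ ⊓ I).relIndex N₀ := fun h => not_dvd_relIndex hSN₀ inf_le_left hSi
      (h.trans (Subgroup.relIndex_dvd_of_le_left N₀ (le_inf hSN₀ hSI)))
    rw [cnt_inertia hLH hnL ν (le_inf hLH hLI) hidx,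
      cnt_inertia hLN₀ (inf_le_left.trans hnL) ν (le_inf hLN₀ hLI) hidxN,
      ih _ hlt W (H ⊓ I) L S (le_inf hLH hLI) (inf_le_left.trans hnL)
        ((PSolvable.congr (Subgroup.subgroupOfEquivOfLe inf_le_left)).1
          (PSolvable.subgroup ((H ⊓ I).subgroupOf H) hps))
        (le_inf hSH hSI) hS (not_dvd_relIndex (le_inf hSH hSI) inf_le_left hSi) rfl ν hν]
    exact cntIn_congr _ _ (inf_right_comm _ _ _) _
  have hinv : ∀ h ∈ H, InvBy L (ν : L → ℂ) h := fun h hh => (inf_eq_left.1 hT hh).2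
  by_cases hd : p ∣ charDegree (ν : L → ℂ)
  · rw [cnt_eq_zero hLH hnL ν hd, cnt_eq_zero hLN₀ (inf_le_left.trans hnL) ν hd]
  obtain ⟨G, iG, iF, Z, S', ε, hZ, hpsG, hS', hS'i, hε, hidx, h1, h2⟩ :=
    reduce_central hLH hnL hps S hSH hS hSi ν hinv hd
  rw [h1, h2]
  exact holds_central ih Z S' hZ hpsG hS' hS'i (hidx.trans hn) ε hε

end Cfsg.Agent.RelMcKay
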