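import Cfsg.Agent.Lib.Char.ExtensionChar
import Cfsg.Agent.Lib.Char.Gallagher
import Cfsg.Agent.Lib.Char.Degree

/-!
# The commutator pairing of an invariant irreducible character

For `θ` irreducible on `K` and two elements `x`, `y` fixing `θ` with `⁅x, y⁆ ∈ K`, the commutator of
intertwiners is a scalar times the image of the commutator. The scalar is the obstruction to extending
`θ` to `K⟨x, y⟩`.
-/

set_option autoImplicit false
set_option linter.style.haveILetI false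
set_option linter.unusedSectionVars false

namespace Cfsg.Agent.RelMcKay

open Cfsg Cfsg.Agent Cfsg.Agent.Char Cfsg.Agent.CharExtend
open scoped ComplexConjugate

universe u

variable {W : Type u} [Group W]

/-- The character is fixed under conjugation by the element. -/
def InvBy (K : Subgroup W) (θ : K → ℂ) (x : W) : Prop :=
  ∀ k k' : K, (k' : W) = x * (k : W) * x⁻¹ → θ k' = θ k

section inter

variable {d : ℕ} {K : Subgroup W} (σ : Representation ℂ K (Fin d → ℂ))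

/-- `A` intertwines `σ` with its conjugate by `x`. -/
def Inter (x : W) (A : (Module.End ℂ (Fin d → ℂ))ˣ) : Prop :=
  ∀ k k' : K, (k' : W) = x * (k : W) * x⁻¹ → A * σ.toHomUnits k = σ.toHomUnits k' * A

theorem conj_mem {x : W} (hx : x ∈ Subgroup.normalizer (K : Set W)) {k : W} (hk : k ∈ K) :
    x * k * x⁻¹ ∈ K :=
  (Subgroup.mem_normalizer_iff.1 hx k).1 hk

/-- Conjugation by an element of the normaliser. -/
def cj {x : W} (hx : x ∈ Subgroup.normalizer (K : Set W)) : K →* K where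
  toFun k := ⟨x * k * x⁻¹, conj_mem hx k.2⟩
  map_one' := Subtype.ext (by simp)
  map_mul' a b := Subtype.ext (by simp [mul_assoc])

theorem cj_surjective {x : W} (hx : x ∈ Subgroup.normalizer (K : Set W)) :
    Function.Surjective (cj hx) := fun k =>
  ⟨cj (inv_mem hx) k, Subtype.ext (by simp [cj, mul_assoc])⟩

theorem inter_mem (k₀ : K) : Inter σ (k₀ : W) (σ.toHomUnits k₀) := by
  intro k k' hk
  rw [← map_mul, ← map_mul]
  congr 1
  exact Subtype.ext (by simp [hk, mul_assoc])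

theorem inter_mul {x x' : W} (hx' : x' ∈ Subgroup.normalizer (K : Set W))
    {A A' : (Module.End ℂ (Fin d → ℂ))ˣ} (hA : Inter σ x A) (hA' : Inter σ x' A') :
    Inter σ (x * x') (A * A') := by
  intro k k' hk
  rw [mul_assoc, hA' k ⟨x' * k * x'⁻¹, conj_mem hx' k.2⟩ rfl, ← mul_assoc,
    hA ⟨x' * k * x'⁻¹, conj_mem hx' k.2⟩ k' (by rw [hk]; group), mul_assoc]

theorem inter_inv {x : W} {A : (Module.End ℂ (Fin d → ℂ))ˣ} (hA : Inter σ x A) :
    Inter σ x⁻¹ A⁻¹ := by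
  intro k k' hk
  rw [inv_mul_eq_iff_eq_mul, ← mul_assoc, eq_mul_inv_iff_mul_eq]
  exact (hA k' k (by rw [hk]; group)).symm

variable [hσ : σ.IsIrreducible]
include hσ

theorem exists_scalar (A : (Module.End ℂ (Fin d → ℂ))ˣ)
    (hA : ∀ n : K, (A : Module.End ℂ (Fin d → ℂ)) * σ n = σ n * A) : ∃ z : ℂˣ, scalarUnit z = A := by
  haveI := nontrivial_of_irreducible σ
  obtain ⟨c, hc⟩ := schur_scalar σ (A : Module.End ℂ (Fin d → ℂ)) fun n v => LinearMap.congr_fun (hA n) v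
  have hc0 : c ≠ 0 := by
    rintro rfl
    rw [zero_smul] at hc
    exact not_isUnit_zero (M₀ := Module.End ℂ (Fin d → ℂ)) (hc ▸ A.isUnit)
  exact ⟨Units.mk0 c hc0, Units.ext (by rw [scalarUnit_val, hc, Units.val_mk0])⟩

theorem inter_unique {x : W} (hx : x ∈ Subgroup.normalizer (K : Set W))
    {A A' : (Module.End ℂ (Fin d → ℂ))ˣ} (hA : Inter σ x A) (hA' : Inter σ x A') :
    ∃ z : ℂˣ, A' = scalarUnit z * A := by
  obtain ⟨z, hz⟩ := exists_scalar σ (A⁻¹ * A') fun n => by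
    have h1 := hA n (cj hx n) rfl
    have h2 := hA' n (cj hx n) rfl
    have h3 : A⁻¹ * A' * σ.toHomUnits n = σ.toHomUnits n * (A⁻¹ * A') := by
      rw [mul_assoc, h2, ← mul_assoc, ← mul_assoc]
      congr 1
      rw [inv_mul_eq_iff_eq_mul, ← mul_assoc, eq_mul_inv_iff_mul_eq]
      exact h1.symm
    exact congrArg Units.val h3
  exact ⟨z, by rw [scalarUnit_comm, hz, mul_inv_cancel_left]⟩

theorem exists_inter [Finite K] {x : W} (hx : x ∈ Subgroup.normalizer (K : Set W))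
    (hinv : InvBy K σ.character x) : ∃ A, Inter σ x A := by
  haveI : Fintype K := Fintype.ofFinite K
  let σx : Representation ℂ K (Fin d → ℂ) := σ.comp (cj hx)
  have hc : σx.character = σ.character := funext fun k => hinv k (cj hx k) rfl
  haveI : σx.IsIrreducible := isIrreducible_of_norm_one σx (by
    rw [hc]; exact classInner_self_irr (isIrrCharacter_of_rep σ))
  obtain ⟨e⟩ := nonempty_equiv_of_irr σ σx hc.symm
  refine ⟨LinearMap.GeneralLinearGroup.ofLinearEquiv e.toLinearEquiv, fun k k' hk => ?_⟩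
  rw [show k' = cj hx k from Subtype.ext hk]
  exact Units.ext (LinearMap.ext fun v => e.toIntertwiningMap.isIntertwining σ σx k v)

end inter

theorem inter_transport {d d' : ℕ} {K : Subgroup W} (σ : Representation ℂ K (Fin d → ℂ))
    (σ' : Representation ℂ K (Fin d' → ℂ))
    (Φ : (Module.End ℂ (Fin d → ℂ))ˣ →* (Module.End ℂ (Fin d' → ℂ))ˣ)
    (hΦ : ∀ k, Φ (σ.toHomUnits k) = σ'.toHomUnits k) {x : W} {A : (Module.End ℂ (Fin d → ℂ))ˣ}
    (hA : Inter σ x A) : Inter σ' x (Φ A) := by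
  intro k k' hk
  rw [← hΦ, ← hΦ, ← map_mul, ← map_mul, hA k k' hk]

theorem comm_scalar {d : ℕ} (u v : ℂˣ) (P Q : (Module.End ℂ (Fin d → ℂ))ˣ) :
    scalarUnit u * P * (scalarUnit v * Q) * (scalarUnit u * P)⁻¹ * (scalarUnit v * Q)⁻¹ =
      P * Q * P⁻¹ * Q⁻¹ := by
  have key : ∀ (s : ℂˣ) (X : (Module.End ℂ (Fin d → ℂ))ˣ),
      scalarUnit s * X * (scalarUnit s)⁻¹ = X := fun s X => by
    rw [scalarUnit_comm, mul_inv_cancel_right]
  have h1 : scalarUnit u * P * (scalarUnit v * Q) * (scalarUnit u * P)⁻¹ =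
      scalarUnit v * (P * Q * P⁻¹) := by
    calc scalarUnit u * P * (scalarUnit v * Q) * (scalarUnit u * P)⁻¹
        = scalarUnit u * (P * (scalarUnit v * Q) * P⁻¹) * (scalarUnit u)⁻¹ := by group
      _ = P * (scalarUnit v * Q) * P⁻¹ := key _ _
      _ = _ := by rw [← mul_assoc P, ← scalarUnit_comm v P]; simp only [mul_assoc]
  calc scalarUnit u * P * (scalarUnit v * Q) * (scalarUnit u * P)⁻¹ * (scalarUnit v * Q)⁻¹
      = scalarUnit v * (P * Q * P⁻¹) * (scalarUnit v * Q)⁻¹ := by rw [h1]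
    _ = scalarUnit v * (P * Q * P⁻¹ * Q⁻¹) * (scalarUnit v)⁻¹ := by group
    _ = _ := key _ _

/-- `a` is the value of the commutator pairing of `θ` at `x`, `y`. -/
def Pair (K : Subgroup W) (θ : K → ℂ) (x y : W) (a : ℂˣ) : Prop :=
  ∃ (d : ℕ) (σ : Representation ℂ K (Fin d → ℂ)), σ.IsIrreducible ∧ σ.character = θ ∧
    ∃ A B, Inter σ x A ∧ Inter σ y B ∧ ∃ hc : x * y * x⁻¹ * y⁻¹ ∈ K,
      A * B * A⁻¹ * B⁻¹ = scalarUnit a * σ.toHomUnits ⟨_, hc⟩

variable {K : Subgroup W} [Finite K] {θ : K → ℂ}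

theorem pair_exists (hθ : IsIrrCharacter K θ) {x y : W}
    (hx : x ∈ Subgroup.normalizer (K : Set W)) (hy : y ∈ Subgroup.normalizer (K : Set W))
    (hxi : InvBy K θ x) (hyi : InvBy K θ y) (hc : x * y * x⁻¹ * y⁻¹ ∈ K) :
    ∃ a, Pair K θ x y a := by
  obtain ⟨d, σ, hσ, rfl⟩ := hθ
  haveI := hσ
  obtain ⟨A, hA⟩ := exists_inter σ hx hxi
  obtain ⟨B, hB⟩ := exists_inter σ hy hyi
  have h1 : Inter σ (x * y * x⁻¹ * y⁻¹) (A * B * A⁻¹ * B⁻¹) :=
    inter_mul σ (inv_mem hy) (inter_mul σ (inv_mem hx) (inter_mul σ hy hA hB) (inter_inv σ hA))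
      (inter_inv σ hB)
  obtain ⟨z, hz⟩ := inter_unique σ
    (mul_mem (mul_mem (mul_mem hx hy) (inv_mem hx)) (inv_mem hy))
    (inter_mem σ ⟨_, hc⟩) h1
  exact ⟨z, d, σ, hσ, rfl, A, B, hA, hB, hc, hz⟩

/-- The value can be computed from any representation and any intertwiners. -/
theorem pair_spec {d : ℕ} (σ : Representation ℂ K (Fin d → ℂ)) [hσ : σ.IsIrreducible]
    (hch : σ.character = θ) {x y : W} {a : ℂˣ} (hp : Pair K θ x y a)
    (hx : x ∈ Subgroup.normalizer (K : Set W)) (hy : y ∈ Subgroup.normalizer (K : Set W))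
    {A B : (Module.End ℂ (Fin d → ℂ))ˣ} (hA : Inter σ x A) (hB : Inter σ y B) :
    ∃ hc : x * y * x⁻¹ * y⁻¹ ∈ K, A * B * A⁻¹ * B⁻¹ = scalarUnit a * σ.toHomUnits ⟨_, hc⟩ := by
  obtain ⟨d', σ', hσ', hch', A', B', hA', hB', hc, heq⟩ := hp
  refine ⟨hc, ?_⟩
  haveI := hσ'
  haveI := Fintype.ofFinite K
  obtain ⟨e⟩ := nonempty_equiv_of_irr σ' σ (hch'.trans hch.symm)
  let Φ : (Module.End ℂ (Fin d' → ℂ))ˣ →* (Module.End ℂ (Fin d → ℂ))ˣ :=
    Units.map e.toLinearEquiv.conjRingEquiv.toMonoidHom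
  have hΦσ : ∀ k, Φ (σ'.toHomUnits k) = σ.toHomUnits k := fun k => Units.ext (LinearMap.ext fun v => by
    show e.toLinearEquiv (σ' k (e.toLinearEquiv.symm v)) = σ k v
    refine (e.toIntertwiningMap.isIntertwining σ' σ k (e.toLinearEquiv.symm v)).trans ?_
    exact congrArg (σ k) (e.toLinearEquiv.apply_symm_apply v))
  have hΦs : ∀ z : ℂˣ, Φ (scalarUnit z) = scalarUnit z := fun z => Units.ext (LinearMap.ext fun v => by
    show e.toLinearEquiv ((scalarUnit z : (Module.End ℂ (Fin d' → ℂ))ˣ).1 (e.toLinearEquiv.symm v)) = _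
    rw [scalarUnit_val, scalarUnit_val, LinearMap.smul_apply, LinearMap.smul_apply, map_smul,
      LinearMap.id_apply, LinearMap.id_apply, LinearEquiv.apply_symm_apply])
  have h2 := congrArg Φ heq
  simp only [map_mul, map_inv, hΦσ, hΦs] at h2
  obtain ⟨u, hu⟩ := inter_unique σ hx (inter_transport σ' σ Φ hΦσ hA') hA
  obtain ⟨v, hv⟩ := inter_unique σ hy (inter_transport σ' σ Φ hΦσ hB') hB
  rw [← h2, hu, hv]
  exact comm_scalar u v (Φ A') (Φ B')

theorem pair_unique (hθ : IsIrrCharacter K θ) {x y : W}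
    (hx : x ∈ Subgroup.normalizer (K : Set W)) (hy : y ∈ Subgroup.normalizer (K : Set W))
    {a b : ℂˣ} (ha : Pair K θ x y a) (hb : Pair K θ x y b) : a = b := by
  obtain ⟨d, σ, hσ, hch, A, B, hA, hB, hc, heq⟩ := ha
  haveI := hσ
  haveI := nontrivial_of_irreducible σ
  obtain ⟨hc', h⟩ := pair_spec σ hch hb hx hy hA hB
  exact scalarUnit_injective (mul_right_cancel (heq.symm.trans h))

theorem pair_self {x : W} (hθ : IsIrrCharacter K θ) (hx : x ∈ Subgroup.normalizer (K : Set W))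
    (hxi : InvBy K θ x) : Pair K θ x x 1 := by
  obtain ⟨d, σ, hσ, rfl⟩ := hθ
  haveI := hσ
  obtain ⟨A, hA⟩ := exists_inter σ hx hxi
  refine ⟨d, σ, hσ, rfl, A, A, hA, hA, by simp, ?_⟩
  rw [map_one, one_mul]
  simp only [mul_inv_cancel_right, mul_inv_cancel]
  exact (map_one σ.toHomUnits).symm.trans (congrArg _ (Subtype.ext (by simp)))

theorem pair_swap {x y : W} {a : ℂˣ} (h : Pair K θ x y a) : Pair K θ y x a⁻¹ := by
  obtain ⟨d, σ, hσ, hch, A, B, hA, hB, hc, heq⟩ := h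
  have hc' : y * x * y⁻¹ * x⁻¹ ∈ K := by
    have := inv_mem hc
    simpa [mul_assoc] using this
  refine ⟨d, σ, hσ, hch, B, A, hB, hA, hc', ?_⟩
  calc B * A * B⁻¹ * A⁻¹ = (A * B * A⁻¹ * B⁻¹)⁻¹ := by group
    _ = (σ.toHomUnits ⟨_, hc⟩)⁻¹ * (scalarUnit a)⁻¹ := by rw [heq, mul_inv_rev]
    _ = scalarUnit a⁻¹ * σ.toHomUnits ⟨_, hc'⟩ := by
      rw [← map_inv, ← map_inv, scalarUnit_comm]
      congr 1
      exact congrArg _ (Subtype.ext (by simp [mul_assoc]))

theorem pair_mul_left (hθ : IsIrrCharacter K θ) {x x' y : W}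
    (hx : x ∈ Subgroup.normalizer (K : Set W)) (hx' : x' ∈ Subgroup.normalizer (K : Set W))
    (hy : y ∈ Subgroup.normalizer (K : Set W)) {a b : ℂˣ} (ha : Pair K θ x y a)
    (hb : Pair K θ x' y b) : Pair K θ (x * x') y (a * b) := by
  obtain ⟨d, σ, hσ, hch, A, B, hA, hB, hc, heq⟩ := ha
  haveI := hσ
  obtain ⟨d', σ', hσ', hch', A₁, B₁, hA₁, hB₁, hc₁, heq₁⟩ := hb
  haveI := hσ'
  haveI := Fintype.ofFinite K
  obtain ⟨e⟩ := nonempty_equiv_of_irr σ' σ (hch'.trans hch.symm)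
  let Φ : (Module.End ℂ (Fin d' → ℂ))ˣ →* (Module.End ℂ (Fin d → ℂ))ˣ :=
    Units.map e.toLinearEquiv.conjRingEquiv.toMonoidHom
  have hΦσ : ∀ k, Φ (σ'.toHomUnits k) = σ.toHomUnits k := fun k => Units.ext (LinearMap.ext fun v => by
    show e.toLinearEquiv (σ' k (e.toLinearEquiv.symm v)) = σ k v
    refine (e.toIntertwiningMap.isIntertwining σ' σ k (e.toLinearEquiv.symm v)).trans ?_
    exact congrArg (σ k) (e.toLinearEquiv.apply_symm_apply v))
  have hA' := inter_transport σ' σ Φ hΦσ hA₁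
  obtain ⟨hc', heq'⟩ := pair_spec σ hch ⟨d', σ', hσ', hch', A₁, B₁, hA₁, hB₁, hc₁, heq₁⟩ hx' hy
    hA' hB
  have hcc : x * x' * y * (x * x')⁻¹ * y⁻¹ ∈ K := by
    have h := mul_mem (conj_mem hx hc') hc
    simpa [mul_assoc] using h
  refine ⟨d, σ, hσ, hch, A * Φ A₁, B, inter_mul σ hx' hA hA', hB, hcc, ?_⟩
  have hconj : A * σ.toHomUnits ⟨_, hc'⟩ * A⁻¹ = σ.toHomUnits (cj hx ⟨_, hc'⟩) := by
    rw [hA ⟨_, hc'⟩ (cj hx ⟨_, hc'⟩) rfl, mul_inv_cancel_right]
  calc A * Φ A₁ * B * (A * Φ A₁)⁻¹ * B⁻¹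
      = A * (Φ A₁ * B * (Φ A₁)⁻¹ * B⁻¹) * A⁻¹ * (A * B * A⁻¹ * B⁻¹) := by group
    _ = A * (scalarUnit b * σ.toHomUnits ⟨_, hc'⟩) * A⁻¹ *
        (scalarUnit a * σ.toHomUnits ⟨_, hc⟩) := by rw [heq', heq]
    _ = scalarUnit b * (A * σ.toHomUnits ⟨_, hc'⟩ * A⁻¹) *
        (scalarUnit a * σ.toHomUnits ⟨_, hc⟩) := by
      rw [← mul_assoc A, ← scalarUnit_comm b A]
      simp only [mul_assoc]
    _ = scalarUnit b * scalarUnit a *
        (σ.toHomUnits (cj hx ⟨_, hc'⟩) * σ.toHomUnits ⟨_, hc⟩) := by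
      rw [hconj, mul_assoc (scalarUnit b), ← mul_assoc (σ.toHomUnits (cj hx ⟨_, hc'⟩)),
        ← scalarUnit_comm a (σ.toHomUnits (cj hx ⟨_, hc'⟩))]
      simp only [mul_assoc]
    _ = _ := by
      rw [← map_mul, ← map_mul, mul_comm b a]
      congr 2
      exact Subtype.ext (by simp [cj, mul_assoc])

/-- A character irreducible on a normal subgroup does not vanish on any coset. -/
theorem exists_ne_zero_on_coset {X : Type u} [Group X] [Fintype X] (N : Subgroup X) [N.Normal]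
    [Fintype N] {ψ : X → ℂ} (hψ : IsIrrCharacter X ψ)
    (hres : IsIrrCharacter N (fun n : N => ψ n)) (g : X) : ∃ n : N, ψ (n * g) ≠ 0 := by
  classical
  have hcl := IsCharacter.isClassFunction (IsIrrCharacter.isCharacter hψ)
  obtain ⟨h1, h2, -⟩ := gallagher_one N (IsIrrCharacter.isCharacter hψ) hres
  have hone : ∀ n : N, ((principal X : IrrCharacter X) : X → ℂ) n = (principal X : IrrCharacter X).1 1 :=
    fun n => rfl
  have havg : cosetAvg N ψ ψ = fun _ => 1 := by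
    refine eq_of_forall_classInner (isClassFunction_cosetAvg N hcl hcl)
      (IsCharacter.isClassFunction isCharacter_one) fun β => ?_
    rw [classInner_cosetAvg N hcl hcl β]
    split_ifs with hβ
    · by_cases hβ1 : β = principal X
      · subst hβ1
        have e : ((principal X : IrrCharacter X) : X → ℂ) * ψ = ψ := funext fun x => one_mul _
        rw [e, classInner_self_irr hψ]
        exact (classInner_self_irr (isIrrCharacter_one (G := X))).symm
      · rw [classInner_irr_of_ne hψ (h1 β hβ) fun e => hβ1 (h2 β (principal X) hβ hone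
          (e.symm.trans (funext fun x => (one_mul _).symm)))]
        exact (classInner_irr_of_ne (isIrrCharacter_one (G := X)) β.2
          fun e => hβ1 (Subtype.ext e.symm)).symm
    · rw [classInner_irr_of_ne (isIrrCharacter_one (G := X)) β.2 fun e => hβ fun n => by
        rw [← e]]
  by_contra hcon
  push Not at hcon
  have := congrFun havg g
  simp [cosetAvg, hcon] at this

/-- The pairing is read off from an extension to `K⟨x⟩`. -/
theorem pair_eq_twist [Finite W] {x y : W} (X : Subgroup W) (hKX : K ≤ X) (hxX : x ∈ X)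
    (hKn : X ≤ Subgroup.normalizer (K : Set W)) (hy : y ∈ Subgroup.normalizer (K : Set W))
    (hyX : ∀ z ∈ X, y * z * y⁻¹ ∈ X) {ψ : X → ℂ} (hψ : IsIrrCharacter X ψ)
    (hθ : IsIrrCharacter K θ) (hyi : InvBy K θ y)
    (hres : ∀ k : K, ψ ⟨(k : W), hKX k.2⟩ = θ k) (lam : X → ℂ)
    (hlam : ∀ k : X, (k : W) ∈ K → ∀ z, lam (z * k) = lam z)
    (htw : ∀ z : X, ψ ⟨y * z * y⁻¹, hyX z z.2⟩ = lam z * ψ z) {a : ℂˣ} (hp : Pair K θ x y a) :
    (a : ℂ) = lam ⟨x, hxX⟩ := by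
  classical
  haveI := Fintype.ofFinite X
  haveI := Fintype.ofFinite K
  haveI hn : (K.subgroupOf X).Normal := (Subgroup.normal_subgroupOf_iff_le_normalizer hKX).2 hKn
  haveI := Fintype.ofFinite (K.subgroupOf X)
  obtain ⟨d, η, hη, rfl⟩ := hψ
  let σ : Representation ℂ K (Fin d → ℂ) := η.comp (Subgroup.inclusion hKX)
  have hch : σ.character = θ := funext hres
  haveI : σ.IsIrreducible := isIrreducible_of_norm_one σ (by rw [hch]; exact classInner_self_irr hθ)
  have hA : Inter σ x (η.toHomUnits ⟨x, hxX⟩) := by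
    intro k k' hk
    show η.toHomUnits ⟨x, hxX⟩ * η.toHomUnits (Subgroup.inclusion hKX k) =
      η.toHomUnits (Subgroup.inclusion hKX k') * η.toHomUnits ⟨x, hxX⟩
    rw [← map_mul, ← map_mul]
    exact congrArg _ (Subtype.ext (by simp [hk, mul_assoc]))
  obtain ⟨B, hB⟩ := exists_inter σ hy (hch ▸ hyi)
  obtain ⟨hc, heq⟩ := pair_spec σ hch hp (hKn hxX) hy hA hB
  set A := η.toHomUnits ⟨x, hxX⟩
  -- the conjugate of `η` by `y`, on the coset of `x`
  have hyx : B * A * B⁻¹ = scalarUnit a⁻¹ * η.toHomUnits ⟨y * x * y⁻¹, hyX x hxX⟩ := by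
    calc B * A * B⁻¹ = (A * B * A⁻¹ * B⁻¹)⁻¹ * A := by group
      _ = (σ.toHomUnits ⟨_, hc⟩)⁻¹ * (scalarUnit a⁻¹ * A) := by
        rw [heq, mul_inv_rev, mul_assoc, ← map_inv scalarUnit]
      _ = scalarUnit a⁻¹ * ((σ.toHomUnits ⟨_, hc⟩)⁻¹ * A) := by
        rw [← mul_assoc, ← scalarUnit_comm, mul_assoc]
      _ = _ := by
        congr 1
        show (η.toHomUnits (Subgroup.inclusion hKX ⟨_, hc⟩))⁻¹ * A = _
        rw [← map_inv, ← map_mul]
        exact congrArg _ (Subtype.ext (by simp [mul_assoc]))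
  obtain ⟨⟨n, hn'⟩, hne⟩ := exists_ne_zero_on_coset (K.subgroupOf X) (isIrrCharacter_of_rep η) (by
    have e := IsIrrCharacter.comp hθ (Subgroup.subgroupOfEquivOfLe hKX).toMonoidHom
      (Subgroup.subgroupOfEquivOfLe hKX).surjective
    convert e using 1
    exact funext fun n => (hres (Subgroup.subgroupOfEquivOfLe hKX n))) ⟨x, hxX⟩
  set k : K := ⟨(n : W), hn'⟩ with hk
  set z : X := n * ⟨x, hxX⟩ with hz
  have hBz : B * η.toHomUnits z * B⁻¹ =
      scalarUnit a⁻¹ * η.toHomUnits ⟨y * z * y⁻¹, hyX z z.2⟩ := by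
    rw [hz, map_mul, show B * (η.toHomUnits n * A) * B⁻¹ =
      (B * σ.toHomUnits k * B⁻¹) * (B * A * B⁻¹) by
        show B * (η.toHomUnits n * A) * B⁻¹ = (B * η.toHomUnits n * B⁻¹) * (B * A * B⁻¹)
        group,
      hB k (cj hy k) rfl, mul_inv_cancel_right, hyx, ← mul_assoc, ← scalarUnit_comm, mul_assoc]
    congr 1
    show η.toHomUnits (Subgroup.inclusion hKX (cj hy k)) * _ = _
    rw [← map_mul]
    exact congrArg _ (Subtype.ext (by simp [cj, hk, mul_assoc]))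
  have htr := congrArg (fun T : (Module.End ℂ (Fin d → ℂ))ˣ => LinearMap.trace ℂ _ T.1) hBz
  simp only [Units.val_mul, MonoidHom.coe_toHomUnits] at htr
  rw [LinearMap.trace_mul_cycle, Units.inv_mul, one_mul, scalarUnit_val, smul_mul_assoc,
    ← Module.End.one_eq_id, one_mul, map_smul, smul_eq_mul] at htr
  have h2 : η.character z = (a⁻¹ : ℂˣ) * (lam z * η.character z) := by
    rw [← htw z]; exact htr
  have h3 : lam z = lam ⟨x, hxX⟩ := by
    have e : z = ⟨x, hxX⟩ * (⟨x, hxX⟩⁻¹ * n * ⟨x, hxX⟩) := by rw [hz]; group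
    rw [e]
    exact hlam _ (Subgroup.mem_subgroupOf.1 (by simpa using hn.conj_mem n hn' (⟨x, hxX⟩ : X)⁻¹)) _
  rw [h3, ← mul_assoc] at h2
  have h4 := mul_right_cancel₀ hne ((one_mul _).trans h2)
  rw [Units.val_inv_eq_inv_val] at h4
  exact ((inv_mul_eq_iff_eq_mul₀ a.ne_zero).1 h4.symm).trans (mul_one _) |>.symm

end Cfsg.Agent.RelMcKay
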