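import Cfsg.Agent.Lib.RelMcKay.Pairing
import Cfsg.Agent.Lib.RelMcKay.Glauber
import Cfsg.Agent.Lib.RelMcKay.IrreducibleCyclic
import Cfsg.Agent.Lib.Char.Complete
import Cfsg.Agent.Lib.Char.Orbit
import Cfsg.Agent.Lib.Solvable.Coprime

/-!
# The pairing is preserved by the correspondence

For a `p`-subgroup `R` acting on a `p'`-subgroup `K`, an invariant character and its correspondent
on `K ⊓ C(R)` have the same pairing on every `p'`-group of symmetries which is commutative modulo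
`K ⊓ C(R)`.
-/

set_option autoImplicit false
set_option linter.style.haveILetI false
set_option linter.unusedSectionVars false

namespace Cfsg.Agent.RelMcKay

open Cfsg Cfsg.Agent Cfsg.Agent.Char Cfsg.Agent.CharExtend
open scoped ComplexConjugate

universe u

section twist

variable {X : Type u} [Group X] [Fintype X] (N : Subgroup X) [N.Normal] [Fintype N]

theorem isIrr_linear_mul {ψ : X → ℂ} (hψ : IsIrrCharacter X ψ) (lam : X →* ℂˣ) :
    IsIrrCharacter X (fun z => (lam z : ℂ) * ψ z) := by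
  refine IsCharacter.isIrr_of_norm_one ?_ ?_
  · exact IsCharacter.mul (IsIrrCharacter.isCharacter (isIrrCharacter_linear lam))
      (IsIrrCharacter.isCharacter hψ)
  · rw [← classInner_self_irr hψ]
    unfold classInner
    refine congrArg _ (Finset.sum_congr rfl fun z _ => ?_)
    have h1 : (lam z : ℂ) * conj (lam z : ℂ) = 1 := by
      rw [Complex.mul_conj', norm_eq_one_of_pow (Nat.card_pos (α := X)).ne' ?_]
      · norm_num
      · rw [← Units.val_pow_eq_pow_val, ← map_pow, pow_card_eq_one', map_one, Units.val_one]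
    rw [map_mul]
    linear_combination (ψ z * conj (ψ z)) * h1

theorem exists_twist {ψ ψ' : X → ℂ} (hψ : IsIrrCharacter X ψ) (hψ' : IsIrrCharacter X ψ')
    (hres : IsIrrCharacter N (fun n : N => ψ n)) (h : ∀ n : N, ψ' n = ψ n) :
    ∃ lam : X →* ℂˣ, (∀ n : N, lam n = 1) ∧ ∀ z, ψ' z = lam z * ψ z := by
  obtain ⟨-, -, h3⟩ := gallagher_one N (IsIrrCharacter.isCharacter hψ) hres
  obtain ⟨β, hβ, heq⟩ := h3 ψ' hψ' (by
    rw [show (fun n : N => ψ' n) = fun n : N => ψ n from funext h, classInner_self_irr hres]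
    exact one_ne_zero)
  have hβ1 : (β : X → ℂ) 1 = 1 := by
    have e := congrFun heq 1
    rw [Pi.mul_apply, show ψ' 1 = ψ 1 from h 1] at e
    exact mul_right_cancel₀ (IsIrrCharacter.one_ne_zero hψ) (e.trans (one_mul _).symm)
  obtain ⟨lam, hlam⟩ := exists_hom_of_degree_one (IsIrrCharacter.isCharacter β.2) hβ1
  refine ⟨lam, fun n => Units.ext ?_, fun z => ?_⟩
  · have e := hβ n
    rw [hβ1, hlam] at e
    exact e
  · rw [← heq, Pi.mul_apply, hlam]

theorem twist_unique {ψ : X → ℂ} (hψ : IsIrrCharacter X ψ)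
    (hres : IsIrrCharacter N (fun n : N => ψ n)) {lam : X →* ℂˣ} (hl : ∀ n : N, lam n = 1)
    (h : ∀ z, (lam z : ℂ) * ψ z = ψ z) : lam = 1 := by
  obtain ⟨-, h2, -⟩ := gallagher_one N (IsIrrCharacter.isCharacter hψ) hres
  have e := h2 ⟨fun z => (lam z : ℂ), isIrrCharacter_linear lam⟩ (principal X)
    (fun n => by simp [hl n]) (fun n => rfl) (funext fun z => (h z).trans (one_mul _).symm)
  exact MonoidHom.ext fun z => Units.ext (congrFun (congrArg Subtype.val e) z)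

omit [Fintype X] [Fintype N] in
theorem exists_ext_cyclic [Finite X] {θ : N → ℂ} (hθ : IsIrrCharacter N θ)
    (hinv : ∀ (g : X) (n : N), θ ⟨g * n * g⁻¹, Subgroup.Normal.conj_mem ‹N.Normal› (n : X) n.2 g⟩ = θ n)
    (hcyc : IsCyclic (X ⧸ N)) :
    ∃ ψ : IrrCharacter X, ∀ n : N, (ψ : X → ℂ) n = θ n := by
  obtain ⟨d, σ, hσ, rfl, -, hi⟩ := exists_setup hθ hinv
  obtain ⟨η, hη⟩ := exists_extension_of_cyclic σ hi hcyc
  exact ⟨⟨η.character, (exists_char_of_rep hη).1⟩, (exists_char_of_rep hη).2⟩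

end twist

variable {W : Type u} [Group W] [Finite W]

theorem mem_normalizer_of_conj_mem {H : Subgroup W} {g : W} (h : ∀ x ∈ H, g * x * g⁻¹ ∈ H) :
    g ∈ Subgroup.normalizer (H : Set W) := by
  have hfin : Finite H := inferInstance
  let c : H → H := fun x => ⟨g * x * g⁻¹, h x x.2⟩
  have hc : Function.Injective c := fun x y e => Subtype.ext (by simpa [c] using congrArg Subtype.val e)
  refine Subgroup.mem_normalizer_iff.2 fun x => ⟨h x, fun hx => ?_⟩
  obtain ⟨y, hy⟩ := Finite.surjective_of_injective hc ⟨_, hx⟩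
  have : (y : W) = x := by simpa [c] using congrArg Subtype.val hy
  exact this ▸ y.2

theorem mem_normalizer_centralizer {K : Subgroup W} {g : W}
    (hg : g ∈ Subgroup.normalizer (K : Set W)) :
    g ∈ Subgroup.normalizer (Subgroup.centralizer (K : Set W) : Set W) := by
  refine mem_normalizer_of_conj_mem fun z hz => Subgroup.mem_centralizer_iff.2 fun k hk => ?_
  have hk' : g⁻¹ * k * g ∈ K := (Subgroup.mem_normalizer_iff''.1 hg k).1 hk
  have e := congrArg (fun w => g * w * g⁻¹) (Subgroup.mem_centralizer_iff.1 hz _ hk')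
  simpa [mul_assoc] using e

theorem mem_normalizer_inf {H K : Subgroup W} {g : W} (h : g ∈ Subgroup.normalizer (H : Set W))
    (h' : g ∈ Subgroup.normalizer (K : Set W)) : g ∈ Subgroup.normalizer ((H ⊓ K : Subgroup W) : Set W) :=
  mem_normalizer_of_conj_mem fun _ hx => ⟨conj_mem h hx.1, conj_mem h' hx.2⟩

theorem invBy_of_mem {K : Subgroup W} {θ : K → ℂ} (hθ : IsIrrCharacter K θ) {k : W} (hk : k ∈ K) :
    InvBy K θ k := fun x x' e => by
  rw [show x' = (⟨k, hk⟩ : K) * x * ⟨k, hk⟩⁻¹ from Subtype.ext e]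
  exact IsCharacter.isClassFunction (IsIrrCharacter.isCharacter hθ) x ⟨k, hk⟩

/-- The elements of the normaliser fixing a function. -/
def invSubgroup (K : Subgroup W) (θ : K → ℂ) : Subgroup W where
  carrier := {g | g ∈ Subgroup.normalizer (K : Set W) ∧ InvBy K θ g}
  one_mem' := ⟨one_mem _, fun k k' e => congrArg θ (Subtype.ext (by simpa using e))⟩
  mul_mem' := fun {a b} ha hb => ⟨mul_mem ha.1 hb.1, fun k k' e =>
    (ha.2 (cj hb.1 k) k' (by simp [cj, e, mul_assoc])).trans (hb.2 k _ rfl)⟩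
  inv_mem' := fun {a} ha => ⟨inv_mem ha.1, fun k k' e =>
    (ha.2 k' k (by simp [e, mul_assoc])).symm⟩

/-- Multiplicities prime to `p` pass through a unique such constituent. -/
theorem over_mid {p : ℕ} [Fact p.Prime] {X D D' : Subgroup W} (hDX : D ≤ X) (hD : D' ≤ D)
    [Fintype D] [Fintype D'] {χ : X → ℂ} (hχ : IsCharacter X χ) {γ : IrrCharacter D}
    (hu : ∀ γ' : IrrCharacter D, Over p hDX χ (γ' : D → ℂ) → γ' = γ) {δ : IrrCharacter D'}
    (h : Over p (hD.trans hDX) χ (δ : D' → ℂ)) : Over p hD (γ : D → ℂ) (δ : D' → ℂ) := by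
  classical
  obtain ⟨m, hm, hpm⟩ := h
  have hf : IsCharacter D (fun c : D => χ ⟨(c : W), hDX c.2⟩) :=
    IsCharacter.comp hχ (Subgroup.inclusion hDX)
  choose a ha using fun η : IrrCharacter D =>
    IsCharacter.exists_classInner_nat hf (IsIrrCharacter.isCharacter η.2)
  choose b hb using fun η : IrrCharacter D => IsCharacter.exists_classInner_nat
    (IsCharacter.comp (IsIrrCharacter.isCharacter η.2) (Subgroup.inclusion hD))
    (IsIrrCharacter.isCharacter δ.2)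
  have hsum : (m : ℂ) = ((∑ η : IrrCharacter D, a η * b η : ℕ) : ℂ) := by
    rw [← hm, show (fun c : D' => χ ⟨(c : W), (hD.trans hDX) c.2⟩) =
        ∑ η : IrrCharacter D, classInner (fun c : D => χ ⟨(c : W), hDX c.2⟩) (η : D → ℂ) •
          (fun c : D' => (η : D → ℂ) (Subgroup.inclusion hD c)) from funext fun c => by
      have e := congrFun (IsCharacter.eq_sum hf) (Subgroup.inclusion hD c)
      simp only [Finset.sum_apply, Pi.smul_apply] at e ⊢
      exact e, classInner_sum_left, Nat.cast_sum]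
    refine Finset.sum_congr rfl fun η _ => ?_
    rw [classInner_smul_left, ha η, hb η, Nat.cast_mul]
  refine ⟨b γ, hb γ, fun hd => hpm ?_⟩
  rw [Nat.cast_inj.1 hsum]
  refine Finset.dvd_sum fun η _ => ?_
  by_cases hη : η = γ
  · exact hη ▸ Dvd.dvd.mul_left hd _
  · exact Dvd.dvd.mul_right (by_contra fun h => hη (hu η ⟨a η, ha η, h⟩)) _

/-- The case of a symmetry centralising the acting group. -/
theorem pair_transfer_core {p : ℕ} [Fact p.Prime] (E K K₁ : Subgroup W) [Fintype K₁]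
    (hE : IsPGroup p E) (hK : ¬ p ∣ Nat.card K) (hEK : E ≤ Subgroup.normalizer (K : Set W))
    (hK₁ : K₁ = K ⊓ Subgroup.centralizer (E : Set W)) (hK₁K : K₁ ≤ K)
    (θ : IrrCharacter K) (hθE : ∀ e ∈ E, InvBy K (θ : K → ℂ) e)
    (θ₁ : IrrCharacter K₁) (hov : Over p hK₁K (θ : K → ℂ) (θ₁ : K₁ → ℂ))
    {a v : W} (haE : a ∈ Subgroup.centralizer (E : Set W)) (hap : ¬ p ∣ orderOf a)
    (haK : a ∈ Subgroup.normalizer (K : Set W)) (haθ : InvBy K (θ : K → ℂ) a)
    (hvE : v ∈ Subgroup.normalizer (E : Set W))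
    (hvK : v ∈ Subgroup.normalizer (K : Set W)) (hvθ : InvBy K (θ : K → ℂ) v)
    (hav : a * v * a⁻¹ * v⁻¹ ∈ K₁) {c : ℂˣ} (hc : Pair K (θ : K → ℂ) a v c) :
    Pair K₁ (θ₁ : K₁ → ℂ) a v c := by
  classical
  have haEN : a ∈ Subgroup.normalizer (E : Set W) := mem_normalizer_of_conj_mem fun e he => by
    rw [← Subgroup.mem_centralizer_iff.1 haE e he, mul_inv_cancel_right]
    exact he
  have hN₁ : ∀ g, g ∈ Subgroup.normalizer (K : Set W) → g ∈ Subgroup.normalizer (E : Set W) →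
      g ∈ Subgroup.normalizer (K₁ : Set W) := fun g h h' => by
    rw [hK₁]; exact mem_normalizer_inf h (mem_normalizer_centralizer h')
  -- the extended groups
  set X := K ⊔ Subgroup.zpowers a with hXdef
  have hKX : K ≤ X := le_sup_left
  have haX : a ∈ X := Subgroup.mem_sup_right (Subgroup.mem_zpowers a)
  have hzK : Subgroup.zpowers a ≤ Subgroup.normalizer (K : Set W) := Subgroup.zpowers_le.2 haK
  have hXK : X ≤ Subgroup.normalizer (K : Set W) := sup_le Subgroup.le_normalizer hzK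
  have hmemX : ∀ z ∈ X, ∃ k ∈ K, ∃ i : ℤ, z = k * a ^ i := fun z hz => by
    rw [← SetLike.mem_coe, hXdef, Subgroup.coe_mul_of_right_le_normalizer_left _ _ hzK] at hz
    obtain ⟨k, hk, w, ⟨i, rfl⟩, rfl⟩ := hz
    exact ⟨k, hk, i, rfl⟩
  have hXp : ¬ p ∣ Nat.card X := fun hd => by
    have h := SolvBasic.card_sup_mul_card_inf hzK
    rw [← hXdef, Nat.card_zpowers] at h
    rcases (Fact.out : p.Prime).dvd_mul.1 (h ▸ Dvd.dvd.mul_right hd _) with h' | h'
    exacts [hK h', hap h']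
  have hEX : E ≤ Subgroup.normalizer (X : Set W) := fun e he =>
    mem_normalizer_of_conj_mem fun z hz => by
      obtain ⟨k, hk, i, rfl⟩ := hmemX z hz
      have h1 : e * a ^ i * e⁻¹ = a ^ i := by
        rw [Subgroup.mem_centralizer_iff.1 (Subgroup.zpow_mem _ haE i) e he, mul_inv_cancel_right]
      rw [show e * (k * a ^ i) * e⁻¹ = e * k * e⁻¹ * (e * a ^ i * e⁻¹) by group, h1]
      exact mul_mem (hKX (conj_mem (hEK he) hk)) (zpow_mem haX i)
  have hvX : v ∈ Subgroup.normalizer (X : Set W) := mem_normalizer_of_conj_mem fun z hz => by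
    obtain ⟨k, hk, i, rfl⟩ := hmemX z hz
    have h1 : v * a * v⁻¹ ∈ X := by
      have h2 := mul_mem (hKX (hK₁K (inv_mem hav))) haX
      simpa [mul_assoc] using h2
    rw [show v * (k * a ^ i) * v⁻¹ = v * k * v⁻¹ * (v * a * v⁻¹) ^ i by rw [conj_zpow]; group]
    exact mul_mem (hKX (conj_mem hvK hk)) (zpow_mem h1 i)
  set D := X ⊓ Subgroup.centralizer (E : Set W) with hD
  have hDX : D ≤ X := inf_le_left
  have haD : a ∈ D := ⟨haX, haE⟩
  have hK₁D : K₁ ≤ D := hK₁ ▸ inf_le_inf hKX le_rfl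
  have hmemD : ∀ z ∈ D, ∃ k ∈ K₁, ∃ i : ℤ, z = k * a ^ i := fun z hz => by
    obtain ⟨k, hk, i, rfl⟩ := hmemX z hz.1
    refine ⟨k, ?_, i, rfl⟩
    rw [hK₁]
    refine ⟨hk, ?_⟩
    simpa using mul_mem (Subgroup.mem_inf.1 hz).2 (inv_mem (Subgroup.zpow_mem _ haE i))
  have hDK₁ : D ≤ Subgroup.normalizer (K₁ : Set W) := fun z hz => hN₁ z (hXK hz.1)
    (mem_normalizer_of_conj_mem fun e he => by
      rw [← Subgroup.mem_centralizer_iff.1 hz.2 e he, mul_inv_cancel_right]; exact he)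
  haveI : Fintype X := Fintype.ofFinite _
  haveI : Fintype D := Fintype.ofFinite _
  haveI : Fintype K := Fintype.ofFinite _
  haveI hKn : (K.subgroupOf X).Normal := (Subgroup.normal_subgroupOf_iff_le_normalizer hKX).2 hXK
  haveI hK₁n : (K₁.subgroupOf D).Normal :=
    (Subgroup.normal_subgroupOf_iff_le_normalizer hK₁D).2 hDK₁
  haveI : Fintype (K.subgroupOf X) := Fintype.ofFinite _
  haveI : Fintype (K₁.subgroupOf D) := Fintype.ofFinite _
  have hcycX : IsCyclic (X ⧸ K.subgroupOf X) := ⟨⟨QuotientGroup.mk ⟨a, haX⟩, fun q => by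
    obtain ⟨z, rfl⟩ := QuotientGroup.mk_surjective q
    obtain ⟨k, hk, i, hz⟩ := hmemX z z.2
    refine ⟨i, ?_⟩
    have e : z = (⟨k, hKX hk⟩ : X) * ⟨a, haX⟩ ^ i := Subtype.ext hz
    simp only [e, QuotientGroup.mk_mul, QuotientGroup.mk_zpow]
    rw [(QuotientGroup.eq_one_iff (⟨k, hKX hk⟩ : X)).2 (Subgroup.mem_subgroupOf.2 hk), one_mul]⟩⟩
  have hcycD : IsCyclic (D ⧸ K₁.subgroupOf D) := ⟨⟨QuotientGroup.mk ⟨a, haD⟩, fun q => by
    obtain ⟨z, rfl⟩ := QuotientGroup.mk_surjective q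
    obtain ⟨k, hk, i, hz⟩ := hmemD z z.2
    refine ⟨i, ?_⟩
    have e : z = (⟨k, hK₁D hk⟩ : D) * ⟨a, haD⟩ ^ i := Subtype.ext hz
    simp only [e, QuotientGroup.mk_mul, QuotientGroup.mk_zpow]
    rw [(QuotientGroup.eq_one_iff (⟨k, hK₁D hk⟩ : D)).2 (Subgroup.mem_subgroupOf.2 hk), one_mul]⟩⟩
  -- the symmetries of the two characters
  have hθX : ∀ z ∈ X, InvBy K (θ : K → ℂ) z := fun z hz => by
    obtain ⟨k, hk, i, rfl⟩ := hmemX z hz
    exact (mul_mem (show k ∈ invSubgroup K (θ : K → ℂ) from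
      ⟨Subgroup.le_normalizer hk, invBy_of_mem θ.2 hk⟩)
      (zpow_mem (show a ∈ invSubgroup K (θ : K → ℂ) from ⟨haK, haθ⟩) i)).2
  have hθ₁a : InvBy K₁ (θ₁ : K₁ → ℂ) a :=
    glauber_invBy E K K₁ hE hK hEK hK₁ hK₁K hθE hov haK (hN₁ a haK haEN) haθ
  have hθ₁v : InvBy K₁ (θ₁ : K₁ → ℂ) v :=
    glauber_invBy E K K₁ hE hK hEK hK₁ hK₁K hθE hov hvK (hN₁ v hvK hvE) hvθ
  have hθ₁D : ∀ z ∈ D, InvBy K₁ (θ₁ : K₁ → ℂ) z := fun z hz => by
    obtain ⟨k, hk, i, rfl⟩ := hmemD z hz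
    exact (mul_mem (show k ∈ invSubgroup K₁ (θ₁ : K₁ → ℂ) from
      ⟨Subgroup.le_normalizer hk, invBy_of_mem θ₁.2 hk⟩)
      (zpow_mem (show a ∈ invSubgroup K₁ (θ₁ : K₁ → ℂ) from ⟨hN₁ a haK haEN, hθ₁a⟩) i)).2
  -- extensions
  have hθ' := IsIrrCharacter.comp θ.2 (Subgroup.subgroupOfEquivOfLe hKX).toMonoidHom
    (Subgroup.subgroupOfEquivOfLe hKX).surjective
  have hθ₁' := IsIrrCharacter.comp θ₁.2 (Subgroup.subgroupOfEquivOfLe hK₁D).toMonoidHom
    (Subgroup.subgroupOfEquivOfLe hK₁D).surjective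
  obtain ⟨ψ, hψ⟩ := exists_ext_cyclic (K.subgroupOf X) hθ'
    (fun g n => hθX g g.2 _ _ (by simp)) hcycX
  have hres : ∀ k : K, (ψ : X → ℂ) ⟨(k : W), hKX k.2⟩ = (θ : K → ℂ) k := fun k =>
    hψ ⟨⟨(k : W), hKX k.2⟩, Subgroup.mem_subgroupOf.2 k.2⟩
  have hψirr : IsIrrCharacter (K.subgroupOf X) (fun n : K.subgroupOf X => (ψ : X → ℂ) n) := by
    convert hθ' using 1; exact funext hψ
  -- invariance of the extension
  have hψE : ∀ e ∈ E, InvBy X (ψ : X → ℂ) e := by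
    intro e he
    obtain ⟨lam, hl, hlam⟩ := exists_twist (K.subgroupOf X) ψ.2 (cjOf (hEX he) ψ).2 hψirr
      fun n => by
        show (ψ : X → ℂ) (cj (hEX he) (n : X)) = _
        refine (hres ⟨e * ((n : X) : W) * e⁻¹, conj_mem (hEK he) (Subgroup.mem_subgroupOf.1 n.2)⟩).trans ?_
        exact (hθE e he ⟨((n : X) : W), Subgroup.mem_subgroupOf.1 n.2⟩ _ rfl).trans (hψ n).symm
    have hfix : ∀ z : X, lam (cj (hEX he) z) = lam z := fun z => by
      have hz : z⁻¹ * cj (hEX he) z ∈ K.subgroupOf X := by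
        obtain ⟨k, hk, i, hz⟩ := hmemX z z.2
        rw [Subgroup.mem_subgroupOf]
        show (z : W)⁻¹ * (e * z * e⁻¹) ∈ K
        rw [hz, show e * (k * a ^ i) * e⁻¹ = e * k * e⁻¹ * (e * a ^ i * e⁻¹) by group,
          Subgroup.mem_centralizer_iff.1 (Subgroup.zpow_mem _ haE i) e he, mul_inv_cancel_right,
          show (k * a ^ i)⁻¹ * (e * k * e⁻¹ * a ^ i) = a ^ (-i) * (k⁻¹ * (e * k * e⁻¹)) * (a ^ (-i))⁻¹
            by group]
        exact conj_mem (zpow_mem haK _) (mul_mem (inv_mem hk) (conj_mem (hEK he) hk))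
      calc lam (cj (hEX he) z) = lam (z * (z⁻¹ * cj (hEX he) z)) := by rw [mul_inv_cancel_left]
        _ = _ := by rw [map_mul, hl ⟨_, hz⟩, mul_one]
    have hit : ∀ (n : ℕ) (z : X), (ψ : X → ℂ) ((cj (hEX he))^[n] z) = (lam z : ℂ) ^ n * (ψ : X → ℂ) z := by
      intro n
      induction n with
      | zero => intro z; simp
      | succ n ih =>
        intro z
        rw [Function.iterate_succ_apply, ih, hfix, ← cjOf_apply, hlam, pow_succ, mul_assoc]
    have hiter : ∀ (n : ℕ) (z : X), (((cj (hEX he))^[n] z : X) : W) = e ^ n * z * (e ^ n)⁻¹ := by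
      intro n
      induction n with
      | zero => intro z; simp
      | succ n ih =>
        intro z
        rw [Function.iterate_succ_apply, ih]
        show e ^ n * (e * z * e⁻¹) * (e ^ n)⁻¹ = _
        rw [pow_succ]; group
    obtain ⟨j, hj⟩ := hE ⟨e, he⟩
    have hj' : e ^ p ^ j = 1 := by simpa using congrArg Subtype.val hj
    have h1 : lam ^ p ^ j = 1 := twist_unique (K.subgroupOf X) ψ.2 hψirr
      (fun n => by simp [hl n]) fun z => by
        rw [MonoidHom.pow_apply, Units.val_pow_eq_pow_val, ← hit]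
        exact congrArg _ (Subtype.ext (by simp [hiter, hj']))
    have h2 : lam ^ Nat.card X = 1 := MonoidHom.ext fun z => by
      rw [MonoidHom.pow_apply, ← map_pow, pow_card_eq_one', map_one, MonoidHom.one_apply]
    have h3 : lam = 1 := MonoidHom.ext fun z => eq_one_of_pow_coprime
      (DFunLike.congr_fun h1 z) (DFunLike.congr_fun h2 z)
      (Nat.Coprime.pow_left j (((Fact.out : p.Prime).coprime_iff_not_dvd).2 hXp))
    rw [invBy_iff_cjOf (hEX he)]
    exact Subtype.ext (funext fun z => by rw [hlam, h3]; simp)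
  obtain ⟨ψ₀, hov₀, huψ⟩ := glauber_fwd E X D hE hXp hEX hD hDX ψ hψE
  -- the correspondent extends `θ₁`
  have hov₁ : Over p hK₁D (ψ₀ : D → ℂ) (θ₁ : K₁ → ℂ) := by
    refine over_mid hDX hK₁D (IsIrrCharacter.isCharacter ψ.2) huψ ?_
    obtain ⟨m, hm, hpm⟩ := hov
    refine ⟨m, ?_, hpm⟩
    rw [← hm]
    exact congrArg (fun f => classInner f (θ₁ : K₁ → ℂ))
      (funext fun k => hres ⟨(k : W), hK₁K k.2⟩)
  obtain ⟨ψ₁, hψ₁⟩ := exists_ext_cyclic (K₁.subgroupOf D) hθ₁'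
    (fun g n => hθ₁D g g.2 _ _ (by simp)) hcycD
  have hψ₁irr : IsIrrCharacter (K₁.subgroupOf D) (fun n : K₁.subgroupOf D => (ψ₁ : D → ℂ) n) := by
    convert hθ₁' using 1; exact funext hψ₁
  have hres₀ : ∀ k : K₁, (ψ₀ : D → ℂ) ⟨(k : W), hK₁D k.2⟩ = (θ₁ : K₁ → ℂ) k := by
    obtain ⟨-, -, h3⟩ := gallagher_one (K₁.subgroupOf D) (IsIrrCharacter.isCharacter ψ₁.2) hψ₁irr
    obtain ⟨β, hβ, heq⟩ := h3 ψ₀ ψ₀.2 (by
      obtain ⟨m, hm, hpm⟩ := hov₁
      rw [show (fun n : K₁.subgroupOf D => (ψ₁ : D → ℂ) n) = fun n =>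
          (θ₁ : K₁ → ℂ) ((Subgroup.subgroupOfEquivOfLe hK₁D).toMonoidHom n) from funext hψ₁,
        show (fun n : K₁.subgroupOf D => (ψ₀ : D → ℂ) n) = fun n =>
          (fun k : K₁ => (ψ₀ : D → ℂ) ⟨(k : W), hK₁D k.2⟩)
            ((Subgroup.subgroupOfEquivOfLe hK₁D).toMonoidHom n) from rfl]
      have e := RelGlauberman.classInner_comp_surj (Subgroup.subgroupOfEquivOfLe hK₁D).toMonoidHom
        (Subgroup.subgroupOfEquivOfLe hK₁D).surjective
        (fun k : K₁ => (ψ₀ : D → ℂ) ⟨(k : W), hK₁D k.2⟩) (θ₁ : K₁ → ℂ)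
      refine ne_of_eq_of_ne (e.trans hm) (Nat.cast_ne_zero.2 ?_)
      exact fun h0 => hpm (h0 ▸ dvd_zero p))
    have hβ1 : (β : D → ℂ) 1 = 1 := degree_one_of_commutators β.2 fun x y => by
      refine hβ ⟨x * y * x⁻¹ * y⁻¹, ?_⟩
      letI : CommGroup (D ⧸ K₁.subgroupOf D) := IsCyclic.commGroup
      rw [← QuotientGroup.eq_one_iff]
      simp only [QuotientGroup.mk_mul, QuotientGroup.mk_inv]
      rw [mul_inv_cancel_comm, mul_inv_cancel]
    intro k
    have e := congrFun heq ⟨(k : W), hK₁D k.2⟩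
    rw [Pi.mul_apply, hβ ⟨⟨(k : W), hK₁D k.2⟩, Subgroup.mem_subgroupOf.2 k.2⟩, hβ1, one_mul] at e
    exact e.symm.trans (hψ₁ ⟨⟨(k : W), hK₁D k.2⟩, Subgroup.mem_subgroupOf.2 k.2⟩)
  -- the twist by `v`
  obtain ⟨lam, hl, hlam⟩ := exists_twist (K.subgroupOf X) ψ.2 (cjOf hvX ψ).2 hψirr fun n => by
    show (ψ : X → ℂ) (cj hvX (n : X)) = _
    refine (hres ⟨v * ((n : X) : W) * v⁻¹, conj_mem hvK (Subgroup.mem_subgroupOf.1 n.2)⟩).trans ?_
    exact (hvθ ⟨((n : X) : W), Subgroup.mem_subgroupOf.1 n.2⟩ _ rfl).trans (hψ n).symm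
  have hvD : v ∈ Subgroup.normalizer (D : Set W) :=
    mem_normalizer_inf hvX (mem_normalizer_centralizer hvE)
  have htw₀ : ∀ z : D, (ψ₀ : D → ℂ) (cj hvD z) =
      (lam (Subgroup.inclusion hDX z) : ℂ) * (ψ₀ : D → ℂ) z := by
    have hχE : ∀ e ∈ E, InvBy X (cjOf hvX ψ : X → ℂ) e := fun e he k k' hk => by
      refine hψE (v * e * v⁻¹) (conj_mem hvE he) (cj hvX k) (cj hvX k') ?_
      simp [cj, hk, mul_assoc]
    obtain ⟨γ, -, hγu⟩ := glauber_fwd E X D hE hXp hEX hD hDX (cjOf hvX ψ) hχE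
    let lamD : D →* ℂˣ := lam.comp (Subgroup.inclusion hDX)
    let δ : IrrCharacter D := ⟨fun z => (lamD z : ℂ) * (ψ₀ : D → ℂ) z, isIrr_linear_mul ψ₀.2 lamD⟩
    have h1 := hγu _ (over_cjOf hDX hvX hvD hov₀)
    have h2 := hγu δ (by
      obtain ⟨m, hm, hpm⟩ := hov₀
      refine ⟨m, ?_, hpm⟩
      rw [← hm]
      unfold classInner
      refine congrArg _ (Finset.sum_congr rfl fun z _ => ?_)
      have hn : (lamD z : ℂ) * conj (lamD z : ℂ) = 1 := by
        rw [Complex.mul_conj', norm_eq_one_of_pow (Nat.card_pos (α := D)).ne' ?_]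
        · norm_num
        · rw [← Units.val_pow_eq_pow_val, ← map_pow, pow_card_eq_one', map_one, Units.val_one]
      show (cjOf hvX ψ : X → ℂ) _ * conj ((lamD z : ℂ) * (ψ₀ : D → ℂ) z) = _
      rw [hlam, map_mul, show lam ⟨(z : W), hDX z.2⟩ = lamD z from rfl]
      linear_combination ((ψ : X → ℂ) ⟨(z : W), hDX z.2⟩ * conj ((ψ₀ : D → ℂ) z)) * hn)
    exact fun z => congrFun (congrArg Subtype.val (h1.trans h2.symm)) z
  obtain ⟨c', hc'⟩ := pair_exists θ₁.2 (hN₁ a haK haEN) (hN₁ v hvK hvE) hθ₁a hθ₁v hav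
  have e1 := pair_eq_twist X hKX haX hXK hvK (fun z hz => conj_mem hvX hz) ψ.2 θ.2 hvθ hres
    (fun z => (lam z : ℂ)) (fun k hk z => by
      simp [map_mul, hl ⟨k, Subgroup.mem_subgroupOf.2 hk⟩]) hlam hc
  have e2 := pair_eq_twist D hK₁D haD hDK₁ (hN₁ v hvK hvE) (fun z hz => conj_mem hvD hz) ψ₀.2 θ₁.2
    hθ₁v hres₀ (fun z => (lam (Subgroup.inclusion hDX z) : ℂ)) (fun k hk z => by
      simp [map_mul, hl ⟨Subgroup.inclusion hDX k, Subgroup.mem_subgroupOf.2 (hK₁K hk)⟩]) htw₀ hc'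
  exact (Units.ext (e1.trans e2.symm) : c = c') ▸ hc'

theorem pairing_transfer_aux {p : ℕ} [Fact p.Prime] (R A : Subgroup W) (hR : IsPGroup p R)
    (hA : ¬ p ∣ Nat.card A) (hAR : A ≤ Subgroup.normalizer (R : Set W)) (n : ℕ) :
    ∀ (K C : Subgroup W) [Fintype C] (hCK : C ≤ K),
      Nat.card R - Nat.card (R ⊓ Subgroup.centralizer (K : Set W) : Subgroup W) = n →
      C = K ⊓ Subgroup.centralizer (R : Set W) → ¬ p ∣ Nat.card K →
      R ≤ Subgroup.normalizer (K : Set W) → A ≤ Subgroup.normalizer (K : Set W) →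
      (∀ x ∈ A, ∀ y ∈ A, x * y * x⁻¹ * y⁻¹ ∈ C) →
      ∀ (θ : IrrCharacter K) (φ : IrrCharacter C), (∀ r ∈ R, InvBy K (θ : K → ℂ) r) →
      (∀ x ∈ A, InvBy K (θ : K → ℂ) x) → Over p hCK (θ : K → ℂ) (φ : C → ℂ) →
      ∀ x ∈ A, ∀ y ∈ A, ∀ c : ℂˣ, Pair K (θ : K → ℂ) x y c → Pair C (φ : C → ℂ) x y c := by
  classical
  induction n using Nat.strongRecOn with
  | _ n ih =>
  intro K C _ hCK hn hC hK hRK hAK hcomm θ φ hθR hθA hov
  by_cases hbase : R ≤ Subgroup.centralizer (K : Set W)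
  · have hCeq : C = K := by
      refine le_antisymm hCK fun k hk => hC ▸ ⟨hk, Subgroup.mem_centralizer_iff.2 fun r hr => ?_⟩
      exact (Subgroup.mem_centralizer_iff.1 (hbase hr) k hk).symm
    subst hCeq
    have heq : θ = φ := by
      by_contra hne
      obtain ⟨m, hm, hpm⟩ := hov
      rw [classInner_irr_of_ne θ.2 φ.2 fun e => hne (Subtype.ext e)] at hm
      exact hpm ((Nat.cast_eq_zero.1 hm.symm).symm ▸ dvd_zero p)
    exact heq ▸ fun x _ y _ c hc => hc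
  set R₀ := R ⊓ Subgroup.centralizer (K : Set W) with hR₀
  have hR₀R : R₀ ≤ R := inf_le_left
  have hnR₀ : ∀ g, g ∈ Subgroup.normalizer (R : Set W) → g ∈ Subgroup.normalizer (K : Set W) →
      g ∈ Subgroup.normalizer (R₀ : Set W) := fun g h h' =>
    mem_normalizer_inf h (mem_normalizer_centralizer h')
  have hRR₀ : ∀ r ∈ R, r ∈ Subgroup.normalizer (R₀ : Set W) := fun r hr =>
    hnR₀ r (Subgroup.le_normalizer hr) (hRK hr)
  let Z : Subgroup W :=
    { carrier := {r | r ∈ R ∧ ∀ s ∈ R, s * r * s⁻¹ * r⁻¹ ∈ R₀}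
      one_mem' := ⟨one_mem _, fun s _ => by simp⟩
      mul_mem' := fun {r r'} h h' => ⟨mul_mem h.1 h'.1, fun s hs => by
        rw [show s * (r * r') * s⁻¹ * (r * r')⁻¹ =
          s * r * s⁻¹ * r⁻¹ * (r * (s * r' * s⁻¹ * r'⁻¹) * r⁻¹) by group]
        exact mul_mem (h.2 s hs) (conj_mem (hRR₀ r h.1) (h'.2 s hs))⟩
      inv_mem' := fun {r} h => ⟨inv_mem h.1, fun s hs => by
        rw [show s * r⁻¹ * s⁻¹ * r⁻¹⁻¹ = r⁻¹ * (s * r * s⁻¹ * r⁻¹)⁻¹ * r⁻¹⁻¹ by group]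
        exact conj_mem (hRR₀ _ (inv_mem h.1)) (inv_mem (h.2 s hs))⟩ }
  have hR₀Z : R₀ ≤ Z := fun r hr => ⟨hr.1, fun s hs =>
    mul_mem (conj_mem (hRR₀ s hs) hr) (inv_mem hr)⟩
  have hlt : R₀ < Z := by
    refine lt_of_le_of_ne hR₀Z fun e => ?_
    haveI : (R₀.subgroupOf R).Normal := (Subgroup.normal_subgroupOf_iff_le_normalizer hR₀R).2 hRR₀
    haveI : Nontrivial (R ⧸ R₀.subgroupOf R) := by
      rw [QuotientGroup.nontrivial_iff]
      exact fun ht => hbase fun r hr =>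
        ((Subgroup.mem_subgroupOf (H := R₀) (K := R)).1 (ht ▸ Subgroup.mem_top (⟨r, hr⟩ : R))).2
    haveI := (hR.to_quotient (R₀.subgroupOf R)).center_nontrivial
    obtain ⟨⟨q, hq⟩, hq1⟩ := exists_ne (1 : Subgroup.center (R ⧸ R₀.subgroupOf R))
    obtain ⟨r, rfl⟩ := QuotientGroup.mk_surjective q
    refine hq1 (Subtype.ext ((QuotientGroup.eq_one_iff r).2 (Subgroup.mem_subgroupOf.2 ?_)))
    rw [e]
    refine ⟨r.2, fun s hs => ?_⟩
    have h := Subgroup.mem_center_iff.1 hq (QuotientGroup.mk ⟨s, hs⟩)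
    rw [← QuotientGroup.mk_mul, ← QuotientGroup.mk_mul, QuotientGroup.eq_iff_div_mem,
      Subgroup.mem_subgroupOf] at h
    simpa [div_eq_mul_inv, mul_assoc] using h
  have hZA : ∀ a ∈ A, ∀ r ∈ Z, a * r * a⁻¹ ∈ Z := fun a ha r hr =>
    ⟨conj_mem (hAR ha) hr.1, fun s hs => by
      rw [show s * (a * r * a⁻¹) * s⁻¹ * (a * r * a⁻¹)⁻¹ =
        a * ((a⁻¹ * s * a) * r * (a⁻¹ * s * a)⁻¹ * r⁻¹) * a⁻¹ by group]
      exact conj_mem (hnR₀ a (hAR ha) (hAK ha))
        (hr.2 _ ((Subgroup.mem_normalizer_iff''.1 (hAR ha) s).1 hs))⟩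
  obtain ⟨E, ⟨hR₀E, hEZ, hEA⟩, hmin⟩ := exists_minimal_of_wellFoundedLT
    (fun E : Subgroup W => R₀ < E ∧ E ≤ Z ∧ ∀ a ∈ A, ∀ e ∈ E, a * e * a⁻¹ ∈ E) ⟨Z, hlt, le_rfl, hZA⟩
  have hER : E ≤ R := fun e he => (hEZ he).1
  have hRE : ∀ r ∈ R, r ∈ Subgroup.normalizer (E : Set W) := fun r hr =>
    mem_normalizer_of_conj_mem fun e he => by
      simpa using mul_mem (hR₀E.le ((hEZ he).2 r hr)) he
  have hEp : IsPGroup p E := hR.to_le hER
  have hEK : E ≤ Subgroup.normalizer (K : Set W) := hER.trans hRK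
  set K₁ := K ⊓ Subgroup.centralizer (E : Set W) with hK₁
  haveI : Fintype K₁ := Fintype.ofFinite _
  have hK₁K : K₁ ≤ K := inf_le_left
  obtain ⟨θ₁, hov₁, hu₁⟩ := glauber_fwd E K K₁ hEp hK hEK hK₁ hK₁K θ fun e he => hθR e (hER he)
  have hCK₁ : C ≤ K₁ := fun c hc => by
    have := hC ▸ hc
    exact ⟨hCK hc, Subgroup.centralizer_le (s := (E : Set W)) hER this.2⟩
  have hC' : C = K₁ ⊓ Subgroup.centralizer (R : Set W) :=
    le_antisymm (fun c hc => ⟨hCK₁ hc, (hC ▸ hc : c ∈ K ⊓ _).2⟩)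
      (fun c hc => hC ▸ ⟨hK₁K hc.1, hc.2⟩)
  have hK₁p : ¬ p ∣ Nat.card K₁ := fun h => hK (h.trans (Subgroup.card_dvd_of_le hK₁K))
  have hAE : ∀ a ∈ A, a ∈ Subgroup.normalizer (E : Set W) := fun a ha =>
    mem_normalizer_of_conj_mem (hEA a ha)
  have hN₁ : ∀ g, g ∈ Subgroup.normalizer (K : Set W) → g ∈ Subgroup.normalizer (E : Set W) →
      g ∈ Subgroup.normalizer (K₁ : Set W) := fun g h h' =>
    mem_normalizer_inf h (mem_normalizer_centralizer h')
  have hθ₁R : ∀ r ∈ R, InvBy K₁ (θ₁ : K₁ → ℂ) r := fun r hr =>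
    glauber_invBy E K K₁ hEp hK hEK hK₁ hK₁K (fun e he => hθR e (hER he)) hov₁ (hRK hr)
      (hN₁ r (hRK hr) (hRE r hr)) (hθR r hr)
  have hθ₁A : ∀ a ∈ A, InvBy K₁ (θ₁ : K₁ → ℂ) a := fun a ha =>
    glauber_invBy E K K₁ hEp hK hEK hK₁ hK₁K (fun e he => hθR e (hER he)) hov₁ (hAK ha)
      (hN₁ a (hAK ha) (hAE a ha)) (hθA a ha)
  have hmeas : Nat.card R - Nat.card (R ⊓ Subgroup.centralizer (K₁ : Set W) : Subgroup W) < n := by
    have h1 : E ≤ R ⊓ Subgroup.centralizer (K₁ : Set W) := fun e he =>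
      ⟨hER he, Subgroup.mem_centralizer_iff.2 fun k hk =>
        (Subgroup.mem_centralizer_iff.1 hk.2 e he).symm⟩
    have h2 := Subgroup.card_le_of_le h1
    have h3 := Subgroup.card_le_of_le (inf_le_left : R ⊓ Subgroup.centralizer (K₁ : Set W) ≤ R)
    have h4 : Nat.card R₀ < Nat.card E :=
      lt_of_le_of_ne (Subgroup.card_le_of_le hR₀E.le) fun e =>
        hR₀E.ne (Subgroup.eq_of_le_of_card_ge hR₀E.le e.ge)
    omega
  have hnext := ih _ hmeas K₁ C hCK₁ rfl hC' hK₁p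
    (fun r hr => hN₁ r (hRK hr) (hRE r hr)) (fun a ha => hN₁ a (hAK ha) (hAE a ha)) hcomm θ₁ φ
    hθ₁R hθ₁A (over_mid hK₁K hCK₁ (IsIrrCharacter.isCharacter θ.2) hu₁ hov)
  -- equality of the two pairings
  let P : W → W → Prop := fun x y => ∀ c, Pair K (θ : K → ℂ) x y c → Pair K₁ (θ₁ : K₁ → ℂ) x y c
  suffices hP : ∀ x ∈ A, ∀ y ∈ A, P x y from fun x hx y hy c hc => hnext x hx y hy c (hP x hx y hy c hc)
  have hNA : ∀ x ∈ A, x ∈ Subgroup.normalizer (K₁ : Set W) := fun x hx =>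
    hN₁ x (hAK hx) (hAE x hx)
  have hmul : ∀ x ∈ A, ∀ x' ∈ A, ∀ y ∈ A, P x y → P x' y → P (x * x') y := by
    intro x hx x' hx' y hy h h' c hc
    obtain ⟨c₁, h₁⟩ := pair_exists θ.2 (hAK hx) (hAK hy) (hθA x hx) (hθA y hy) (hCK (hcomm x hx y hy))
    obtain ⟨c₂, h₂⟩ :=
      pair_exists θ.2 (hAK hx') (hAK hy) (hθA x' hx') (hθA y hy) (hCK (hcomm x' hx' y hy))
    rw [pair_unique θ.2 (mul_mem (hAK hx) (hAK hx')) (hAK hy) hc
      (pair_mul_left θ.2 (hAK hx) (hAK hx') (hAK hy) h₁ h₂)]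
    exact pair_mul_left θ₁.2 (hNA x hx) (hNA x' hx') (hNA y hy) (h _ h₁) (h' _ h₂)
  have hswap : ∀ x y, P x y → P y x := fun x y h c hc => inv_inv c ▸ pair_swap (h _ (pair_swap hc))
  have hself : ∀ x ∈ A, P x x := fun x hx c hc => by
    rw [pair_unique θ.2 (hAK hx) (hAK hx) hc (pair_self θ.2 (hAK hx) (hθA x hx))]
    exact pair_self θ₁.2 (hNA x hx) (hθ₁A x hx)
  -- the action on the chief factor
  set M := R₀.subgroupOf E with hM
  haveI : M.Normal := (Subgroup.normal_subgroupOf_iff_le_normalizer hR₀E.le).2 fun e he =>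
    hRR₀ e (hER he)
  have hAR₀ : ∀ a ∈ A, ∀ r ∈ R₀, a * r * a⁻¹ ∈ R₀ := fun a ha r hr =>
    conj_mem (hnR₀ a (hAR ha) (hAK ha)) hr
  letI : CommGroup (E ⧸ M) :=
    { (inferInstance : Group (E ⧸ M)) with
      mul_comm := fun q q' => by
        obtain ⟨e, rfl⟩ := QuotientGroup.mk_surjective q
        obtain ⟨e', rfl⟩ := QuotientGroup.mk_surjective q'
        refine (QuotientGroup.eq_iff_div_mem.2 (Subgroup.mem_subgroupOf.2 ?_))
        simpa [div_eq_mul_inv, mul_assoc] using (hEZ e'.2).2 e (hER e.2) }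
  let act : A → (E ⧸ M →* E ⧸ M) := fun a => QuotientGroup.map M M (cj (hAE a a.2)) fun e he =>
    (Subgroup.mem_subgroupOf (H := R₀) (h := cj (hAE a a.2) e)).2
      (hAR₀ a a.2 _ (Subgroup.mem_subgroupOf.1 he))
  have hact : ∀ a b q, act a (act b q) = act (a * b) q := fun a b q => by
    obtain ⟨e, rfl⟩ := QuotientGroup.mk_surjective q
    exact congrArg QuotientGroup.mk (Subtype.ext (by simp [cj, mul_assoc]))
  have hact1 : ∀ q, act 1 q = q := fun q => by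
    obtain ⟨e, rfl⟩ := QuotientGroup.mk_surjective q
    exact congrArg QuotientGroup.mk (Subtype.ext (by simp [cj]))
  let f : A →* MulAut (E ⧸ M) :=
    { toFun := fun a =>
        { toFun := act a
          invFun := act a⁻¹
          left_inv := fun q => by rw [hact, inv_mul_cancel, hact1]
          right_inv := fun q => by rw [hact, mul_inv_cancel, hact1]
          map_mul' := map_mul (act a) }
      map_one' := MulEquiv.ext hact1
      map_mul' := fun a b => MulEquiv.ext fun q => (hact a b q).symm }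
  have hfc : ∀ a b, f a * f b = f b * f a := fun ⟨a, ha⟩ ⟨b, hb⟩ => MulEquiv.ext fun q => by
    obtain ⟨e, rfl⟩ := QuotientGroup.mk_surjective q
    refine congrArg QuotientGroup.mk (Subtype.ext ?_)
    show a * (b * e * b⁻¹) * a⁻¹ = b * (a * e * a⁻¹) * b⁻¹
    have hc := Subgroup.mem_centralizer_iff.1 (hC ▸ hcomm a ha b hb : _ ∈ K ⊓ _).2
      (b * (a * e * a⁻¹) * b⁻¹) (hER (hEA b hb _ (hEA a ha _ e.2)))
    calc a * (b * e * b⁻¹) * a⁻¹ =
          (a * b * a⁻¹ * b⁻¹) * (b * (a * e * a⁻¹) * b⁻¹) * (a * b * a⁻¹ * b⁻¹)⁻¹ := by group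
      _ = _ := by rw [← hc, mul_inv_cancel_right]
  haveI : Nontrivial (E ⧸ M) := by
    rw [QuotientGroup.nontrivial_iff]
    exact fun ht => hR₀E.not_ge fun e he =>
      Subgroup.mem_subgroupOf.1 (ht ▸ Subgroup.mem_top (⟨e, he⟩ : E))
  have hirr : ∀ U : Subgroup (E ⧸ M), (∀ a, ∀ q ∈ U, f a q ∈ U) → U = ⊥ ∨ U = ⊤ := by
    intro U hU
    let E' := (U.comap (QuotientGroup.mk' M)).map E.subtype
    have hE'E : E' ≤ E := Subgroup.map_subtype_le _
    have hR₀E' : R₀ ≤ E' := fun r hr => ⟨⟨r, hR₀E.le hr⟩, by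
      show ((⟨r, hR₀E.le hr⟩ : E) : E ⧸ M) ∈ U
      rw [(QuotientGroup.eq_one_iff _).2 (Subgroup.mem_subgroupOf.2 hr)]
      exact one_mem U, rfl⟩
    rcases eq_or_lt_of_le hR₀E' with h | h
    · refine Or.inl ((Subgroup.eq_bot_iff_forall _).2 fun q hq => ?_)
      obtain ⟨e, rfl⟩ := QuotientGroup.mk_surjective q
      exact (QuotientGroup.eq_one_iff e).2 (Subgroup.mem_subgroupOf.2 (h ▸ ⟨e, hq, rfl⟩))
    · refine Or.inr (eq_top_iff.2 fun q _ => ?_)
      have hEE' : E ≤ E' := hmin ⟨h, hE'E.trans hEZ, by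
        rintro a ha _ ⟨e, he, rfl⟩
        exact ⟨cj (hAE a ha) e, hU ⟨a, ha⟩ _ he, rfl⟩⟩ hE'E
      obtain ⟨e, rfl⟩ := QuotientGroup.mk_surjective q
      obtain ⟨e', he', hee⟩ := hEE' e.2
      exact Subtype.ext hee ▸ he'
  obtain ⟨⟨_, g, rfl⟩, hg⟩ := (isCyclic_of_irreducible f hfc hirr).exists_generator
  -- elements acting trivially
  have hB : ∀ b : A, f b = 1 → ∀ y ∈ A, P b y := by
    intro b hb y hy c hc
    let Eb := E ⊓ Subgroup.centralizer (Subgroup.zpowers (b : W) : Set W)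
    have hdec : ∀ e ∈ E, ∃ c ∈ Eb, c⁻¹ * e ∈ R₀ := by
      intro e he
      have hbA : ¬ p ∣ orderOf (b : W) := fun h => hA (h.trans (by
        rw [Subgroup.orderOf_coe]; exact orderOf_dvd_natCard b))
      obtain ⟨k, hk⟩ := IsPGroup.iff_card.1 hEp
      obtain ⟨c, hc, hcR⟩ := CoprimeAct.exists_mem_centralizer
        (A := Subgroup.zpowers (b : W)) (Subgroup.zpowers_le.2 (hAE b b.2))
        (by rw [Nat.card_zpowers, hk]
            exact Nat.Coprime.pow_right k ((((Fact.out : p.Prime).coprime_iff_not_dvd).2 hbA).symm))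
        (Or.inr (by haveI := hEp.isNilpotent; infer_instance))
        hR₀E.le (fun e he => hRR₀ e (hER he))
        (Subgroup.zpowers_le.2 (hnR₀ b (hAR b.2) (hAK b.2))) he (by
          rintro _ ⟨i, rfl⟩
          have h1 : f (b ^ i) = 1 := by rw [map_zpow, hb, one_zpow]
          have h2 := congrArg (fun F : MulAut (E ⧸ M) => F (QuotientGroup.mk ⟨e, he⟩)) h1
          have h3 := QuotientGroup.eq_iff_div_mem.1 (h2 :
            ((cj (hAE _ (b ^ i).2) ⟨e, he⟩ : E) : E ⧸ M) = ((⟨e, he⟩ : E) : E ⧸ M))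
          simpa [M, Subgroup.mem_subgroupOf, div_eq_mul_inv, cj] using h3)
      exact ⟨c, hc, by simpa using inv_mem hcR⟩
    have hK₁b : K₁ = K ⊓ Subgroup.centralizer (Eb : Set W) := by
      refine le_antisymm (inf_le_inf le_rfl (Subgroup.centralizer_le inf_le_left)) ?_
      intro k hk
      refine ⟨hk.1, Subgroup.mem_centralizer_iff.2 fun e he => ?_⟩
      obtain ⟨c, hc, hcR⟩ := hdec e he
      have h1 : Commute c k := Subgroup.mem_centralizer_iff.1 hk.2 c hc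
      have h2 : Commute (c⁻¹ * e) k := (Subgroup.mem_centralizer_iff.1 hcR.2 k hk.1).symm
      have h3 := h1.mul_left h2
      rw [mul_inv_cancel_left] at h3
      exact h3
    refine pair_transfer_core Eb K K₁ (hEp.to_le inf_le_left) hK (inf_le_left.trans hEK) hK₁b
      hK₁K θ (fun e he => hθR e (hER he.1)) θ₁ hov₁
      (Subgroup.mem_centralizer_iff.2 fun e he =>
        (Subgroup.mem_centralizer_iff.1 he.2 b (Subgroup.mem_zpowers _)).symm)
      (fun h => hA (h.trans (by rw [Subgroup.orderOf_coe]; exact orderOf_dvd_natCard b)))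
      (hAK b.2) (hθA b b.2) ?_ (hAK hy) (hθA y hy) (hCK₁ (hcomm b b.2 y hy)) hc
    refine mem_normalizer_of_conj_mem fun e he => ⟨hEA y hy e he.1,
      Subgroup.mem_centralizer_iff.2 ?_⟩
    rintro _ ⟨i, rfl⟩
    refine (Commute.zpow_left (?_ : Commute (b : W) (y * e * y⁻¹)) i)
    have h1 : Commute (b : W) e := Subgroup.mem_centralizer_iff.1 he.2 b (Subgroup.mem_zpowers _)
    have h2 : Commute (y * b * y⁻¹ * b⁻¹) (y * e * y⁻¹) :=
      (Subgroup.mem_centralizer_iff.1 (hC ▸ hcomm y hy b b.2 : _ ∈ K ⊓ _).2 _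
        (hER (hEA y hy e he.1))).symm
    have h3 : Commute (y * b * y⁻¹) (y * e * y⁻¹) := by
      show y * b * y⁻¹ * (y * e * y⁻¹) = y * e * y⁻¹ * (y * b * y⁻¹)
      calc y * b * y⁻¹ * (y * e * y⁻¹) = y * (b * e) * y⁻¹ := by group
        _ = y * (e * b) * y⁻¹ := by rw [h1.eq]
        _ = _ := by group
    have h4 := h2.inv_left.mul_left h3
    simpa [mul_assoc] using h4
  have h1B : ∀ y ∈ A, P 1 y := fun y hy => hB 1 (map_one f) y hy
  have hgA : (g : W) ∈ A := g.2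
  have hg1 : ∀ i : ℕ, P ((g : W) ^ i) g := fun i => by
    induction i with
    | zero => simpa using h1B g hgA
    | succ i ih => rw [pow_succ]; exact hmul _ (pow_mem hgA i) _ hgA _ hgA ih (hself g hgA)
  have hgg : ∀ i j : ℕ, P ((g : W) ^ j) ((g : W) ^ i) := fun i j => by
    induction j with
    | zero => simpa using h1B _ (pow_mem hgA i)
    | succ j ih =>
      rw [pow_succ]
      exact hmul _ (pow_mem hgA j) _ hgA _ (pow_mem hgA i) ih (hswap _ _ (hg1 i))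
  have hdecA : ∀ x ∈ A, ∃ b : A, f b = 1 ∧ ∃ i : ℕ, x = b * (g : W) ^ i := fun x hx => by
    obtain ⟨i, hi⟩ := (mem_powers_iff_mem_zpowers).2 (hg ⟨f ⟨x, hx⟩, _, rfl⟩)
    have hi' : f g ^ i = f ⟨x, hx⟩ := congrArg Subtype.val hi
    exact ⟨⟨x, hx⟩ * (g ^ i)⁻¹, by rw [map_mul, map_inv, map_pow, hi', mul_inv_cancel], i, by simp⟩
  have hright : ∀ i : ℕ, ∀ y ∈ A, P ((g : W) ^ i) y := fun i y hy => by
    obtain ⟨b', hb', j, rfl⟩ := hdecA y hy
    exact hswap _ _ (hmul _ b'.2 _ (pow_mem hgA j) _ (pow_mem hgA i) (hB b' hb' _ (pow_mem hgA i))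
      (hgg i j))
  intro x hx y hy
  obtain ⟨b, hb, i, rfl⟩ := hdecA x hx
  exact hmul _ b.2 _ (pow_mem hgA i) _ hy (hB b hb y hy) (hright i y hy)

/-- The correspondence preserves the pairing. -/
theorem pairing_transfer {p : ℕ} [Fact p.Prime] (R A K C : Subgroup W) [Fintype C]
    (hR : IsPGroup p R) (hA : ¬ p ∣ Nat.card A) (hK : ¬ p ∣ Nat.card K)
    (hAR : A ≤ Subgroup.normalizer (R : Set W)) (hRK : R ≤ Subgroup.normalizer (K : Set W))
    (hAK : A ≤ Subgroup.normalizer (K : Set W)) (hC : C = K ⊓ Subgroup.centralizer (R : Set W))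
    (hCK : C ≤ K) (hcomm : ∀ x ∈ A, ∀ y ∈ A, x * y * x⁻¹ * y⁻¹ ∈ C)
    (θ : IrrCharacter K) (φ : IrrCharacter C) (hθR : ∀ r ∈ R, InvBy K (θ : K → ℂ) r)
    (hθA : ∀ x ∈ A, InvBy K (θ : K → ℂ) x) (hov : Over p hCK (θ : K → ℂ) (φ : C → ℂ))
    {x y : W} (hx : x ∈ A) (hy : y ∈ A) {c : ℂˣ} (hc : Pair K (θ : K → ℂ) x y c) :
    Pair C (φ : C → ℂ) x y c :=
  pairing_transfer_aux R A hR hA hAR _ K C hCK rfl hC hK hRK hAK hcomm θ φ hθR hθA hov x hx y hy c hc

end Cfsg.Agent.RelMcKay
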