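import Cfsg.Agent.Lib.RelMcKay.Triple
import Cfsg.Agent.Lib.Char.CoprimeDegree

/-!
# Characters of a `p'`-group extended by a `p`-group
-/

set_option autoImplicit false
set_option linter.style.haveILetI false
set_option linter.unusedSectionVars false

namespace Cfsg.Agent.RelMcKay

open Cfsg Cfsg.Agent Cfsg.Agent.Char Cfsg.Agent.CharExtend
open scoped ComplexConjugate

universe u

variable {W : Type u} [Group W] [Finite W]

/-- The projection of a semidirect product. -/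
theorem exists_proj {A B : Subgroup W} (hBA : B ≤ Subgroup.normalizer (A : Set W))
    (hAB : ∀ x ∈ A, x ∈ B → x = 1) :
    ∃ r : (A ⊔ B : Subgroup W) →* B, (∀ x : (A ⊔ B : Subgroup W), (x : W) * (r x : W)⁻¹ ∈ A) ∧
      ∀ x : (A ⊔ B : Subgroup W), (x : W) ∈ B → (r x : W) = x := by
  have hdec : ∀ x : (A ⊔ B : Subgroup W), ∃ b : B, (x : W) * (b : W)⁻¹ ∈ A := fun x => by
    have hx := x.2
    rw [← SetLike.mem_coe, Subgroup.coe_mul_of_right_le_normalizer_left _ _ hBA] at hx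
    obtain ⟨a, ha, b, hb, hab⟩ := hx
    exact ⟨⟨b, hb⟩, by rw [← hab]; simpa using ha⟩
  have huniq : ∀ (x : W) (b b' : B), x * (b : W)⁻¹ ∈ A → x * (b' : W)⁻¹ ∈ A → b = b' := by
    intro x b b' h h'
    have h1 := mul_mem (inv_mem h') h
    rw [show (x * (b' : W)⁻¹)⁻¹ * (x * (b : W)⁻¹) = (b' : W) * (b : W)⁻¹ by group] at h1
    have h2 := hAB _ h1 (mul_mem b'.2 (inv_mem b.2))
    exact Subtype.ext (mul_inv_eq_one.1 h2).symm
  choose r hr using hdec
  refine ⟨MonoidHom.mk' r fun x y => huniq _ _ _ (hr (x * y)) ?_, hr,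
    fun x hx => congrArg Subtype.val (huniq _ _ ⟨x, hx⟩ (hr x) (by simp))⟩
  show (x : W) * y * ((r x : W) * (r y : W))⁻¹ ∈ A
  rw [show (x : W) * y * ((r x : W) * (r y : W))⁻¹ =
    (x : W) * (r x : W)⁻¹ * ((r x : W) * ((y : W) * (r y : W)⁻¹) * (r x : W)⁻¹) by group]
  exact mul_mem (hr x) (conj_mem (hBA (r x).2) (hr y))

theorem disjoint_pp' {p : ℕ} [hp : Fact p.Prime] {K S : Subgroup W} (hK : ¬ p ∣ Nat.card K)
    (hS : IsPGroup p S) : ∀ x ∈ K, x ∈ S → x = 1 := by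
  intro x hxK hxS
  obtain ⟨j, hj⟩ := hS ⟨x, hxS⟩
  refine eq_one_of_pow_coprime (a := Nat.card K) ?_ (show x ^ p ^ j = 1 by
    simpa using congrArg Subtype.val hj)
    (Nat.Coprime.pow_right j ((hp.out.coprime_iff_not_dvd.2 hK).symm))
  exact congrArg Subtype.val (pow_card_eq_one' (x := (⟨x, hxK⟩ : K)))

theorem pow_card_mem {p : ℕ} [Fact p.Prime] {K S : Subgroup W} (hK : ¬ p ∣ Nat.card K)
    (hS : IsPGroup p S) (hSK : S ≤ Subgroup.centralizer (K : Set W))
    (x : (K ⊔ S : Subgroup W)) :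
    (x : W) ^ Nat.card S ∈ K ∧ (x : W) ^ Nat.card K ∈ S := by
  have hn : S ≤ Subgroup.normalizer (K : Set W) := fun s hs => mem_normalizer_of_conj_mem fun k hk => by
    rw [← Subgroup.mem_centralizer_iff.1 (hSK hs) k hk, mul_inv_cancel_right]; exact hk
  obtain ⟨r, hr, -⟩ := exists_proj hn (disjoint_pp' hK hS)
  set k := (x : W) * (r x : W)⁻¹ with hk
  have hx : (x : W) = k * (r x : W) := by rw [hk, inv_mul_cancel_right]
  have hc : Commute k (r x : W) := Subgroup.mem_centralizer_iff.1 (hSK (r x).2) k (hr x)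
  have h1 : (r x : W) ^ Nat.card S = 1 := by
    rw [← SubgroupClass.coe_pow, pow_card_eq_one', OneMemClass.coe_one]
  have h2 : k ^ Nat.card K = 1 := by
    exact congrArg Subtype.val (pow_card_eq_one' (x := (⟨k, hr x⟩ : K)))
  constructor
  · rw [hx, hc.mul_pow, h1, mul_one]; exact pow_mem (hr x) _
  · rw [hx, hc.mul_pow, h2, one_mul]; exact pow_mem (r x).2 _

/-- The determinant as a homomorphism. -/
theorem exists_det_hom {X : Type u} [Group X] [Finite X] {χ : X → ℂ} (h : IsCharacter X χ) :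
    ∃ μ : X →* ℂˣ, ∀ x, detChar χ x = μ x := by
  obtain ⟨n, ρ, rfl⟩ := h
  exact ⟨detHom ρ, fun x => congrFun (detChar_eq ρ) x⟩

theorem detChar_comp {X Y : Type u} [Group X] [Group Y] [Finite X] [Finite Y] (f : Y →* X)
    {χ : X → ℂ} (h : IsCharacter X χ) (y : Y) :
    detChar (fun y => χ (f y)) y = detChar χ (f y) := by
  obtain ⟨n, ρ, rfl⟩ := h
  let ρ' : Representation ℂ Y (Fin n → ℂ) := ρ.comp f
  rw [show (fun y => ρ.character (f y)) = ρ'.character from rfl, detChar_eq, detChar_eq]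
  rfl

theorem detChar_twist {X : Type u} [Group X] [Finite X] {χ : X → ℂ} (h : IsCharacter X χ)
    (lam : X →* ℂˣ) (x : X) :
    detChar (fun x => (lam x : ℂ) * χ x) x = (lam x : ℂ) ^ charDegree χ * detChar χ x := by
  obtain ⟨n, ρ, rfl⟩ := h
  let η : Representation ℂ X (Fin n → ℂ) :=
    { toFun := fun x => (lam x : ℂ) • ρ x
      map_one' := by simp
      map_mul' := fun a b => by
        rw [map_mul, map_mul, Units.val_mul, smul_mul_smul_comm] }
  have hη : η.character = fun x => (lam x : ℂ) * ρ.character x := funext fun x => by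
    show LinearMap.trace ℂ _ ((lam x : ℂ) • ρ x) = _
    rw [map_smul, smul_eq_mul]; rfl
  rw [← hη, detChar_eq, detChar_eq, det_smul_rep ρ η lam fun g => rfl]
  simp [charDegree]

theorem detChar_central {X : Type u} [Group X] [Finite X] {χ : X → ℂ} (h : IsIrrCharacter X χ)
    {z : X} (hz : z ∈ Subgroup.center X) {c : ℂ} (hc : χ z = c * χ 1) :
    detChar χ z = c ^ charDegree χ := by
  obtain ⟨n, ρ, hρ, rfl⟩ := h
  obtain ⟨c', hc'⟩ := schur_scalar ρ (ρ z) fun g v => by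
    rw [← Module.End.mul_apply, ← map_mul, ← Module.End.mul_apply, ← map_mul,
      Subgroup.mem_center_iff.1 hz g]
  have h1 : ρ.character z = c' * ρ.character 1 := by
    rw [Representation.char_one, Representation.character, hc', map_smul, smul_eq_mul,
      LinearMap.trace_id]
  have hne : ρ.character 1 ≠ 0 := IsIrrCharacter.one_ne_zero (isIrrCharacter_of_rep ρ)
  have he : c' = c := mul_right_cancel₀ hne (h1.symm.trans hc)
  rw [detChar_eq]
  show (detHom ρ z : ℂ) = _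
  rw [detHom_apply, hc', he, LinearMap.det_smul, LinearMap.det_id, mul_one]
  simp [charDegree]

section split

variable {p : ℕ} [hp : Fact p.Prime] {K S : Subgroup W} (hK : ¬ p ∣ Nat.card K) (hS : IsPGroup p S)
  (hSK : S ≤ Subgroup.normalizer (K : Set W))

include hK hS hSK

theorem split_index_coprime :
    (Nat.card (K.subgroupOf (K ⊔ S))).Coprime (K.subgroupOf (K ⊔ S)).index := by
  obtain ⟨m, hm⟩ := IsPGroup.iff_card.1 hS
  have h := SolvBasic.card_sup_mul_card_inf hSK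
  have h1 : Nat.card K * K.relIndex (K ⊔ S) = Nat.card (K ⊔ S : Subgroup W) := by
    rw [← Subgroup.relIndex_bot_left, Subgroup.relIndex_mul_relIndex _ _ _ bot_le le_sup_left,
      Subgroup.relIndex_bot_left]
  rw [← h1, mul_assoc] at h
  have h2 : K.relIndex (K ⊔ S) ∣ p ^ m :=
    hm ▸ Dvd.intro _ (Nat.eq_of_mul_eq_mul_left Nat.card_pos h)
  rw [Nat.card_congr (Subgroup.subgroupOfEquivOfLe (le_sup_left : K ≤ K ⊔ S)).toEquiv]
  exact ((hp.out.coprime_iff_not_dvd.2 hK).symm.pow_right m).coprime_dvd_right h2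

/-- Invariant characters extend. -/
theorem split_extend (θ₀ : IrrCharacter K) (hinv : ∀ s ∈ S, InvBy K (θ₀ : K → ℂ) s) :
    ∃ χ : IrrCharacter (K ⊔ S : Subgroup W),
      ∀ k : K, (χ : (K ⊔ S : Subgroup W) → ℂ) ⟨k, le_sup_left (α := Subgroup W) k.2⟩ = (θ₀ : K → ℂ) k := by
  have hUK : (K ⊔ S : Subgroup W) ≤ Subgroup.normalizer (K : Set W) := sup_le Subgroup.le_normalizer hSK
  haveI : (K.subgroupOf (K ⊔ S : Subgroup W)).Normal := (Subgroup.normal_subgroupOf_iff_le_normalizer le_sup_left).2 hUK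
  let e : K.subgroupOf (K ⊔ S : Subgroup W) ≃* K := Subgroup.subgroupOfEquivOfLe le_sup_left
  have hall : ∀ x ∈ (K ⊔ S : Subgroup W), InvBy K (θ₀ : K → ℂ) x := fun x hx =>
    ((sup_le (fun k hk => (⟨Subgroup.le_normalizer hk, invBy_of_mem θ₀.2 hk⟩ :
      k ∈ invSubgroup K (θ₀ : K → ℂ))) (fun s hs => ⟨hSK hs, hinv s hs⟩) :
        (K ⊔ S : Subgroup W) ≤ invSubgroup K (θ₀ : K → ℂ)) hx).2
  obtain ⟨χ, hχ, hres⟩ := CoprimeDegree.exists_extension_coprime (K.subgroupOf (K ⊔ S : Subgroup W)) (split_index_coprime hK hS hSK)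
    (θ := fun x => (θ₀ : K → ℂ) (e x)) (IsIrrCharacter.comp θ₀.2 e.toMonoidHom e.surjective)
    (fun g => funext fun k => hall g g.2 (e k) _ rfl)
  exact ⟨⟨χ, hχ⟩, fun k => hres ⟨⟨k, le_sup_left (α := Subgroup W) k.2⟩, k.2⟩⟩

/-- Two extensions differ by a linear character of the complement. -/
theorem split_twist {χ χ' : (K ⊔ S : Subgroup W) → ℂ} (hχ : IsIrrCharacter _ χ)
    (hχ' : IsIrrCharacter _ χ') {θ₀ : K → ℂ} (hθ₀ : IsIrrCharacter K θ₀)
    (h : ∀ k : K, χ ⟨k, le_sup_left (α := Subgroup W) k.2⟩ = θ₀ k)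
    (h' : ∀ k : K, χ' ⟨k, le_sup_left (α := Subgroup W) k.2⟩ = θ₀ k) :
    ∃ lam : (K ⊔ S : Subgroup W) →* ℂˣ, (∀ x : (K ⊔ S : Subgroup W), (x : W) ∈ K → lam x = 1) ∧
      ∀ x, χ' x = lam x * χ x := by
  classical
  haveI : (K.subgroupOf (K ⊔ S : Subgroup W)).Normal := (Subgroup.normal_subgroupOf_iff_le_normalizer le_sup_left).2
    (sup_le Subgroup.le_normalizer hSK)
  haveI := Fintype.ofFinite (K ⊔ S : Subgroup W)
  haveI := Fintype.ofFinite (K.subgroupOf (K ⊔ S : Subgroup W))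
  let e : K.subgroupOf (K ⊔ S : Subgroup W) ≃* K := Subgroup.subgroupOfEquivOfLe le_sup_left
  have hirr : IsIrrCharacter (K.subgroupOf (K ⊔ S : Subgroup W)) (fun x : K.subgroupOf (K ⊔ S : Subgroup W) => χ x) := by
    rw [show (fun x : K.subgroupOf (K ⊔ S : Subgroup W) => χ x) = fun x => θ₀ (e x) from funext fun x => h (e x)]
    exact IsIrrCharacter.comp hθ₀ e.toMonoidHom e.surjective
  obtain ⟨lam, hl, hlam⟩ := exists_twist (K.subgroupOf (K ⊔ S : Subgroup W)) hχ hχ' hirr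
    fun x => (h' (e x)).trans (h (e x)).symm
  exact ⟨lam, fun x hx => hl ⟨x, hx⟩, hlam⟩

/-- Characters of degree prime to `p` restrict irreducibly. -/
theorem split_restrict (θ : IrrCharacter (K ⊔ S : Subgroup W))
    (hθ : ¬ p ∣ charDegree (θ : (K ⊔ S : Subgroup W) → ℂ)) :
    ∃ θ₀ : IrrCharacter K, (∀ s ∈ S, InvBy K (θ₀ : K → ℂ) s) ∧
      ∀ k : K, (θ : (K ⊔ S : Subgroup W) → ℂ) ⟨k, le_sup_left (α := Subgroup W) k.2⟩ =
        (θ₀ : K → ℂ) k := by
  classical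
  have hUK : (K ⊔ S : Subgroup W) ≤ Subgroup.normalizer (K : Set W) := sup_le Subgroup.le_normalizer hSK
  haveI : (K.subgroupOf (K ⊔ S : Subgroup W)).Normal := (Subgroup.normal_subgroupOf_iff_le_normalizer le_sup_left).2 hUK
  haveI := Fintype.ofFinite (K ⊔ S : Subgroup W)
  haveI := Fintype.ofFinite (K.subgroupOf (K ⊔ S : Subgroup W))
  let e : K.subgroupOf (K ⊔ S : Subgroup W) ≃* K := Subgroup.subgroupOfEquivOfLe le_sup_left
  obtain ⟨η, hη⟩ := exists_restrict_constituent θ.2 (K.subgroupOf (K ⊔ S : Subgroup W))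
  obtain ⟨a, ha⟩ := IsCharacter.exists_classInner_nat
    (IsCharacter.restrict (IsIrrCharacter.isCharacter θ.2) (K.subgroupOf (K ⊔ S : Subgroup W)))
    (IsIrrCharacter.isCharacter η.2)
  have hd := clifford_degree (K.subgroupOf (K ⊔ S : Subgroup W)) θ.2 η.2 hη
  rw [ha, CharX.irr_deg, CharX.irr_deg] at hd
  have hd' : charDegree (θ : (K ⊔ S : Subgroup W) → ℂ) = a * (inertia (K.subgroupOf (K ⊔ S : Subgroup W)) (η : K.subgroupOf (K ⊔ S : Subgroup W) → ℂ)).index *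
      charDegree (η : K.subgroupOf (K ⊔ S : Subgroup W) → ℂ) := by exact_mod_cast hd
  obtain ⟨m, hm⟩ := IsPGroup.iff_card.1 hS
  obtain ⟨r, hr1, hr2⟩ := exists_proj hSK (disjoint_pp' hK hS)
  have hrs : Function.Surjective r := fun s =>
    ⟨⟨s, le_sup_right (α := Subgroup W) s.2⟩, Subtype.ext (hr2 _ s.2)⟩
  have hrk : ∀ x, r x = 1 → (x : W) ∈ K := fun x hx => by simpa [hx] using hr1 x
  have hrk' : ∀ x : (K ⊔ S : Subgroup W), (x : W) ∈ K → r x = 1 := fun x hx => Subtype.ext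
    (disjoint_pp' hK hS _ (by
      have := mul_mem (inv_mem (hr1 x)) hx
      simpa using this) (r x).2)
  have hker : r.ker = K.subgroupOf (K ⊔ S : Subgroup W) := Subgroup.ext fun x => ⟨fun h => hrk x h, fun h => hrk' x h⟩
  have hidx : (K.subgroupOf (K ⊔ S : Subgroup W)).index = p ^ m := by
    rw [← hker, Subgroup.index_ker, MonoidHom.range_eq_top.2 hrs, Subgroup.card_top, hm]
  have hI : inertia (K.subgroupOf (K ⊔ S : Subgroup W)) (η : K.subgroupOf (K ⊔ S : Subgroup W) → ℂ) = ⊤ := by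
    rw [← Subgroup.index_eq_one]
    obtain ⟨j, -, hj⟩ := (Nat.dvd_prime_pow hp.out).1 (hidx ▸ Subgroup.index_dvd_of_le
      (le_inertia (K.subgroupOf (K ⊔ S : Subgroup W))
        (IsCharacter.isClassFunction (IsIrrCharacter.isCharacter η.2))))
    rcases Nat.eq_zero_or_pos j with rfl | hj0
    · rw [hj, pow_zero]
    · exact absurd (hd' ▸ Dvd.dvd.mul_right (Dvd.dvd.mul_left (hj ▸ dvd_pow_self p hj0.ne') _) _) hθ
  let θ₀ : IrrCharacter K :=
    ⟨fun k => (η : K.subgroupOf (K ⊔ S : Subgroup W) → ℂ) (e.symm k),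
      IsIrrCharacter.comp η.2 e.symm.toMonoidHom e.symm.surjective⟩
  have hinv : ∀ s ∈ S, InvBy K (θ₀ : K → ℂ) s := fun s hs k k' hk => by
    have hmem : (⟨s, le_sup_right (α := Subgroup W) hs⟩ : (K ⊔ S : Subgroup W)) ∈
        inertia (K.subgroupOf (K ⊔ S : Subgroup W)) (η : K.subgroupOf (K ⊔ S : Subgroup W) → ℂ) := hI ▸ Subgroup.mem_top _
    refine Eq.trans ?_ (congrFun ((mem_inertia _).1 hmem) (e.symm k))
    exact congrArg (η : K.subgroupOf (K ⊔ S : Subgroup W) → ℂ) (Subtype.ext (Subtype.ext hk))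
  obtain ⟨χ, hχ⟩ := split_extend hK hS hSK θ₀ hinv
  have hχη : (fun x : K.subgroupOf (K ⊔ S : Subgroup W) => (χ : (K ⊔ S : Subgroup W) → ℂ) x) = (η : K.subgroupOf (K ⊔ S : Subgroup W) → ℂ) := funext fun x =>
    (hχ (e x)).trans (congrArg (η : K.subgroupOf (K ⊔ S : Subgroup W) → ℂ) (e.symm_apply_apply x))
  obtain ⟨-, -, h3⟩ := gallagher_one (K.subgroupOf (K ⊔ S : Subgroup W)) (IsIrrCharacter.isCharacter χ.2) (hχη ▸ η.2)
  obtain ⟨β, hβ, heq⟩ := h3 θ θ.2 (by rw [hχη]; exact hη)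
  obtain ⟨ξ, hξ⟩ := exists_factor hrs β.2 fun x hx => hβ ⟨x, hrk x hx⟩
  have hb : charDegree (β : (K ⊔ S : Subgroup W) → ℂ) = charDegree (ξ : S → ℂ) := by
    simp [charDegree, hξ 1]
  have hmul : charDegree (θ : (K ⊔ S : Subgroup W) → ℂ) = charDegree (β : (K ⊔ S : Subgroup W) → ℂ) * charDegree (χ : (K ⊔ S : Subgroup W) → ℂ) := by
    have := congrFun heq 1
    rw [Pi.mul_apply, CharX.irr_deg, CharX.irr_deg, CharX.irr_deg] at this
    exact_mod_cast this.symm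
  have hb1 : charDegree (β : (K ⊔ S : Subgroup W) → ℂ) = 1 := by
    obtain ⟨j, -, hj⟩ := (Nat.dvd_prime_pow hp.out).1 (hm ▸ CharX.irr_deg_dvd_card ξ)
    rcases Nat.eq_zero_or_pos j with rfl | hj0
    · rw [hb, hj, pow_zero]
    · exact absurd (hmul ▸ Dvd.dvd.mul_right (hb ▸ hj ▸ dvd_pow_self p hj0.ne') _) hθ
  refine ⟨θ₀, hinv, fun k => ?_⟩
  have := congrFun heq ⟨k, le_sup_left (α := Subgroup W) k.2⟩
  rw [Pi.mul_apply, hβ ⟨⟨k, le_sup_left (α := Subgroup W) k.2⟩, k.2⟩, CharX.irr_deg, hb1,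
    Nat.cast_one, one_mul] at this
  exact this.symm.trans (hχ k)

theorem charDegree_res (θ : IrrCharacter (K ⊔ S : Subgroup W)) (θ₀ : IrrCharacter K)
    (h : ∀ k : K, (θ : (K ⊔ S : Subgroup W) → ℂ) ⟨k, le_sup_left (α := Subgroup W) k.2⟩ =
      (θ₀ : K → ℂ) k) :
    charDegree (θ : (K ⊔ S : Subgroup W) → ℂ) = charDegree (θ₀ : K → ℂ) ∧
      ¬ p ∣ charDegree (θ₀ : K → ℂ) := by
  refine ⟨congrArg (fun c : ℂ => ⌊c.re⌋₊) ?_, fun hd => hK (hd.trans (CharX.irr_deg_dvd_card θ₀))⟩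
  have := h 1
  exact this

/-- Twisting by a prescribed linear character of the complement. -/
theorem split_linear (ω : S →* ℂˣ) :
    ∃ lam : (K ⊔ S : Subgroup W) →* ℂˣ, (∀ x : (K ⊔ S : Subgroup W), (x : W) ∈ K → lam x = 1) ∧
      ∀ s : S, lam ⟨s, le_sup_right (α := Subgroup W) s.2⟩ = ω s := by
  obtain ⟨r, hr1, hr2⟩ := exists_proj hSK (disjoint_pp' hK hS)
  refine ⟨ω.comp r, fun x hx => ?_, fun s => congrArg ω (Subtype.ext (hr2 _ s.2))⟩
  have h1 : r x = 1 := Subtype.ext (disjoint_pp' hK hS _ (by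
    have := mul_mem (inv_mem (hr1 x)) hx
    simpa using this) (r x).2)
  rw [MonoidHom.comp_apply, h1, map_one]

theorem linear_ext_eq {lam lam' : (K ⊔ S : Subgroup W) →* ℂˣ}
    (hk : ∀ x : (K ⊔ S : Subgroup W), (x : W) ∈ K → lam x = lam' x)
    (hs : ∀ x : (K ⊔ S : Subgroup W), (x : W) ∈ S → lam x = lam' x) :
    lam = lam' := by
  obtain ⟨r, hr1, hr2⟩ := exists_proj hSK (disjoint_pp' hK hS)
  refine MonoidHom.ext fun x => ?_
  have e : x = ⟨(x : W) * (r x : W)⁻¹, le_sup_left (α := Subgroup W) (hr1 x)⟩ *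
      ⟨r x, le_sup_right (α := Subgroup W) (r x).2⟩ := Subtype.ext (inv_mul_cancel_right _ _).symm
  rw [e, map_mul, map_mul, hk _ (hr1 x), hs _ (r x).2]

end split

end Cfsg.Agent.RelMcKay
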